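import Mathlib

/-!
The two integers below the minimal degree of ²E₆(q) which do not divide its order.
-/

set_option autoImplicit false

namespace Cfsg.Agent.Small.TwE6Deg

/-- A factor replaced by a constant. -/
theorem dvd_const {k A P L s t : ℤ} (e : ℕ) (h : k ∣ A * P ^ e) (hb : s * k + t * P = L) : k ∣ A * L ^ e := by
  induction e generalizing A with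
  | zero => simpa using h
  | succ e ih =>
    obtain ⟨w, hw⟩ := h
    have h1 : k ∣ A * P ^ e * L :=
      ⟨A * P ^ e * s + t * w, by
        rw [← hb]; linear_combination t * hw⟩
    have h2 : k ∣ (A * L) * P ^ e := by rwa [mul_right_comm]
    have h3 := ih h2
    rwa [pow_succ', ← mul_assoc]

theorem order_factor (x : ℤ) : x ^ 36 * (x ^ 2 - 1) * (x ^ 5 + 1) * (x ^ 6 - 1) * (x ^ 8 - 1) * (x ^ 9 + 1) *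
    (x ^ 12 - 1) = x ^ 36 * (-1 + x) ^ 4 * (1 + x) ^ 6 * (1 + x + x ^ 2) ^ 2 * (1 + x ^ 2) ^ 2 * (1 - x + x ^ 2) ^ 3 * (1 + x ^ 4) ^ 1 * (1 - x + x ^ 2 - x ^ 3 + x ^ 4) ^ 1 * (1 - x ^ 2 + x ^ 4) ^ 1 * (1 - x ^ 3 + x ^ 6) ^ 1 := by ring

theorem dvd_G (x : ℤ) (h : (-1 + x - x ^ 2 + x ^ 3 - x ^ 4 + x ^ 5 + x ^ 7) ∣ x ^ 36 * (-1 + x) ^ 4 * (1 + x) ^ 6 * (1 + x + x ^ 2) ^ 2 * (1 + x ^ 2) ^ 2 * (1 - x + x ^ 2) ^ 3 * (1 + x ^ 4) ^ 1 * (1 - x + x ^ 2 - x ^ 3 + x ^ 4) ^ 1 * (1 - x ^ 2 + x ^ 4) ^ 1 * (1 - x ^ 3 + x ^ 6) ^ 1) :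
    (-1 + x - x ^ 2 + x ^ 3 - x ^ 4 + x ^ 5 + x ^ 7) ∣ (4353013 : ℤ) := by
  set A : ℤ := (-1 + x - x ^ 2 + x ^ 3 - x ^ 4 + x ^ 5 + x ^ 7) with hA
  have h0 : A ∣ ((-1 + x) ^ 4 * (1 + x) ^ 6 * (1 + x + x ^ 2) ^ 2 * (1 + x ^ 2) ^ 2 * (1 - x + x ^ 2) ^ 3 * (1 + x ^ 4) ^ 1 * (1 - x + x ^ 2 - x ^ 3 + x ^ 4) ^ 1 * (1 - x ^ 2 + x ^ 4) ^ 1 * (1 - x ^ 3 + x ^ 6) ^ 1) * x ^ 36 := by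
    refine dvd_trans h (dvd_of_eq ?_)
    ring
  have k0 : A ∣ ((-1 + x) ^ 4 * (1 + x) ^ 6 * (1 + x + x ^ 2) ^ 2 * (1 + x ^ 2) ^ 2 * (1 - x + x ^ 2) ^ 3 * (1 + x ^ 4) ^ 1 * (1 - x + x ^ 2 - x ^ 3 + x ^ 4) ^ 1 * (1 - x ^ 2 + x ^ 4) ^ 1 * (1 - x ^ 3 + x ^ 6) ^ 1) * (1 : ℤ) ^ 36 := dvd_const (s := (-1)) (t := (1 - x + x ^ 2 - x ^ 3 + x ^ 4 + x ^ 6)) 36 h0 (by rw [hA]; ring)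
  have h1 : A ∣ ((1 : ℤ) ^ 36 * (1 + x) ^ 6 * (1 + x + x ^ 2) ^ 2 * (1 + x ^ 2) ^ 2 * (1 - x + x ^ 2) ^ 3 * (1 + x ^ 4) ^ 1 * (1 - x + x ^ 2 - x ^ 3 + x ^ 4) ^ 1 * (1 - x ^ 2 + x ^ 4) ^ 1 * (1 - x ^ 3 + x ^ 6) ^ 1) * (-1 + x) ^ 4 := by
    refine dvd_trans k0 (dvd_of_eq ?_)
    ring
  have k1 : A ∣ ((1 : ℤ) ^ 36 * (1 + x) ^ 6 * (1 + x + x ^ 2) ^ 2 * (1 + x ^ 2) ^ 2 * (1 - x + x ^ 2) ^ 3 * (1 + x ^ 4) ^ 1 * (1 - x + x ^ 2 - x ^ 3 + x ^ 4) ^ 1 * (1 - x ^ 2 + x ^ 4) ^ 1 * (1 - x ^ 3 + x ^ 6) ^ 1) * (1 : ℤ) ^ 4 := dvd_const (s := (1)) (t := (-2 - x - 2 * x ^ 2 - x ^ 3 - 2 * x ^ 4 - x ^ 5 - x ^ 6)) 4 h1 (by rw [hA]; ring)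
  have h2 : A ∣ ((1 : ℤ) ^ 36 * (1 : ℤ) ^ 4 * (1 + x + x ^ 2) ^ 2 * (1 + x ^ 2) ^ 2 * (1 - x + x ^ 2) ^ 3 * (1 + x ^ 4) ^ 1 * (1 - x + x ^ 2 - x ^ 3 + x ^ 4) ^ 1 * (1 - x ^ 2 + x ^ 4) ^ 1 * (1 - x ^ 3 + x ^ 6) ^ 1) * (1 + x) ^ 6 := by
    refine dvd_trans k1 (dvd_of_eq ?_)
    ring
  have k2 : A ∣ ((1 : ℤ) ^ 36 * (1 : ℤ) ^ 4 * (1 + x + x ^ 2) ^ 2 * (1 + x ^ 2) ^ 2 * (1 - x + x ^ 2) ^ 3 * (1 + x ^ 4) ^ 1 * (1 - x + x ^ 2 - x ^ 3 + x ^ 4) ^ 1 * (1 - x ^ 2 + x ^ 4) ^ 1 * (1 - x ^ 3 + x ^ 6) ^ 1) * (7 : ℤ) ^ 6 := dvd_const (s := (-1)) (t := (6 - 5 * x + 4 * x ^ 2 - 3 * x ^ 3 + 2 * x ^ 4 - x ^ 5 + x ^ 6)) 6 h2 (by rw [hA]; ring)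
  have h3 : A ∣ ((1 : ℤ) ^ 36 * (1 : ℤ) ^ 4 * (7 : ℤ) ^ 6 * (1 + x ^ 2) ^ 2 * (1 - x + x ^ 2) ^ 3 * (1 + x ^ 4) ^ 1 * (1 - x + x ^ 2 - x ^ 3 + x ^ 4) ^ 1 * (1 - x ^ 2 + x ^ 4) ^ 1 * (1 - x ^ 3 + x ^ 6) ^ 1) * (1 + x + x ^ 2) ^ 2 := by
    refine dvd_trans k2 (dvd_of_eq ?_)
    ring
  have k3 : A ∣ ((1 : ℤ) ^ 36 * (1 : ℤ) ^ 4 * (7 : ℤ) ^ 6 * (1 + x ^ 2) ^ 2 * (1 - x + x ^ 2) ^ 3 * (1 + x ^ 4) ^ 1 * (1 - x + x ^ 2 - x ^ 3 + x ^ 4) ^ 1 * (1 - x ^ 2 + x ^ 4) ^ 1 * (1 - x ^ 3 + x ^ 6) ^ 1) * (1 : ℤ) ^ 2 := dvd_const (s := (-1 - x)) (t := (x ^ 6)) 2 h3 (by rw [hA]; ring)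
  have h4 : A ∣ ((1 : ℤ) ^ 36 * (1 : ℤ) ^ 4 * (7 : ℤ) ^ 6 * (1 : ℤ) ^ 2 * (1 - x + x ^ 2) ^ 3 * (1 + x ^ 4) ^ 1 * (1 - x + x ^ 2 - x ^ 3 + x ^ 4) ^ 1 * (1 - x ^ 2 + x ^ 4) ^ 1 * (1 - x ^ 3 + x ^ 6) ^ 1) * (1 + x ^ 2) ^ 2 := by
    refine dvd_trans k3 (dvd_of_eq ?_)
    ring
  have k4 : A ∣ ((1 : ℤ) ^ 36 * (1 : ℤ) ^ 4 * (7 : ℤ) ^ 6 * (1 : ℤ) ^ 2 * (1 - x + x ^ 2) ^ 3 * (1 + x ^ 4) ^ 1 * (1 - x + x ^ 2 - x ^ 3 + x ^ 4) ^ 1 * (1 - x ^ 2 + x ^ 4) ^ 1 * (1 - x ^ 3 + x ^ 6) ^ 1) * (1 : ℤ) ^ 2 := dvd_const (s := (-1)) (t := (x - x ^ 2 + x ^ 5)) 2 h4 (by rw [hA]; ring)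
  have h5 : A ∣ ((1 : ℤ) ^ 36 * (1 : ℤ) ^ 4 * (7 : ℤ) ^ 6 * (1 : ℤ) ^ 2 * (1 : ℤ) ^ 2 * (1 + x ^ 4) ^ 1 * (1 - x + x ^ 2 - x ^ 3 + x ^ 4) ^ 1 * (1 - x ^ 2 + x ^ 4) ^ 1 * (1 - x ^ 3 + x ^ 6) ^ 1) * (1 - x + x ^ 2) ^ 3 := by
    refine dvd_trans k4 (dvd_of_eq ?_)
    ring
  have k5 : A ∣ ((1 : ℤ) ^ 36 * (1 : ℤ) ^ 4 * (7 : ℤ) ^ 6 * (1 : ℤ) ^ 2 * (1 : ℤ) ^ 2 * (1 + x ^ 4) ^ 1 * (1 - x + x ^ 2 - x ^ 3 + x ^ 4) ^ 1 * (1 - x ^ 2 + x ^ 4) ^ 1 * (1 - x ^ 3 + x ^ 6) ^ 1) * (1 : ℤ) ^ 3 := dvd_const (s := (1 - x)) (t := (2 - 2 * x ^ 3 + x ^ 6)) 3 h5 (by rw [hA]; ring)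
  have h6 : A ∣ ((1 : ℤ) ^ 36 * (1 : ℤ) ^ 4 * (7 : ℤ) ^ 6 * (1 : ℤ) ^ 2 * (1 : ℤ) ^ 2 * (1 : ℤ) ^ 3 * (1 - x + x ^ 2 - x ^ 3 + x ^ 4) ^ 1 * (1 - x ^ 2 + x ^ 4) ^ 1 * (1 - x ^ 3 + x ^ 6) ^ 1) * (1 + x ^ 4) ^ 1 := by
    refine dvd_trans k5 (dvd_of_eq ?_)
    ring
  have k6 : A ∣ ((1 : ℤ) ^ 36 * (1 : ℤ) ^ 4 * (7 : ℤ) ^ 6 * (1 : ℤ) ^ 2 * (1 : ℤ) ^ 2 * (1 : ℤ) ^ 3 * (1 - x + x ^ 2 - x ^ 3 + x ^ 4) ^ 1 * (1 - x ^ 2 + x ^ 4) ^ 1 * (1 - x ^ 3 + x ^ 6) ^ 1) * (1 : ℤ) ^ 1 := dvd_const (s := (x ^ 2)) (t := (1 + x ^ 2 - x ^ 3 - x ^ 5)) 1 h6 (by rw [hA]; ring)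
  have h7 : A ∣ ((1 : ℤ) ^ 36 * (1 : ℤ) ^ 4 * (7 : ℤ) ^ 6 * (1 : ℤ) ^ 2 * (1 : ℤ) ^ 2 * (1 : ℤ) ^ 3 * (1 : ℤ) ^ 1 * (1 - x ^ 2 + x ^ 4) ^ 1 * (1 - x ^ 3 + x ^ 6) ^ 1) * (1 - x + x ^ 2 - x ^ 3 + x ^ 4) ^ 1 := by
    refine dvd_trans k6 (dvd_of_eq ?_)
    ring
  have k7 : A ∣ ((1 : ℤ) ^ 36 * (1 : ℤ) ^ 4 * (7 : ℤ) ^ 6 * (1 : ℤ) ^ 2 * (1 : ℤ) ^ 2 * (1 : ℤ) ^ 3 * (1 : ℤ) ^ 1 * (1 - x ^ 2 + x ^ 4) ^ 1 * (1 - x ^ 3 + x ^ 6) ^ 1) * (1 : ℤ) ^ 1 := dvd_const (s := (-x + x ^ 2)) (t := (1 + x ^ 2 - x ^ 5)) 1 h7 (by rw [hA]; ring)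
  have h8 : A ∣ ((1 : ℤ) ^ 36 * (1 : ℤ) ^ 4 * (7 : ℤ) ^ 6 * (1 : ℤ) ^ 2 * (1 : ℤ) ^ 2 * (1 : ℤ) ^ 3 * (1 : ℤ) ^ 1 * (1 : ℤ) ^ 1 * (1 - x ^ 3 + x ^ 6) ^ 1) * (1 - x ^ 2 + x ^ 4) ^ 1 := by
    refine dvd_trans k7 (dvd_of_eq ?_)
    ring
  have k8 : A ∣ ((1 : ℤ) ^ 36 * (1 : ℤ) ^ 4 * (7 : ℤ) ^ 6 * (1 : ℤ) ^ 2 * (1 : ℤ) ^ 2 * (1 : ℤ) ^ 3 * (1 : ℤ) ^ 1 * (1 : ℤ) ^ 1 * (1 - x ^ 3 + x ^ 6) ^ 1) * (37 : ℤ) ^ 1 := dvd_const (s := (-14 - 11 * x + 8 * x ^ 2 + x ^ 3)) (t := (23 + 3 * x + 28 * x ^ 2 - x ^ 3 + 9 * x ^ 4 - 8 * x ^ 5 - x ^ 6)) 1 h8 (by rw [hA]; ring)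
  have h9 : A ∣ ((1 : ℤ) ^ 36 * (1 : ℤ) ^ 4 * (7 : ℤ) ^ 6 * (1 : ℤ) ^ 2 * (1 : ℤ) ^ 2 * (1 : ℤ) ^ 3 * (1 : ℤ) ^ 1 * (1 : ℤ) ^ 1 * (37 : ℤ) ^ 1) * (1 - x ^ 3 + x ^ 6) ^ 1 := by
    refine dvd_trans k8 (dvd_of_eq ?_)
    ring
  have k9 : A ∣ ((1 : ℤ) ^ 36 * (1 : ℤ) ^ 4 * (7 : ℤ) ^ 6 * (1 : ℤ) ^ 2 * (1 : ℤ) ^ 2 * (1 : ℤ) ^ 3 * (1 : ℤ) ^ 1 * (1 : ℤ) ^ 1 * (37 : ℤ) ^ 1) * (1 : ℤ) ^ 1 := dvd_const (s := (-1 + x ^ 2 - x ^ 4)) (t := (x + x ^ 5)) 1 h9 (by rw [hA]; ring)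
  convert k9 using 1 <;> norm_num

theorem dvd_H (x : ℤ) (h : (2 + x + x ^ 2 + x ^ 3 + 2 * x ^ 4 + x ^ 5 + x ^ 6 + x ^ 8 + x ^ 9 + x ^ 10) ∣ x ^ 36 * (-1 + x) ^ 4 * (1 + x) ^ 6 * (1 + x + x ^ 2) ^ 2 * (1 + x ^ 2) ^ 2 * (1 - x + x ^ 2) ^ 3 * (1 + x ^ 4) ^ 1 * (1 - x + x ^ 2 - x ^ 3 + x ^ 4) ^ 1 * (1 - x ^ 2 + x ^ 4) ^ 1 * (1 - x ^ 3 + x ^ 6) ^ 1) :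
    (2 + x + x ^ 2 + x ^ 3 + 2 * x ^ 4 + x ^ 5 + x ^ 6 + x ^ 8 + x ^ 9 + x ^ 10) ∣ (36981110181769223602176 : ℤ) := by
  set A : ℤ := (2 + x + x ^ 2 + x ^ 3 + 2 * x ^ 4 + x ^ 5 + x ^ 6 + x ^ 8 + x ^ 9 + x ^ 10) with hA
  have h0 : A ∣ ((-1 + x) ^ 4 * (1 + x) ^ 6 * (1 + x + x ^ 2) ^ 2 * (1 + x ^ 2) ^ 2 * (1 - x + x ^ 2) ^ 3 * (1 + x ^ 4) ^ 1 * (1 - x + x ^ 2 - x ^ 3 + x ^ 4) ^ 1 * (1 - x ^ 2 + x ^ 4) ^ 1 * (1 - x ^ 3 + x ^ 6) ^ 1) * x ^ 36 := by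
    refine dvd_trans h (dvd_of_eq ?_)
    ring
  have k0 : A ∣ ((-1 + x) ^ 4 * (1 + x) ^ 6 * (1 + x + x ^ 2) ^ 2 * (1 + x ^ 2) ^ 2 * (1 - x + x ^ 2) ^ 3 * (1 + x ^ 4) ^ 1 * (1 - x + x ^ 2 - x ^ 3 + x ^ 4) ^ 1 * (1 - x ^ 2 + x ^ 4) ^ 1 * (1 - x ^ 3 + x ^ 6) ^ 1) * (2 : ℤ) ^ 36 := dvd_const (s := (1)) (t := (-1 - x - x ^ 2 - 2 * x ^ 3 - x ^ 4 - x ^ 5 - x ^ 7 - x ^ 8 - x ^ 9)) 36 h0 (by rw [hA]; ring)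
  have h1 : A ∣ ((2 : ℤ) ^ 36 * (1 + x) ^ 6 * (1 + x + x ^ 2) ^ 2 * (1 + x ^ 2) ^ 2 * (1 - x + x ^ 2) ^ 3 * (1 + x ^ 4) ^ 1 * (1 - x + x ^ 2 - x ^ 3 + x ^ 4) ^ 1 * (1 - x ^ 2 + x ^ 4) ^ 1 * (1 - x ^ 3 + x ^ 6) ^ 1) * (-1 + x) ^ 4 := by
    refine dvd_trans k0 (dvd_of_eq ?_)
    ring
  have k1 : A ∣ ((2 : ℤ) ^ 36 * (1 + x) ^ 6 * (1 + x + x ^ 2) ^ 2 * (1 + x ^ 2) ^ 2 * (1 - x + x ^ 2) ^ 3 * (1 + x ^ 4) ^ 1 * (1 - x + x ^ 2 - x ^ 3 + x ^ 4) ^ 1 * (1 - x ^ 2 + x ^ 4) ^ 1 * (1 - x ^ 3 + x ^ 6) ^ 1) * (12 : ℤ) ^ 4 := dvd_const (s := (1)) (t := (-10 - 9 * x - 8 * x ^ 2 - 7 * x ^ 3 - 5 * x ^ 4 - 4 * x ^ 5 - 3 * x ^ 6 - 3 * x ^ 7 - 2 * x ^ 8 - x ^ 9)) 4 h1 (by rw [hA]; ring)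
  have h2 : A ∣ ((2 : ℤ) ^ 36 * (12 : ℤ) ^ 4 * (1 + x + x ^ 2) ^ 2 * (1 + x ^ 2) ^ 2 * (1 - x + x ^ 2) ^ 3 * (1 + x ^ 4) ^ 1 * (1 - x + x ^ 2 - x ^ 3 + x ^ 4) ^ 1 * (1 - x ^ 2 + x ^ 4) ^ 1 * (1 - x ^ 3 + x ^ 6) ^ 1) * (1 + x) ^ 6 := by
    refine dvd_trans k1 (dvd_of_eq ?_)
    ring
  have k2 : A ∣ ((2 : ℤ) ^ 36 * (12 : ℤ) ^ 4 * (1 + x + x ^ 2) ^ 2 * (1 + x ^ 2) ^ 2 * (1 - x + x ^ 2) ^ 3 * (1 + x ^ 4) ^ 1 * (1 - x + x ^ 2 - x ^ 3 + x ^ 4) ^ 1 * (1 - x ^ 2 + x ^ 4) ^ 1 * (1 - x ^ 3 + x ^ 6) ^ 1) * (4 : ℤ) ^ 6 := dvd_const (s := (1)) (t := (2 - 3 * x + 2 * x ^ 2 - 3 * x ^ 3 + x ^ 4 - 2 * x ^ 5 + x ^ 6 - x ^ 7 - x ^ 9)) 6 h2 (by rw [hA]; ring)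
  have h3 : A ∣ ((2 : ℤ) ^ 36 * (12 : ℤ) ^ 4 * (4 : ℤ) ^ 6 * (1 + x ^ 2) ^ 2 * (1 - x + x ^ 2) ^ 3 * (1 + x ^ 4) ^ 1 * (1 - x + x ^ 2 - x ^ 3 + x ^ 4) ^ 1 * (1 - x ^ 2 + x ^ 4) ^ 1 * (1 - x ^ 3 + x ^ 6) ^ 1) * (1 + x + x ^ 2) ^ 2 := by
    refine dvd_trans k2 (dvd_of_eq ?_)
    ring
  have k3 : A ∣ ((2 : ℤ) ^ 36 * (12 : ℤ) ^ 4 * (4 : ℤ) ^ 6 * (1 + x ^ 2) ^ 2 * (1 - x + x ^ 2) ^ 3 * (1 + x ^ 4) ^ 1 * (1 - x + x ^ 2 - x ^ 3 + x ^ 4) ^ 1 * (1 - x ^ 2 + x ^ 4) ^ 1 * (1 - x ^ 3 + x ^ 6) ^ 1) * (3 : ℤ) ^ 2 := dvd_const (s := (1 - x)) (t := (1 - x ^ 2 + x ^ 3 - x ^ 4 + x ^ 5 - x ^ 8 + x ^ 9)) 2 h3 (by rw [hA]; ring)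
  have h4 : A ∣ ((2 : ℤ) ^ 36 * (12 : ℤ) ^ 4 * (4 : ℤ) ^ 6 * (3 : ℤ) ^ 2 * (1 - x + x ^ 2) ^ 3 * (1 + x ^ 4) ^ 1 * (1 - x + x ^ 2 - x ^ 3 + x ^ 4) ^ 1 * (1 - x ^ 2 + x ^ 4) ^ 1 * (1 - x ^ 3 + x ^ 6) ^ 1) * (1 + x ^ 2) ^ 2 := by
    refine dvd_trans k3 (dvd_of_eq ?_)
    ring
  have k4 : A ∣ ((2 : ℤ) ^ 36 * (12 : ℤ) ^ 4 * (4 : ℤ) ^ 6 * (3 : ℤ) ^ 2 * (1 - x + x ^ 2) ^ 3 * (1 + x ^ 4) ^ 1 * (1 - x + x ^ 2 - x ^ 3 + x ^ 4) ^ 1 * (1 - x ^ 2 + x ^ 4) ^ 1 * (1 - x ^ 3 + x ^ 6) ^ 1) * (4 : ℤ) ^ 2 := dvd_const (s := (1 - x)) (t := (2 + x - 2 * x ^ 2 - x ^ 3 + x ^ 4 + 2 * x ^ 5 - x ^ 6 - x ^ 7 + x ^ 9)) 2 h4 (by rw [hA]; ring)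
  have h5 : A ∣ ((2 : ℤ) ^ 36 * (12 : ℤ) ^ 4 * (4 : ℤ) ^ 6 * (3 : ℤ) ^ 2 * (4 : ℤ) ^ 2 * (1 + x ^ 4) ^ 1 * (1 - x + x ^ 2 - x ^ 3 + x ^ 4) ^ 1 * (1 - x ^ 2 + x ^ 4) ^ 1 * (1 - x ^ 3 + x ^ 6) ^ 1) * (1 - x + x ^ 2) ^ 3 := by
    refine dvd_trans k4 (dvd_of_eq ?_)
    ring
  have k5 : A ∣ ((2 : ℤ) ^ 36 * (12 : ℤ) ^ 4 * (4 : ℤ) ^ 6 * (3 : ℤ) ^ 2 * (4 : ℤ) ^ 2 * (1 + x ^ 4) ^ 1 * (1 - x + x ^ 2 - x ^ 3 + x ^ 4) ^ 1 * (1 - x ^ 2 + x ^ 4) ^ 1 * (1 - x ^ 3 + x ^ 6) ^ 1) * (1 : ℤ) ^ 3 := dvd_const (s := (-1 + x)) (t := (3 + 2 * x - x ^ 2 - 3 * x ^ 3 - x ^ 4 + x ^ 5 + 2 * x ^ 6 - x ^ 8 - x ^ 9)) 3 h5 (by rw [hA]; ring)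
  have h6 : A ∣ ((2 : ℤ) ^ 36 * (12 : ℤ) ^ 4 * (4 : ℤ) ^ 6 * (3 : ℤ) ^ 2 * (4 : ℤ) ^ 2 * (1 : ℤ) ^ 3 * (1 - x + x ^ 2 - x ^ 3 + x ^ 4) ^ 1 * (1 - x ^ 2 + x ^ 4) ^ 1 * (1 - x ^ 3 + x ^ 6) ^ 1) * (1 + x ^ 4) ^ 1 := by
    refine dvd_trans k5 (dvd_of_eq ?_)
    ring
  have k6 : A ∣ ((2 : ℤ) ^ 36 * (12 : ℤ) ^ 4 * (4 : ℤ) ^ 6 * (3 : ℤ) ^ 2 * (4 : ℤ) ^ 2 * (1 : ℤ) ^ 3 * (1 - x + x ^ 2 - x ^ 3 + x ^ 4) ^ 1 * (1 - x ^ 2 + x ^ 4) ^ 1 * (1 - x ^ 3 + x ^ 6) ^ 1) * (2 : ℤ) ^ 1 := dvd_const (s := (1 - x)) (t := (x - x ^ 4 + x ^ 7)) 1 h6 (by rw [hA]; ring)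
  have h7 : A ∣ ((2 : ℤ) ^ 36 * (12 : ℤ) ^ 4 * (4 : ℤ) ^ 6 * (3 : ℤ) ^ 2 * (4 : ℤ) ^ 2 * (1 : ℤ) ^ 3 * (2 : ℤ) ^ 1 * (1 - x ^ 2 + x ^ 4) ^ 1 * (1 - x ^ 3 + x ^ 6) ^ 1) * (1 - x + x ^ 2 - x ^ 3 + x ^ 4) ^ 1 := by
    refine dvd_trans k6 (dvd_of_eq ?_)
    ring
  have k7 : A ∣ ((2 : ℤ) ^ 36 * (12 : ℤ) ^ 4 * (4 : ℤ) ^ 6 * (3 : ℤ) ^ 2 * (4 : ℤ) ^ 2 * (1 : ℤ) ^ 3 * (2 : ℤ) ^ 1 * (1 - x ^ 2 + x ^ 4) ^ 1 * (1 - x ^ 3 + x ^ 6) ^ 1) * (11 : ℤ) ^ 1 := dvd_const (s := (6 - 3 * x - x ^ 2 - x ^ 3)) (t := (-1 - x - x ^ 2 - x ^ 3 - 7 * x ^ 4 - 4 * x ^ 5 + 3 * x ^ 6 + 7 * x ^ 7 + 3 * x ^ 8 + x ^ 9)) 1 h7 (by rw [hA]; ring)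
  have h8 : A ∣ ((2 : ℤ) ^ 36 * (12 : ℤ) ^ 4 * (4 : ℤ) ^ 6 * (3 : ℤ) ^ 2 * (4 : ℤ) ^ 2 * (1 : ℤ) ^ 3 * (2 : ℤ) ^ 1 * (11 : ℤ) ^ 1 * (1 - x ^ 3 + x ^ 6) ^ 1) * (1 - x ^ 2 + x ^ 4) ^ 1 := by
    refine dvd_trans k7 (dvd_of_eq ?_)
    ring
  have k8 : A ∣ ((2 : ℤ) ^ 36 * (12 : ℤ) ^ 4 * (4 : ℤ) ^ 6 * (3 : ℤ) ^ 2 * (4 : ℤ) ^ 2 * (1 : ℤ) ^ 3 * (2 : ℤ) ^ 1 * (11 : ℤ) ^ 1 * (1 - x ^ 3 + x ^ 6) ^ 1) * (1 : ℤ) ^ 1 := dvd_const (s := (1 - x)) (t := (-1 + x - x ^ 2 + x ^ 3 - x ^ 4 + x ^ 5 + x ^ 7)) 1 h8 (by rw [hA]; ring)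
  have h9 : A ∣ ((2 : ℤ) ^ 36 * (12 : ℤ) ^ 4 * (4 : ℤ) ^ 6 * (3 : ℤ) ^ 2 * (4 : ℤ) ^ 2 * (1 : ℤ) ^ 3 * (2 : ℤ) ^ 1 * (11 : ℤ) ^ 1 * (1 : ℤ) ^ 1) * (1 - x ^ 3 + x ^ 6) ^ 1 := by
    refine dvd_trans k8 (dvd_of_eq ?_)
    ring
  have k9 : A ∣ ((2 : ℤ) ^ 36 * (12 : ℤ) ^ 4 * (4 : ℤ) ^ 6 * (3 : ℤ) ^ 2 * (4 : ℤ) ^ 2 * (1 : ℤ) ^ 3 * (2 : ℤ) ^ 1 * (11 : ℤ) ^ 1 * (1 : ℤ) ^ 1) * (2 : ℤ) ^ 1 := dvd_const (s := (1 - x)) (t := (x + x ^ 5)) 1 h9 (by rw [hA]; ring)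
  convert k9 using 1 <;> norm_num

/-- The divisibility is impossible. -/
theorem not_dvd_order {q e : ℕ} (hq : 2 ≤ q) (he : e = 1 ∨ e = 2) :
    ¬ (q * (q ^ 6 - q ^ 3 + 1) * (q ^ 4 + 1) - e) ∣
      q ^ 36 * (q ^ 2 - 1) * (q ^ 5 + 1) * (q ^ 6 - 1) * (q ^ 8 - 1) * (q ^ 9 + 1) * (q ^ 12 - 1) := by
  intro hd
  by_cases hsm : q < 182
  · have hfin : ∀ q < 182, 2 ≤ q →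
        (q ^ 36 * (q ^ 2 - 1) * (q ^ 5 + 1) * (q ^ 6 - 1) * (q ^ 8 - 1) * (q ^ 9 + 1) * (q ^ 12 - 1)) %
            (q * (q ^ 6 - q ^ 3 + 1) * (q ^ 4 + 1) - 1) ≠ 0 ∧
        (q ^ 36 * (q ^ 2 - 1) * (q ^ 5 + 1) * (q ^ 6 - 1) * (q ^ 8 - 1) * (q ^ 9 + 1) * (q ^ 12 - 1)) %
            (q * (q ^ 6 - q ^ 3 + 1) * (q ^ 4 + 1) - 2) ≠ 0 := by decide +kernel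
    obtain ⟨h1, h2⟩ := hfin q hsm hq
    have h0 := Nat.mod_eq_zero_of_dvd hd
    rcases he with rfl | rfl
    exacts [h1 h0, h2 h0]
  have h36 : q ^ 3 ≤ q ^ 6 := Nat.pow_le_pow_right (by omega) (by omega)
  have hge : e ≤ q * (q ^ 6 - q ^ 3 + 1) * (q ^ 4 + 1) := by
    refine le_trans ?_ (Nat.mul_le_mul (Nat.mul_le_mul hq (Nat.le_add_left 1 _)) (Nat.le_add_left 1 _))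
    omega
  have hz := Int.natCast_dvd_natCast.2 hd
  simp only [Nat.cast_mul, Nat.cast_sub hge, Nat.cast_add, Nat.cast_sub h36,
    Nat.cast_sub (Nat.one_le_pow _ q (by omega)), Nat.cast_pow, Nat.cast_one] at hz
  rw [order_factor] at hz
  set x : ℤ := (q : ℤ) with hx
  have h182 : (182 : ℤ) ≤ x := by omega
  rcases he with rfl | rfl
  · have h' := (Dvd.intro_left (1 - x ^ 2 + x ^ 4) rfl).trans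
      ((dvd_of_eq (show (1 - x ^ 2 + x ^ 4) * (-1 + x - x ^ 2 + x ^ 3 - x ^ 4 + x ^ 5 + x ^ 7) =
        x * (x ^ 6 - x ^ 3 + 1) * (x ^ 4 + 1) - ((1 : ℕ) : ℤ) by push_cast; ring)).trans hz)
    have h := Int.le_of_dvd (by norm_num) (dvd_G x h')
    have : (182 : ℤ) ^ 7 ≤ x ^ 7 := pow_le_pow_left₀ (by norm_num) h182 7
    nlinarith [pow_nonneg (by omega : (0 : ℤ) ≤ x) 4, pow_nonneg (by omega : (0 : ℤ) ≤ x) 2]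
  · have h' := (Dvd.intro_left (-1 + x) rfl).trans
      ((dvd_of_eq (show (-1 + x) * (2 + x + x ^ 2 + x ^ 3 + 2 * x ^ 4 + x ^ 5 + x ^ 6 + x ^ 8 + x ^ 9 + x ^ 10) =
        x * (x ^ 6 - x ^ 3 + 1) * (x ^ 4 + 1) - ((2 : ℕ) : ℤ) by push_cast; ring)).trans hz)
    have h := Int.le_of_dvd (by norm_num) (dvd_H x h')
    have : (182 : ℤ) ^ 10 ≤ x ^ 10 := pow_le_pow_left₀ (by norm_num) h182 10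
    have hp : ∀ i : ℕ, 0 ≤ x ^ i := fun i => pow_nonneg (by omega) i
    nlinarith [hp 2, hp 3, hp 4, hp 5, hp 6, hp 8, hp 9]

end Cfsg.Agent.Small.TwE6Deg
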