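import Cfsg.Agent.Lib.Small.TwE6Deg.Cells

/-!
The bound for an invariant weight function.
-/

set_option autoImplicit false
set_option maxRecDepth 4000
set_option linter.unusedSectionVars false

namespace Cfsg.Agent.Small.TwE6Deg

open Cfsg.Lie Cfsg.Agent.Lie Finset
open Cfsg.Agent.Lie.E6 (Setup)
open scoped MatrixGroups

variable {K : Type*} [Field K] [Fintype K] {q : ℕ} (S : Setup K q) {C : Cfg} {W : (Pos → K) → ℕ}

/-- The exponent of a cell. -/
def lowExp (R : Row) : ℕ := ((R.adj.filter fun a => R.low.flatten.contains a.2.1).map Prod.fst).length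

section Facts

variable (hC : okCfg C = true) {R : Row} (hR : R ∈ C.rows) (hW : Inv q C.supp0 C.Lo W)
include hC hR hW S

theorem W_trans {c : K} (hc : c ≠ 0) (hcq : c ^ q = c) {t : ℕ → K} (ht : ∀ o ∈ R.T, Compat q t o) :
    W (mvs chevE6 QL R.T.flatten t (Pi.single R.i c)) = W (Pi.single R.i 1) := by
  obtain ⟨hi, him⟩ := row_long hC hR
  obtain ⟨f, -, hfi, hf⟩ := hW.scale R.i c hc hcq hi him
  rw [(hW.move _ (lo_T hC hR) t ht _ (fx_single S hi him hcq)).2,
    ← (hf _ (fx_single S hi him (one_pow q))).2]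
  congr 1
  funext m
  by_cases hm : m = R.i
  · subst hm; simp [hfi]
  · simp [Pi.single_eq_of_ne hm]

theorem W_restZero {y : Pos → K} (hy : Fx q C.supp0 y) (hc : y R.i ≠ 0) (h0 : RestZero R y) :
    W y = W (Pi.single R.i 1) := by
  have e := eq_trans S hC hR hW hy hc h0
  have hcq : y R.i ^ q = y R.i := by
    have := hy.mem_Fq S (row_long hC hR).1
    simpa [FqSet] using this
  conv_lhs => rw [e]
  exact W_trans S hC hR hW hc hcq (compat_neg S hC hR hy)

theorem rep_fx {y : Pos → K} (hy : Fx q C.supp0 y) (hc : y R.i ≠ 0) :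
    Fx q C.supp0 (rep R y) ∧ W (rep R y) = W y ∧ rep R y R.i = y R.i ∧ ∀ a ∈ R.adj, rep R y a.1 = 0 :=
  ⟨(hW.move _ (lo_T hC hR) _ (compat_kill S hC hR hy) _ hy).1,
    (hW.move _ (lo_T hC hR) _ (compat_kill S hC hR hy) _ hy).2, (kill (row_ok hC hR) hy.2 hc).1,
    (kill (row_ok hC hR) hy.2 hc).2⟩

/-- A representative with a remainder has a second one. -/
theorem second {z : Pos → K} (hz : Fx q C.supp0 z) (hadj : ∀ a ∈ R.adj, z a.1 = 0) (hne : ∃ m ∈ R.rest, z m ≠ 0) :
    ∃ z', Fx q C.supp0 z' ∧ W z' = W z ∧ z' R.i = z R.i ∧ (∀ a ∈ R.adj, z' a.1 = 0) ∧ z' ≠ z := by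
  obtain ⟨-, -, -, -, -, -, hperm, hnd, -, -, -, hsecs, -⟩ := row_spec (row_ok hC hR)
  have hnd' := hperm.nodup_iff.2 hnd
  rw [List.cons_append, List.nodup_cons] at hnd'
  obtain ⟨hinot, hnd2⟩ := hnd'
  obtain ⟨-, hndrest, -⟩ := List.nodup_append.1 hnd2
  suffices key : ∀ (secs : List Sec) (rest : List Pos), okSecs R.i (R.adj.map Prod.fst) C.Lo rest secs = true →
      rest.Nodup → R.i ∉ rest → (∀ m, z m ≠ 0 → m = R.i ∨ m ∈ rest) → (∃ m ∈ rest, z m ≠ 0) →
      ∃ z', Fx q C.supp0 z' ∧ W z' = W z ∧ z' R.i = z R.i ∧ (∀ a ∈ R.adj, z' a.1 = 0) ∧ z' ≠ z by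
    refine key R.sec R.rest hsecs hndrest (fun h => hinot (List.mem_append_right _ h)) (fun m hm => ?_) hne
    rcases (mem_of_row hC hR).2 m (by_contra fun h => hm (hz.2 m h)) with e | e | e
    · exact Or.inl e
    · obtain ⟨a, ha, rfl⟩ := List.mem_map.1 e
      exact absurd (hadj a ha) hm
    · exact Or.inr e
  intro secs
  induction secs with
  | nil =>
    intro rest h _ _ _ hne'
    obtain ⟨m, hm, -⟩ := hne'
    simp [okSecs, List.isEmpty_iff] at h
    subst h
    simp at hm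
  | cons s secs ih =>
    obtain ⟨j, k, o⟩ := s
    intro rest h hndr hi hsupp hne'
    simp only [okSecs, Bool.and_eq_true, decide_eq_true_eq, Bool.not_eq_true', List.all_eq_true] at h
    obtain ⟨⟨⟨⟨⟨⟨⟨⟨⟨hoLo, hoO⟩, hjr⟩, hki⟩, hkadj⟩, hid⟩, hch⟩, hii⟩, hzero⟩, hrec⟩ := h
    by_cases hzj : z j = 0
    · refine ih _ hrec (hndr.filter _) (fun h => hi (List.mem_of_mem_filter h)) (fun m hm => ?_) ?_
      · rcases hsupp m hm with e | e
        · exact Or.inl e
        · refine Or.inr (List.mem_filter.2 ⟨e, ?_⟩)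
          simp only [Bool.not_eq_true', decide_eq_false_iff_not]
          rintro (rfl | rfl)
          · exact hm hzj
          · exact hm (by rw [hz.at j, hzj, zero_pow_q S, mul_zero])
      · obtain ⟨m, hm, hmz⟩ := hne'
        refine ⟨m, List.mem_filter.2 ⟨hm, ?_⟩, hmz⟩
        simp only [Bool.not_eq_true', decide_eq_false_iff_not]
        rintro (rfl | rfl)
        · exact hmz hzj
        · exact hmz (by rw [hz.at j, hzj, zero_pow_q S, mul_zero])
    have hnds : (R.i :: rest).Nodup := List.nodup_cons.2 ⟨hi, hndr⟩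
    have hys : ∀ m, m ∉ R.i :: rest → z m = 0 := fun m hm => by_contra fun h0 => hm (by
      rcases hsupp m h0 with rfl | e
      exacts [List.mem_cons_self, List.mem_cons_of_mem _ e])
    obtain ⟨t, ht, hne⟩ := change S hch hoO hnds hys hzj
    obtain ⟨hfx, hWeq⟩ := hW.move [o] (by simpa using hoLo) t (by simpa using ht) z hz
    rw [List.flatten_singleton] at hfx hWeq
    refine ⟨_, hfx, hWeq, ?_, fun a ha => ?_, fun e => hne ?_⟩
    · rw [mvs_at hii t hnds z hys]
      simp [pval, idPath]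
    · rw [mvs_at (hzero a.1 (List.mem_map_of_mem ha)) t hnds z hys]
      simp
    · rw [hid, e]
      by_cases hk : k ∈ R.i :: rest
      · rw [if_pos hk]; simp [pval, idPath]
      · rw [if_neg hk, hys k hk]; simp

/-- A remainder gives many vectors. -/
theorem big_bound {y : Pos → K} (hy : Fx q C.supp0 y) (hWy : W y ≠ 0) (hc : y R.i ≠ 0) (h0 : ¬ RestZero R y) :
    2 * ((q - 1) * q ^ (R.adj.map Prod.fst).length) ≤ ∑ v ∈ Dom q C.supp0, W v := by
  classical
  have hrow := row_ok hC hR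
  obtain ⟨hi, him⟩ := row_long hC hR
  obtain ⟨hsupp, -⟩ := mem_of_row hC hR
  obtain ⟨hrfx, hrW, hri, hradj⟩ := rep_fx S hC hR hW hy hc
  simp only [RestZero, not_forall] at h0
  obtain ⟨m0, hm0, hm0'⟩ := h0
  obtain ⟨z', hz'fx, hz'W, hz'i, hz'adj, hz'ne⟩ := second S hC hR hW hrfx hradj ⟨m0, hm0, hm0'⟩
  let z : Fin 2 → Pos → K := ![rep R y, z']
  have hzall : ∀ e, Fx q C.supp0 (z e) ∧ W (z e) = W y ∧ z e R.i = y R.i ∧ ∀ a ∈ R.adj, z e a.1 = 0 := by
    intro e
    fin_cases e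
    · exact ⟨hrfx, hrW, hri, hradj⟩
    · exact ⟨hz'fx, hz'W.trans hrW, hz'i.trans hri, hz'adj⟩
  obtain ⟨Vs, hVs, hVmem⟩ := card_fx S (K := K) (R.adj.map Prod.fst) (row_spec hrow).2.2.2.2.2.1
    (adj_stable hC hR)
  set U := (FqSet K q).erase (0 : K) with hU
  have hUcard : U.card = q - 1 := by
    rw [hU, Finset.card_erase_of_mem (by simp [FqSet, zero_pow_q S]), card_FqSet S]
  have hUmem : ∀ c ∈ U, c ≠ 0 ∧ c ^ q = c := fun c hc => by simpa [hU, FqSet] using hc
  have hscale : ∀ c : K, c ≠ 0 → c ^ q = c → ∃ f : Pos → K, (∀ m, f m ≠ 0) ∧ f R.i = c / y R.i ∧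
      ∀ v, Fx q C.supp0 v → Fx q C.supp0 (fun m => f m * v m) ∧ W (fun m => f m * v m) = W v := by
    intro c hc0 hcq
    refine hW.scale R.i _ (div_ne_zero hc0 hc) ?_ hi him
    have := hy.mem_Fq S hi
    simp only [FqSet, Finset.mem_filter, Finset.mem_univ, true_and] at this
    rw [div_pow, hcq, this]
  choose! f hf0 hfi hf using hscale
  let u : K → (Pos → K) → Pos → K := fun c v m => if m = R.i then c else -v m
  have hufx : ∀ c ∈ U, ∀ v ∈ Vs, Fx q C.supp0 (u c v) := by
    intro c hc v hv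
    have hv' := (hVmem v).1 hv
    refine fx_of S _ _ (fun m => ?_) fun m hm => ?_
    · simp only [u]
      by_cases hmi : m = R.i
      · subst hmi
        rw [hi, if_pos rfl, (hUmem c hc).2, sgn_fixed _ hi, Int.cast_one, one_mul]
      · rw [if_neg hmi, if_neg (fun e => hmi (by rw [← (π_spec m).2.1, e, hi])), hv'.at m, ← S.hfr, ← S.hfr,
          map_neg, mul_neg]
    · simp only [u]
      rw [if_neg (fun e : m = R.i => hm (e ▸ him)), hv'.2 m fun hm' => hm ?_, neg_zero]
      obtain ⟨a, ha, rfl⟩ := List.mem_map.1 hm'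
      exact hsupp a ha
  let Φ : Fin 2 × K × (Pos → K) → (Pos → K) := fun p =>
    mvs chevE6 QL R.T.flatten (killT R (u p.2.1 p.2.2)) (fun m => f p.2.1 m * z p.1 m)
  set Src := (Finset.univ : Finset (Fin 2)) ×ˢ U ×ˢ Vs with hSrc
  have hkey : ∀ p ∈ Src, Fx q C.supp0 (Φ p) ∧ W (Φ p) = W y ∧ Φ p R.i = p.2.1 ∧
      ∀ a ∈ R.adj, Φ p a.1 = p.2.2 a.1 := by
    rintro ⟨e, c, v⟩ hp
    simp only [hSrc, Finset.mem_product, Finset.mem_univ, true_and] at hp
    obtain ⟨hc0, hcq⟩ := hUmem c hp.1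
    obtain ⟨hefx, heW, hei, headj⟩ := hzall e
    obtain ⟨hsfx, hsW⟩ := hf c hc0 hcq _ hefx
    have hu := hufx c hp.1 v hp.2
    obtain ⟨hmfx, hmW⟩ := hW.move _ (lo_T hC hR) _ (compat_kill S hC hR hu) _ hsfx
    obtain ⟨-, -, -, -, -, -, -, hnd, hadj, hii, -⟩ := row_spec hrow
    have hsi : f c R.i * z e R.i = c := by rw [hei, hfi c hc0 hcq, div_mul_cancel₀ _ hc]
    refine ⟨hmfx, hmW.trans (hsW.trans heW), ?_, fun a ha => ?_⟩
    · show mvs chevE6 QL R.T.flatten (killT R (u c v)) (fun m => f c m * z e m) R.i = c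
      rw [mvs_at hii _ hnd _ hsfx.2]
      simpa [pval, idPath] using hsi
    · show mvs chevE6 QL R.T.flatten (killT R (u c v)) (fun m => f c m * z e m) a.1 = v a.1
      obtain ⟨hz, -, hp', -⟩ := hadj a ha
      rw [mvs_at hp' _ hnd _ hsfx.2]
      have hua : u c v a.1 = -v a.1 := if_neg (adj_not_i hC hR a ha)
      have hui : u c v R.i = c := if_pos rfl
      simp only [pval, idPath, onePath, List.map_cons, List.map_nil, List.prod_cons, List.prod_nil, List.sum_cons,
        List.sum_nil, Int.cast_one, mul_one, add_zero, killT_eq hrow _ ha, hua, hui, headj a ha,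
        mul_zero, zero_add, hsi]
      have := unit_ne (K := K) hz
      field_simp
  have hinj : Set.InjOn Φ Src := by
    rintro ⟨e, c, v⟩ hp ⟨e', c', v'⟩ hp' h
    obtain ⟨-, -, hi1, ha1⟩ := hkey _ hp
    obtain ⟨-, -, hi2, ha2⟩ := hkey _ hp'
    obtain rfl : c = c' := by
      have := congrFun h R.i
      rw [hi1, hi2] at this
      exact this
    simp only [hSrc, Finset.coe_product, Set.mem_prod, Finset.mem_coe, Finset.mem_univ, true_and] at hp hp'
    obtain rfl : v = v' := by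
      funext m
      by_cases hm : m ∈ R.adj.map Prod.fst
      · obtain ⟨a, ha, rfl⟩ := List.mem_map.1 hm
        have := congrFun h a.1
        rw [ha1 a ha, ha2 a ha] at this
        exact this
      · rw [((hVmem v).1 hp.2).2 m hm, ((hVmem v').1 hp'.2).2 m hm]
    have h' := mvs_inj (flat_LR hC hR) _ h
    have hzz : z e = z e' := funext fun m =>
      mul_left_cancel₀ (hf0 c (hUmem c hp.1).1 (hUmem c hp.1).2 m) (congrFun h' m)
    fin_cases e <;> fin_cases e'
    · rfl
    · exact absurd hzz (Ne.symm hz'ne)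
    · exact absurd hzz hz'ne
    · rfl
  have hsub : Src.image Φ ⊆ Dom q C.supp0 := by
    intro v hv
    obtain ⟨p, hp, rfl⟩ := Finset.mem_image.1 hv
    refine mem_Dom.2 ⟨(hkey p hp).1, fun h => ?_⟩
    have h1 := (hkey p hp).2.2.1
    rw [h] at h1
    obtain ⟨e, c, v⟩ := p
    simp only [hSrc, Finset.mem_product] at hp
    exact (hUmem c hp.2.1).1 h1.symm
  calc 2 * ((q - 1) * q ^ (R.adj.map Prod.fst).length) = Src.card := by
        rw [hSrc, Finset.card_product, Finset.card_product, Finset.card_univ, Fintype.card_fin, hUcard, hVs]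
    _ = (Src.image Φ).card := (Finset.card_image_of_injOn hinj).symm
    _ ≤ ∑ v ∈ Src.image Φ, W v := by
        rw [Finset.card_eq_sum_ones]
        refine Finset.sum_le_sum fun v hv => ?_
        obtain ⟨p, hp, rfl⟩ := Finset.mem_image.1 hv
        rw [(hkey p hp).2.1]
        omega
    _ ≤ _ := Finset.sum_le_sum_of_subset hsub

theorem low_stable : ∀ a ∈ R.adj.filter (fun a => R.low.flatten.contains a.2.1),
    π a.1 ∈ (R.adj.filter fun a => R.low.flatten.contains a.2.1).map Prod.fst := by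
  intro a ha
  obtain ⟨ha1, ha2⟩ := List.mem_filter.1 ha
  rw [List.contains_iff_mem] at ha2
  obtain ⟨o, ho, hao⟩ := List.mem_flatten.1 ha2
  have hrow := row_ok hC hR
  obtain ⟨-, -, hT, -, -, -, -, -, hadj, -, -, -, -, hlowT, -⟩ := row_spec hrow
  have hmem := (hadj a ha1).2.1
  refine List.mem_map.2 ⟨_, List.mem_filter.2 ⟨hmem, ?_⟩, rfl⟩
  rw [List.contains_iff_mem]
  refine List.mem_flatten.2 ⟨o, ho, ?_⟩
  have himg : ∀ o ∈ Orbs, ∀ r ∈ o, graphE6.img r ∈ o := by decide +kernel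
  exact himg o (hT o (hlowT o ho)).2 _ hao

/-- The cell is large. -/
theorem cell_card : (q - 1) * q ^ lowExp R ≤ ((cell q C R).filter fun v => W v = W (Pi.single R.i (1 : K))).card := by
  classical
  have hrow := row_ok hC hR
  obtain ⟨hi, him⟩ := row_long hC hR
  obtain ⟨hsupp, -⟩ := mem_of_row hC hR
  set P := (R.adj.filter fun a => R.low.flatten.contains a.2.1).map Prod.fst with hP
  obtain ⟨-, -, hT, hroots, -, hndadj, -, hnd, hadj, hii, hii1, -, hlow, hlowT, hlong, -⟩ := row_spec hrow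
  obtain ⟨Vs, hVs, hVmem⟩ := card_fx S (K := K) P ((List.filter_sublist.map _).nodup hndadj) (fun m hm => by
    obtain ⟨a, ha, rfl⟩ := List.mem_map.1 hm
    exact low_stable S hC hR hW a ha)
  set U := (FqSet K q).erase (0 : K) with hU
  have hUcard : U.card = q - 1 := by
    rw [hU, Finset.card_erase_of_mem (by simp [FqSet, zero_pow_q S]), card_FqSet S]
  have hUmem : ∀ c ∈ U, c ≠ 0 ∧ c ^ q = c := fun c hc => by simpa [hU, FqSet] using hc
  let u : K → (Pos → K) → Pos → K := fun c v m => if m = R.i then c else -v m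
  let Φ : K × (Pos → K) → (Pos → K) := fun p =>
    mvs chevE6 QL R.T.flatten (killT R (u p.1 p.2)) (Pi.single R.i p.1)
  have hPsupp : ∀ m ∈ P, m ∈ C.supp0 ∧ m ≠ R.i := by
    intro m hm
    obtain ⟨a, ha, rfl⟩ := List.mem_map.1 hm
    exact ⟨hsupp a (List.mem_filter.1 ha).1, adj_not_i hC hR a (List.mem_filter.1 ha).1⟩
  have hkey : ∀ p ∈ U ×ˢ Vs, Φ p ∈ (cell q C R).filter (fun v => W v = W (Pi.single R.i (1 : K))) ∧
      Φ p R.i = p.1 ∧ ∀ a ∈ R.adj, Φ p a.1 = p.2 a.1 := by
    rintro ⟨c, v⟩ hp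
    rw [Finset.mem_product] at hp
    obtain ⟨hc0, hcq⟩ := hUmem c hp.1
    have hv := (hVmem v).1 hp.2
    have hu : Fx q C.supp0 (u c v) := by
      refine fx_of S _ _ (fun m => ?_) fun m hm => ?_
      · simp only [u]
        by_cases hmi : m = R.i
        · subst hmi
          rw [hi, if_pos rfl, hcq, sgn_fixed _ hi, Int.cast_one, one_mul]
        · rw [if_neg hmi, if_neg (fun e => hmi (by rw [← (π_spec m).2.1, e, hi])), hv.at m, ← S.hfr, ← S.hfr,
            map_neg, mul_neg]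
      · simp only [u]
        rw [if_neg (fun e : m = R.i => hm (e ▸ him)), hv.2 m fun hm' => hm (hPsupp m hm').1, neg_zero]
    obtain ⟨hmfx, -⟩ := hW.move _ (lo_T hC hR) _ (compat_kill S hC hR hu) _ (fx_single S hi him hcq)
    obtain ⟨hti, hta⟩ := trans_at hrow (killT R (u c v)) c
    have hui : u c v R.i = c := if_pos rfl
    have hadjv : ∀ a ∈ R.adj, Φ (c, v) a.1 = v a.1 := by
      intro a ha
      show mvs chevE6 QL R.T.flatten (killT R (u c v)) (Pi.single R.i c) a.1 = v a.1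
      rw [hta a ha, killT_eq hrow _ ha, show u c v a.1 = -v a.1 from if_neg (adj_not_i hC hR a ha), hui]
      have := unit_ne (K := K) (hadj a ha).1
      field_simp
    refine ⟨Finset.mem_filter.2 ⟨mem_cell.2 ⟨mem_Dom.2 ⟨hmfx, fun h => hc0 ?_⟩, ?_, fun m hm hlt => ?_⟩,
      W_trans S hC hR hW hc0 hcq (compat_kill S hC hR hu)⟩, hti, hadjv⟩
    · rw [← hti]
      exact congrFun h R.i
    · show mvs chevE6 QL R.T.flatten _ _ R.i ≠ 0
      rw [hti]; exact hc0
    · show mvs chevE6 QL R.T.flatten _ _ m = 0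
      rw [mvs_filter _ _ (fun α => R.low.flatten.contains α) (fun α hα hno => ?_), ← hlow,
        mvs_at (hlong m hm hlt) _ (List.nodup_singleton _) _ (single_supp _ _)]
      · simp
      · obtain ⟨a, ha, rfl⟩ := adj_of_root hrow hα
        rw [killT_eq hrow _ ha, show u c v a.1 = -v a.1 from if_neg (adj_not_i hC hR a ha), hv.2 a.1 ?_]
        · simp
        · intro hm'
          obtain ⟨b, hb, hba⟩ := List.mem_map.1 hm'
          have : b = a := List.inj_on_of_nodup_map hndadj (List.mem_filter.1 hb).1 ha hba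
          subst this
          rw [(List.mem_filter.1 hb).2] at hno
          exact Bool.noConfusion hno
  have hinj : Set.InjOn Φ (U ×ˢ Vs : Finset (K × (Pos → K))) := by
    rintro ⟨c, v⟩ hp ⟨c', v'⟩ hp' h
    obtain ⟨-, hi1, ha1⟩ := hkey _ hp
    obtain ⟨-, hi2, ha2⟩ := hkey _ hp'
    simp only [Finset.coe_product, Set.mem_prod, Finset.mem_coe] at hp hp'
    refine Prod.ext ?_ (funext fun m => ?_)
    · have := congrFun h R.i
      rwa [hi1, hi2] at this
    · show v m = v' m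
      by_cases hm : m ∈ P
      · obtain ⟨a, ha, rfl⟩ := List.mem_map.1 hm
        have := congrFun h a.1
        rwa [ha1 a (List.mem_filter.1 ha).1, ha2 a (List.mem_filter.1 ha).1] at this
      · rw [((hVmem v).1 hp.2).2 m hm, ((hVmem v').1 hp'.2).2 m hm]
  refine le_trans (le_of_eq ?_) (Finset.card_le_card fun v hv => ?_ : ((U ×ˢ Vs).image Φ).card ≤ _)
  · rw [Finset.card_image_of_injOn hinj, Finset.card_product, hUcard, hVs]
    rfl
  · obtain ⟨p, hp, rfl⟩ := Finset.mem_image.1 hv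
    exact (hkey p hp).1

end Facts

include S in
/-- Some extremal coordinate is nonzero on the invariant set. -/
theorem exists_long (hC : okCfg C = true) (hW : Inv q C.supp0 C.Lo W) {y : Pos → K} (hy : Fx q C.supp0 y)
    (hne : y ≠ 0) (hWy : W y ≠ 0) : ∃ R ∈ C.rows, ∃ v ∈ Dom q C.supp0, W v ≠ 0 ∧ v R.i ≠ 0 := by
  obtain ⟨-, hmap, -, hnd, hLo, -, -, -, -, hothers, hshorts⟩ := cfg_spec hC
  have hrow : ∀ i ∈ C.longs, ∀ v : Pos → K, Fx q C.supp0 v → W v ≠ 0 → v i ≠ 0 →
      ∃ R ∈ C.rows, ∃ v ∈ Dom q C.supp0, W v ≠ 0 ∧ v R.i ≠ 0 := by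
    intro i hi v hv hWv hvi
    rw [← hmap] at hi
    obtain ⟨R, hR, rfl⟩ := List.mem_map.1 hi
    exact ⟨R, hR, v, mem_Dom.2 ⟨hv, fun h => hvi (by rw [h]; rfl)⟩, hWv, hvi⟩
  by_cases hlong : ∃ i ∈ C.longs, y i ≠ 0
  · obtain ⟨i, hi, hyi⟩ := hlong
    exact hrow i hi y hy hWy hyi
  push Not at hlong
  have hys : ∀ m, m ∉ C.others → y m = 0 := by
    intro m hm
    by_cases hms : m ∈ C.supp0
    · exact hlong m (by_contra fun h => hm (List.mem_filter.2 ⟨hms, by simpa using h⟩))
    · exact hy.2 m hms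
  obtain ⟨j, hj⟩ : ∃ j, y j ≠ 0 := by
    by_contra h
    push Not at h
    exact hne (funext h)
  obtain ⟨e, he, rfl⟩ := hothers j (by_contra fun h => hj (hys j h))
  obtain ⟨hoLo, hk, hch, hid⟩ := hshorts e he
  obtain ⟨t, ht, hne'⟩ := change S hch (List.mem_of_mem_take (hLo _ hoLo).1) (hnd.filter _) hys hj
  obtain ⟨hfx, hWeq⟩ := hW.move [e.2.2] (by simpa using hoLo) t (by simpa using ht) y hy
  rw [List.flatten_singleton] at hfx hWeq
  rw [hid, List.map_nil, List.sum_nil, sub_zero] at hne'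
  exact hrow _ hk _ hfx (by rw [hWeq]; exact hWy) hne'

include S in
/-- Without remainders, the extremal single vectors have one weight. -/
theorem W_single_eq (hC : okCfg C = true) (hW : Inv q C.supp0 C.Lo W) (hflat : Flat q C W) :
    ∀ R ∈ C.rows, ∀ R' ∈ C.rows, W (Pi.single R.i (1 : K)) = W (Pi.single R'.i (1 : K)) := by
  obtain ⟨-, hmap, -, -, hLo, -, hlongs, hlinks, hchain, -, -⟩ := cfg_spec hC
  have hlink : ∀ l ∈ C.links, W (Pi.single l.1 (1 : K)) ≠ 0 →
      W (Pi.single l.2.1 (1 : K)) = W (Pi.single l.1 (1 : K)) := by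
    intro l hl hne
    obtain ⟨hl1, hl2, hlLo, a, b, z, rs, hp, hz, hrs⟩ := hlinks l hl
    have hpm : (a, b, z, rs) ∈ paths chevE6 QL l.2.2 [l.1] ∧ b = l.2.1 := by
      have : (a, b, z, rs) ∈ pathsTo chevE6 QL l.2.2 [l.1] l.2.1 := by rw [hp]; exact List.mem_singleton_self _
      simpa [pathsTo] using List.mem_filter.1 this
    have hsrc : ∀ (m : List ℕ) (p : Path QL), p ∈ paths chevE6 QL m [l.1] → p.1 = l.1 := by
      intro m
      induction m with
      | nil => intro p hp'; simp [paths] at hp'; rw [hp']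
      | cons α m ih =>
        intro p hp'
        rcases List.mem_append.1 hp' with h | h
        · exact ih p h
        · obtain ⟨p0, hp0, hstep⟩ := List.mem_filterMap.1 h
          simp only [step, Option.map_eq_some_iff] at hstep
          obtain ⟨g, -, rfl⟩ := hstep
          exact ih p0 hp0
    obtain rfl : a = l.1 := hsrc _ _ hpm.1
    obtain ⟨hi, him⟩ := hlongs _ hl1
    obtain ⟨o, ho⟩ : ∃ o, o = l.2.2 := ⟨_, rfl⟩
    rw [← ho] at hlLo hp hrs
    set t : ℕ → K := fun r => if r = o.headD 0 then 1 else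
      if o.length = 1 then 1 else (graphE6.sign (o.headD 0) : K) with ht
    have htc : Compat q t o := by
      intro r hr
      have hfacts : ∀ o ∈ Orbs.take 18, ∀ r ∈ o,
          (o.length = 1 → r = o.headD 0 ∧ graphE6.img r = r ∧ graphE6.sign r = 1) ∧
          (o.length ≠ 1 → graphE6.sign r = graphE6.sign (o.headD 0) ∧
            (graphE6.sign r = 1 ∨ graphE6.sign r = -1) ∧ (graphE6.img r = o.headD 0 ↔ r ≠ o.headD 0)) := by
        decide +kernel
      obtain ⟨h1, h2⟩ := hfacts o (hLo o hlLo).1 r hr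
      simp only [ht]
      by_cases hl1' : o.length = 1
      · obtain ⟨e1, e2, e3⟩ := h1 hl1'
        rw [if_pos hl1', e2, e3, e1, if_pos rfl, one_pow, Int.cast_one, one_mul]
      · obtain ⟨e1, e2, e3⟩ := h2 hl1'
        rw [if_neg hl1']
        by_cases hrh : r = o.headD 0
        · rw [if_neg (fun e => (e3.1 e) hrh), if_pos hrh, one_pow, mul_one, e1]
        · rw [if_pos (e3.2 hrh), if_neg hrh, pow_q_int S, ← e1, unit_mul e2]
    have htne : ∀ r ∈ o, t r ≠ 0 := by
      intro r hr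
      simp only [ht]
      have hu : ∀ o ∈ Orbs.take 18, graphE6.sign (o.headD 0) = 1 ∨ graphE6.sign (o.headD 0) = -1 := by
        decide +kernel
      split_ifs
      · exact one_ne_zero
      · exact one_ne_zero
      · exact unit_ne (hu o (hLo o hlLo).1)
    obtain ⟨hfx, hWeq⟩ := hW.move [o] (by simpa using hlLo) t (by simpa using htc) _
      (fx_single S hi him (one_pow q))
    rw [List.flatten_singleton] at hfx hWeq
    have hv : mvs chevE6 QL o t (Pi.single l.1 (1 : K)) l.2.1 ≠ 0 := by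
      rw [mvs_eq_psum _ _ (List.nodup_singleton _) _ (single_supp _ _), psum,
        show ((paths chevE6 QL o [l.1]).filter fun p => decide (p.2.1 = l.2.1)) = _ from hp]
      simp only [List.map_cons, List.map_nil, List.sum_cons, List.sum_nil, add_zero, pval, Pi.single_eq_same,
        mul_one]
      refine mul_ne_zero (unit_ne hz) (List.prod_ne_zero fun h0 => ?_)
      obtain ⟨r, hr, hr0⟩ := List.mem_map.1 h0
      exact htne r (hrs r hr) hr0
    rw [← hmap] at hl2
    obtain ⟨R, hR, hRi⟩ := List.mem_map.1 hl2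
    rw [← hRi] at hv ⊢
    have hdom : mvs chevE6 QL o t (Pi.single l.1 (1 : K)) ∈ Dom q C.supp0 :=
      mem_Dom.2 ⟨hfx, fun h => hv (by rw [h]; rfl)⟩
    rw [← hWeq]
    exact (W_restZero S hC hR hW hfx hv (hflat R hR _ hdom (by rw [hWeq]; exact hne) hv)).symm
  have hadj : ∀ p ∈ C.longs.zip C.longs.tail, W (Pi.single p.1 (1 : K)) = W (Pi.single p.2 (1 : K)) := by
    intro p hp
    obtain ⟨⟨l, hl, e1, e2⟩, ⟨l', hl', e1', e2'⟩⟩ := hchain p hp
    have h1 := hlink l hl
    have h2 := hlink l' hl'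
    rw [e1, e2] at h1
    rw [e1', e2'] at h2
    by_cases h : W (Pi.single p.1 (1 : K)) = 0
    · by_cases h' : W (Pi.single p.2 (1 : K)) = 0
      · rw [h, h']
      · exact h2 h'
    · exact (h1 h).symm
  have key : ∀ l : List Pos, (∀ p ∈ l.zip l.tail, W (Pi.single p.1 (1 : K)) = W (Pi.single p.2 (1 : K))) →
      ∀ a ∈ l, W (Pi.single a (1 : K)) = W (Pi.single (l.headD a) (1 : K)) := by
    intro l
    induction l with
    | nil => intro _ a ha; simp at ha
    | cons b l ih =>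
      intro h a ha
      rcases List.mem_cons.1 ha with rfl | ha
      · rfl
      · rcases l with _ | ⟨c, l⟩
        · simp at ha
        · rw [List.headD_cons, ih (fun p hp => h p (List.mem_cons_of_mem _ hp)) a ha, List.headD_cons]
          exact (h (b, c) List.mem_cons_self).symm
  intro R hR R' hR'
  have m1 : R.i ∈ C.longs := by rw [← hmap]; exact List.mem_map_of_mem hR
  have m2 : R'.i ∈ C.longs := by rw [← hmap]; exact List.mem_map_of_mem hR'
  rw [key _ hadj _ m1, key _ hadj _ m2]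
  generalize hL : C.longs = L at m1
  rcases L with _ | ⟨b, l⟩
  · simp at m1
  · rfl

include S in
/-- The bound: remainders give many vectors, otherwise the cells share one positive weight. -/
theorem orbit_bound (hC : okCfg C = true) (hW : Inv q C.supp0 C.Lo W) {y : Pos → K} (hy : Fx q C.supp0 y)
    (hne : y ≠ 0) (hWy : W y ≠ 0) :
    (∃ R ∈ C.rows, 2 * ((q - 1) * q ^ (R.adj.map Prod.fst).length) ≤ ∑ v ∈ Dom q C.supp0, W v) ∨
      (Flat q C W ∧ ∃ w, w ≠ 0 ∧ (∀ R ∈ C.rows, ∀ v ∈ Dom q C.supp0, v R.i ≠ 0 → W v ≠ 0 → W v = w) ∧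
        (∀ R ∈ C.rows, ∀ v ∈ cell q C R, RestZero R v → W v = w) ∧
        w * (C.rows.map fun R => (q - 1) * q ^ lowExp R).sum ≤ ∑ v ∈ Dom q C.supp0, W v) := by
  classical
  by_cases hflat : Flat q C W
  swap
  · unfold Flat at hflat
    simp only [not_forall] at hflat
    obtain ⟨R, hR, v, hv, hWv, hvi, h0⟩ := hflat
    exact Or.inl ⟨R, hR, big_bound S hC hR hW (mem_Dom.1 hv).1 hWv hvi h0⟩
  obtain ⟨R0, hR0, v0, hv0, hWv0, hv0i⟩ := exists_long S hC hW hy hne hWy
  have hw0 : W v0 = W (Pi.single R0.i 1) :=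
    W_restZero S hC hR0 hW (mem_Dom.1 hv0).1 hv0i (hflat R0 hR0 v0 hv0 hWv0 hv0i)
  have hw : ∀ R ∈ C.rows, ∀ v ∈ Dom q C.supp0, v R.i ≠ 0 → RestZero R v → W v = W v0 := fun R hR v hv hvi h0 => by
    rw [hw0, W_restZero S hC hR hW (mem_Dom.1 hv).1 hvi h0, W_single_eq S hC hW hflat R hR R0 hR0]
  refine Or.inr ⟨hflat, W v0, hWv0, fun R hR v hv hvi hWv => hw R hR v hv hvi (hflat R hR v hv hWv hvi),
    fun R hR v hv h0 => hw R hR v (mem_cell.1 hv).1 (mem_cell.1 hv).2.1 h0, ?_⟩
  obtain ⟨-, hmap, hnd, -⟩ := cfg_spec hC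
  have hndr : C.rows.Nodup := List.Nodup.of_map _ (by rw [hmap]; exact hnd)
  have hdisj : ∀ R ∈ C.rows, ∀ R' ∈ C.rows, R ≠ R' → Disjoint (cell (K := K) q C R) (cell (K := K) q C R') := by
    intro R hR R' hR' hne'
    rw [Finset.disjoint_left]
    intro v hv hv'
    obtain ⟨-, h1, h2⟩ := mem_cell.1 hv
    obtain ⟨-, h1', h2'⟩ := mem_cell.1 hv'
    have hlong : ∀ {R}, R ∈ C.rows → R.i ∈ C.longs := fun h => by rw [← hmap]; exact List.mem_map_of_mem h
    rcases lt_trichotomy R.i R'.i with h | h | h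
    · exact h1 (h2' R.i (hlong hR) h)
    · exact hne' (List.inj_on_of_nodup_map (by rw [hmap]; exact hnd) hR hR' h)
    · exact h1' (h2 R'.i (hlong hR') h)
  rw [← List.sum_map_mul_left, ← List.sum_toFinset _ hndr]
  calc ∑ R ∈ C.rows.toFinset, W v0 * ((q - 1) * q ^ lowExp R)
      ≤ ∑ R ∈ C.rows.toFinset, ∑ v ∈ cell q C R, W v := by
        refine Finset.sum_le_sum fun R hR => ?_
        rw [List.mem_toFinset] at hR
        refine le_trans (Nat.mul_le_mul_left _ (cell_card S hC hR hW)) ?_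
        rw [mul_comm, ← smul_eq_mul, ← Finset.sum_const]
        refine le_trans (Finset.sum_le_sum fun v hv => ?_) (Finset.sum_le_sum_of_subset (Finset.filter_subset _ _))
        rw [(Finset.mem_filter.1 hv).2, hw0, W_single_eq S hC hW hflat R hR R0 hR0]
    _ ≤ _ := by
        rw [← Finset.sum_biUnion fun R hR R' hR' h => hdisj R (List.mem_toFinset.1 hR) R' (List.mem_toFinset.1 hR') h]
        refine Finset.sum_le_sum_of_subset fun v hv => ?_
        obtain ⟨R, -, hR⟩ := Finset.mem_biUnion.1 hv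
        exact (mem_cell.1 hR).1

end Cfsg.Agent.Small.TwE6Deg
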