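import Cfsg.Agent.Lib.Small.TwE6Deg.Count

/-!
The cells of the extremal positions.
-/

set_option autoImplicit false
set_option maxRecDepth 4000
set_option linter.unusedSectionVars false

namespace Cfsg.Agent.Small.TwE6Deg

open Cfsg.Lie Cfsg.Agent.Lie Finset
open Cfsg.Agent.Lie.E6 (Setup)
open scoped MatrixGroups

variable {K : Type*} [Field K] [Fintype K] {q : ℕ} (S : Setup K q) {C : Cfg} {W : (Pos → K) → ℕ}

/-- The representative with the neighbours killed. -/
noncomputable def rep (R : Row) (y : Pos → K) : Pos → K := mvs chevE6 QL R.T.flatten (killT R y) y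

/-- The remainder of the representative vanishes. -/
def RestZero (R : Row) (y : Pos → K) : Prop := ∀ m ∈ R.rest, rep R y m = 0

/-- The invariant set has no remainders. -/
def Flat (q : ℕ) (C : Cfg) (W : (Pos → K) → ℕ) : Prop :=
  ∀ R ∈ C.rows, ∀ y ∈ Dom q C.supp0, W y ≠ 0 → y R.i ≠ 0 → RestZero R y

/-- The cell of a row. -/
noncomputable def cell (q : ℕ) (C : Cfg) (R : Row) : Finset (Pos → K) :=
  letI := Classical.decPred fun y : Pos → K => y R.i ≠ 0 ∧ ∀ m ∈ C.longs, m < R.i → y m = 0
  (Dom q C.supp0).filter fun y => y R.i ≠ 0 ∧ ∀ m ∈ C.longs, m < R.i → y m = 0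

theorem mem_cell {R : Row} {y : Pos → K} :
    y ∈ cell q C R ↔ y ∈ Dom q C.supp0 ∧ y R.i ≠ 0 ∧ ∀ m ∈ C.longs, m < R.i → y m = 0 := by
  classical
  simp [cell]

section Facts

variable (hC : okCfg C = true) {R : Row} (hR : R ∈ C.rows)
include hC hR

theorem row_ok : okRow C.supp0 C.longs C.Lo R = true := (cfg_spec hC).1 R hR

theorem row_long : π R.i = R.i ∧ R.i ∈ C.supp0 :=
  (cfg_spec hC).2.2.2.2.2.2.1 _ (row_spec (row_ok hC hR)).1

theorem flat_LR : ∀ α ∈ R.T.flatten, α ∈ LR := by
  intro α hα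
  obtain ⟨o, ho, hαo⟩ := List.mem_flatten.1 hα
  exact mem_LR ((cfg_spec hC).2.2.2.2.1 o ((row_spec (row_ok hC hR)).2.2.1 o ho).1).1 hαo

theorem mem_of_row : (∀ a ∈ R.adj, a.1 ∈ C.supp0) ∧ ∀ m ∈ C.supp0, m = R.i ∨ m ∈ R.adj.map Prod.fst ∨ m ∈ R.rest := by
  have hperm := (row_spec (row_ok hC hR)).2.2.2.2.2.2.1
  refine ⟨fun a ha => hperm.mem_iff.1 ?_, fun m hm => ?_⟩
  · simp only [List.cons_append, List.mem_cons, List.mem_append]
    exact Or.inr (Or.inl (List.mem_map_of_mem ha))
  · have := hperm.mem_iff.2 hm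
    simpa [List.mem_cons, List.mem_append] using this

theorem adj_stable : ∀ m ∈ R.adj.map Prod.fst, π m ∈ R.adj.map Prod.fst := by
  intro m hm
  obtain ⟨a, ha, rfl⟩ := List.mem_map.1 hm
  exact List.mem_map_of_mem (f := Prod.fst) ((row_spec (row_ok hC hR)).2.2.2.2.2.2.2.2.1 a ha).2.1

theorem adj_not_i : ∀ a ∈ R.adj, a.1 ≠ R.i := by
  intro a ha e
  obtain ⟨-, -, -, -, -, -, hperm, hnd, -⟩ := row_spec (row_ok hC hR)
  have := hperm.nodup_iff.2 hnd
  rw [List.cons_append, List.nodup_cons] at this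
  exact this.1 (List.mem_append_left _ (e ▸ List.mem_map_of_mem ha))

include S in
/-- A translation from a vector with a nonzero coordinate. -/
theorem compat_kill {y : Pos → K} (hy : Fx q C.supp0 y) : ∀ o ∈ R.T, Compat q (killT R y) o :=
  fun _ ho => killT_compat S (row_ok hC hR) hy ho

theorem lo_T : ∀ o ∈ R.T, o ∈ C.Lo := fun o ho => ((row_spec (row_ok hC hR)).2.2.1 o ho).1

include S in
theorem compat_neg {y : Pos → K} (hy : Fx q C.supp0 y) : ∀ o ∈ R.T, Compat q (fun α => -killT R y α) o := by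
  intro o ho α hα
  show -killT R y (graphE6.img α) = _ * (-killT R y α) ^ q
  rw [compat_kill S hC hR hy o ho α hα, ← S.hfr, ← S.hfr, map_neg, mul_neg]

include S in
/-- With a vanishing remainder, the vector is a translate of a single one. -/
theorem eq_trans {y : Pos → K} (hW : Inv q C.supp0 C.Lo W) (hy : Fx q C.supp0 y) (hc : y R.i ≠ 0)
    (h0 : RestZero R y) :
    y = mvs chevE6 QL R.T.flatten (fun α => -killT R y α) (Pi.single R.i (y R.i)) := by
  have hrow := row_ok hC hR
  obtain ⟨hi, him⟩ := row_long hC hR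
  obtain ⟨hsupp, hcover⟩ := mem_of_row hC hR
  set c := y R.i with hcdef
  have hcq : c ^ q = c := by
    have := hy.mem_Fq S hi
    simpa [FqSet] using this
  have hsing := fx_single S (K := K) hi him hcq
  set η := mvs chevE6 QL R.T.flatten (fun α => -killT R y α) (Pi.single R.i c) with hη
  have hηfx : Fx q C.supp0 η := (hW.move _ (lo_T hC hR) _ (compat_neg S hC hR hy) _ hsing).1
  obtain ⟨hηi, hηa⟩ := trans_at hrow (fun α => -killT R y α) c
  have hηadj : ∀ a ∈ R.adj, η a.1 = y a.1 := by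
    intro a ha
    have hz := unit_ne (K := K) ((row_spec hrow).2.2.2.2.2.2.2.2.1 a ha).1
    rw [hη, hηa a ha, killT_eq hrow y ha, neg_neg, ← hcdef]
    field_simp
  have hkT : ∀ α ∈ R.T.flatten, killT R η α = killT R y α := by
    intro α hα
    obtain ⟨a, ha, rfl⟩ := adj_of_root hrow hα
    rw [killT_eq hrow η ha, killT_eq hrow y ha, hηadj a ha, hη, hηi]
  have hfirst : mvs chevE6 QL R.T.flatten (killT R y) η = rep R η := (mvs_congr _ hkT η).symm
  -- the representative of the translate has no remainder either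
  have hrepη : rep R η = Pi.single R.i c := by
    have hinv : mvs chevE6 QL R.T.flatten (killT R y) η = Pi.single R.i c := by
      rw [hη]
      exact mvs_mvs_neg (flat_LR hC hR) (row_spec hrow).2.2.2.2.2.2.2.2.2.2.2.2.2.2.2 (killT R y) _
    rw [← hfirst, hinv]
  have hrepy : rep R y = Pi.single R.i c := by
    funext m
    by_cases hm : m = R.i
    · subst hm
      rw [Pi.single_eq_same]
      exact (kill hrow hy.2 hc).1
    rw [Pi.single_eq_of_ne hm]
    by_cases hms : m ∈ C.supp0
    · rcases hcover m hms with e | e | e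
      · exact absurd e hm
      · obtain ⟨a, ha, rfl⟩ := List.mem_map.1 e
        exact (kill hrow hy.2 hc).2 a ha
      · exact h0 m e
    · exact ((hW.move _ (lo_T hC hR) _ (compat_kill S hC hR hy) _ hy).1).2 m hms
  refine mvs_inj (flat_LR hC hR) (killT R y) ?_
  show rep R y = _
  rw [hrepy, hfirst, hrepη]

end Facts

end Cfsg.Agent.Small.TwE6Deg
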