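import Cfsg.Agent.Lib.Small.D4Degree.Weights
import Cfsg.Agent.Lib.Char.Basic

/-!
The weights of a representation on an extraspecial radical: the degree on a nontrivial character of the
centre, and the trace there of an element normalising the radical.
-/

set_option autoImplicit false
set_option linter.unusedSectionVars false

namespace Cfsg.Agent.Small.TwE6Deg

open Module Finset
open Cfsg.Agent.Small.D4Degree (wp wm card_ne mul_wp wp_idem sum_wp wm_eq wm_move trace_eq_sum op_eq_zero_apply)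

/-- A central subgroup `Z` and the coordinates `w` of an extension of `Y` by it. -/
structure Heis (G : Type*) [Group G] (F Y : Type*) [AddCommGroup F] [AddCommGroup Y] where
  /-- the centre -/
  Z : F → G
  /-- the coordinates -/
  w : Y → G
  z_add : ∀ a b, Z (a + b) = Z a * Z b
  z_inj : Function.Injective Z
  w_mul : ∀ x y, ∃ f, w x * w y = w (x + y) * Z f
  w_zero : w 0 = 1
  w_comm : ∀ x f, Commute (w x) (Z f)
  w_uniq : ∀ {x y f f'}, w x * Z f = w y * Z f' → x = y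
  pair : ∀ y, y ≠ 0 → ∀ f, ∃ x, w x * w y * (w x)⁻¹ = w y * Z f

namespace Heis

variable {G : Type*} [Group G] [Finite G] {F Y : Type*} [AddCommGroup F] [Fintype F] [AddCommGroup Y] [Fintype Y]
  (X : Heis G F Y) {M : Type*} [AddCommGroup M] [Module ℂ M] [FiniteDimensional ℂ M] (ρ : G →* Module.End ℂ M)

/-- An element centralising the centre and normalising the radical. -/
def Moves (g : G) (φ : Y → Y) : Prop :=
  (∀ f, Commute g (X.Z f)) ∧ ∀ x, ∃ f, g * X.w x * g⁻¹ = X.w (φ x) * X.Z f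

theorem z_zero : X.Z 0 = 1 := by
  have h := X.z_add 0 0
  rwa [add_zero, left_eq_mul] at h

theorem z_neg (f : F) : X.Z (-f) = (X.Z f)⁻¹ :=
  eq_inv_of_mul_eq_one_left (by rw [← X.z_add, neg_add_cancel, X.z_zero])

theorem w_inv (y : Y) : ∃ f, (X.w y)⁻¹ = X.w (-y) * X.Z f := by
  obtain ⟨f, hf⟩ := X.w_mul y (-y)
  rw [add_neg_cancel, X.w_zero, one_mul] at hf
  refine ⟨-f, inv_eq_of_mul_eq_one_right ?_⟩
  rw [← mul_assoc, hf, ← X.z_add, add_neg_cancel, X.z_zero]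

theorem comm_exists (x y : Y) : ∃ f, X.w x * X.w y * (X.w x)⁻¹ = X.w y * X.Z f := by
  obtain ⟨a, ha⟩ := X.w_mul x y
  obtain ⟨b, hb⟩ := X.w_mul y x
  rw [add_comm y x] at hb
  refine ⟨a - b, ?_⟩
  rw [mul_inv_eq_iff_eq_mul, ha, mul_assoc, ← (X.w_comm x _).eq, ← mul_assoc, hb, mul_assoc, ← X.z_add,
    add_sub_cancel]

/-- The commutator pairing. -/
noncomputable def B (x y : Y) : F := (X.comm_exists x y).choose

theorem B_spec (x y : Y) : X.w x * X.w y * (X.w x)⁻¹ = X.w y * X.Z (X.B x y) := (X.comm_exists x y).choose_spec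

theorem B_eq {x y : Y} {f : F} (h : X.w x * X.w y * (X.w x)⁻¹ = X.w y * X.Z f) : X.B x y = f :=
  X.z_inj (mul_left_cancel ((X.B_spec x y).symm.trans h))

theorem B_add_right (x y y' : Y) : X.B x (y + y') = X.B x y + X.B x y' := by
  refine X.B_eq ?_
  obtain ⟨f, hf⟩ := X.w_mul y y'
  have e : X.w (y + y') = X.w y * X.w y' * X.Z (-f) := by
    rw [hf, mul_assoc, ← X.z_add, add_neg_cancel, X.z_zero, mul_one]
  calc X.w x * X.w (y + y') * (X.w x)⁻¹
      = X.w x * X.w y * (X.w x)⁻¹ * (X.w x * X.w y' * (X.w x)⁻¹) * (X.w x * X.Z (-f) * (X.w x)⁻¹) := by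
        rw [e]; group
    _ = X.w y * X.w y' * X.Z (-f) * X.Z (X.B x y + X.B x y') := by
        rw [X.B_spec, X.B_spec, (X.w_comm x (-f)).eq, mul_inv_cancel_right, mul_assoc (X.w y) (X.Z _),
          ← mul_assoc (X.Z (X.B x y)), ← (X.w_comm y' _).eq]
        simp only [mul_assoc, ← X.z_add]
        congr 3
        abel
    _ = X.w (y + y') * X.Z (X.B x y + X.B x y') := by rw [← e]

theorem B_antisymm (x y : Y) : X.B y x = -X.B x y := by
  refine X.B_eq ?_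
  have h := X.B_spec x y
  calc X.w y * X.w x * (X.w y)⁻¹
      = X.w x * ((X.w x)⁻¹ * X.w y * X.w x) * (X.w y)⁻¹ := by group
    _ = X.w x * X.Z (-X.B x y) := by
        have e : (X.w x)⁻¹ * X.w y * X.w x = X.w y * X.Z (-X.B x y) := by
          have h2 : X.w y = (X.w x)⁻¹ * (X.w y * X.Z (X.B x y)) * X.w x := by rw [← h]; group
          calc (X.w x)⁻¹ * X.w y * X.w x
              = ((X.w x)⁻¹ * (X.w y * X.Z (X.B x y)) * X.w x) * X.Z (-X.B x y) := by
                rw [mul_assoc _ (X.w x) (X.Z _), (X.w_comm x _).eq, ← mul_assoc _ (X.Z _) (X.w x), mul_assoc _ _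
                  (X.Z (-X.B x y)), mul_assoc (X.w y), ← X.z_add, add_neg_cancel, X.z_zero, mul_one]
            _ = _ := by rw [← h2]
        rw [e, (X.w_comm y _).eq, ← mul_assoc, mul_inv_cancel_right]

theorem B_add_left (x x' y : Y) : X.B (x + x') y = X.B x y + X.B x' y := by
  rw [X.B_antisymm y, X.B_add_right, X.B_antisymm y x, X.B_antisymm y x']
  abel

theorem moves_B {g : G} {φ : Y → Y} (h : X.Moves g φ) (x y : Y) : X.B (φ x) (φ y) = X.B x y := by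
  obtain ⟨hz, hw⟩ := h
  obtain ⟨a, ha⟩ := hw x
  obtain ⟨b, hb⟩ := hw y
  refine X.B_eq ?_
  have hx : X.w (φ x) = g * X.w x * g⁻¹ * X.Z (-a) := by
    rw [ha, mul_assoc, ← X.z_add, add_neg_cancel, X.z_zero, mul_one]
  have hy : X.w (φ y) = g * X.w y * g⁻¹ * X.Z (-b) := by
    rw [hb, mul_assoc, ← X.z_add, add_neg_cancel, X.z_zero, mul_one]
  have c1 : ∀ f z, Commute (X.Z f) (g * X.w z * g⁻¹) := fun f z =>
    (((hz f).symm.mul_right (X.w_comm z f).symm)).mul_right (hz f).symm.inv_right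
  calc X.w (φ x) * X.w (φ y) * (X.w (φ x))⁻¹
      = g * X.w x * g⁻¹ * (g * X.w y * g⁻¹) * (g * X.w x * g⁻¹)⁻¹ * X.Z (-b) := by
        rw [hx, hy, mul_inv_rev]
        have h1 := (c1 (-a) y).eq
        have h2 := (c1 (-b) x).inv_right.eq
        have h3 : X.Z (-a) * X.Z (-b) = X.Z (-b) * X.Z (-a) := by rw [← X.z_add, ← X.z_add, add_comm]
        generalize g * X.w x * g⁻¹ = a' at h2 ⊢
        generalize g * X.w y * g⁻¹ = b' at h1 ⊢
        calc a' * X.Z (-a) * (b' * X.Z (-b)) * ((X.Z (-a))⁻¹ * a'⁻¹)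
            = a' * (X.Z (-a) * b') * X.Z (-b) * (X.Z (-a))⁻¹ * a'⁻¹ := by group
          _ = a' * b' * (X.Z (-a) * X.Z (-b)) * (X.Z (-a))⁻¹ * a'⁻¹ := by rw [h1]; group
          _ = a' * b' * (X.Z (-b) * a'⁻¹) := by rw [h3]; group
          _ = a' * b' * a'⁻¹ * X.Z (-b) := by rw [h2]; group
    _ = g * (X.w x * X.w y * (X.w x)⁻¹) * g⁻¹ * X.Z (-b) := by group
    _ = g * X.w y * g⁻¹ * X.Z (-b) * X.Z (X.B x y) := by
        rw [X.B_spec, mul_assoc g, mul_assoc (X.w y),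
          ← (hz (X.B x y)).inv_left.eq]
        simp only [mul_assoc]
        congr 3
        rw [← X.z_add, ← X.z_add, add_comm]
    _ = _ := by rw [← hy]

theorem moves_add {g : G} {φ : Y → Y} (h : X.Moves g φ) (x y : Y) : φ (x + y) = φ x + φ y := by
  obtain ⟨hz, hw⟩ := h
  obtain ⟨a, ha⟩ := hw x
  obtain ⟨b, hb⟩ := hw y
  obtain ⟨c, hc⟩ := hw (x + y)
  obtain ⟨d, hd⟩ := X.w_mul x y
  obtain ⟨e, he⟩ := X.w_mul (φ x) (φ y)
  refine X.w_uniq (f := c + d) (f' := e + a + b) ?_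
  calc X.w (φ (x + y)) * X.Z (c + d) = g * X.w (x + y) * g⁻¹ * X.Z d := by rw [hc, X.z_add, mul_assoc]
    _ = g * (X.w (x + y) * X.Z d) * g⁻¹ := by
        simp only [mul_assoc]
        rw [(hz d).inv_left.eq]
    _ = g * X.w x * g⁻¹ * (g * X.w y * g⁻¹) := by rw [← hd]; group
    _ = X.w (φ x) * (X.Z a * X.w (φ y)) * X.Z b := by rw [ha, hb]; simp only [mul_assoc]
    _ = X.w (φ x) * X.w (φ y) * (X.Z a * X.Z b) := by rw [← (X.w_comm _ a).eq]; simp only [mul_assoc]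
    _ = _ := by rw [he, X.z_add, X.z_add]; simp only [mul_assoc]

theorem moves_inj {g : G} {φ : Y → Y} (h : X.Moves g φ) : Function.Injective φ := by
  intro x y hxy
  obtain ⟨hz, hw⟩ := h
  obtain ⟨a, ha⟩ := hw x
  obtain ⟨b, hb⟩ := hw y
  refine X.w_uniq (f := 0) (f' := a - b) (mul_left_cancel (mul_right_cancel (b := g⁻¹) (a := g * _) ?_))
  rw [X.z_zero, mul_one, ha, hxy, ← mul_assoc g, mul_assoc _ (X.Z (a - b)), (hz (a - b)).inv_left.symm.eq,
    ← mul_assoc, hb, mul_assoc, ← X.z_add, add_sub_cancel]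

/-- The operators of the centre. -/
noncomputable def opZ (f : F) : Module.End ℂ M := ρ (X.Z f)

theorem opZ_add (a b : F) : X.opZ ρ (a + b) = X.opZ ρ a * X.opZ ρ b := by rw [opZ, opZ, opZ, ← map_mul, X.z_add]

/-- The projection on a character of the centre. -/
noncomputable def P (ψ : AddChar F ℂ) : Module.End ℂ M := wp (X.opZ ρ) ψ

/-- The multiplicity of a character of the centre. -/
noncomputable def nZ (ψ : AddChar F ℂ) : ℕ := wm (X.opZ ρ) ψ

theorem P_comm {g : G} (hg : ∀ f, Commute g (X.Z f)) (ψ : AddChar F ℂ) : Commute (ρ g) (X.P ρ ψ) := by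
  refine Commute.smul_right (Commute.sum_right _ _ _ fun f _ => Commute.smul_right ?_ _) _
  exact (hg f).map ρ

theorem P_idem (ψ : AddChar F ℂ) : X.P ρ ψ * X.P ρ ψ = X.P ρ ψ := wp_idem (X.opZ_add ρ) ψ

theorem Z_P (ψ : AddChar F ℂ) (f : F) : ρ (X.Z f) * X.P ρ ψ = ψ f • X.P ρ ψ := mul_wp (X.opZ_add ρ) f ψ

theorem trace_P (ψ : AddChar F ℂ) : LinearMap.trace ℂ M (X.P ρ ψ) = X.nZ ρ ψ := by
  rw [nZ, wm_eq (X.opZ_add ρ), P, wp, map_smul, map_sum, smul_eq_mul]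
  simp only [map_smul, smul_eq_mul]

theorem chi_ne_zero (ψ : AddChar F ℂ) (f : F) : ψ f ≠ 0 := by
  intro h0
  have h1 := AddChar.map_add_eq_mul ψ f (-f)
  rw [add_neg_cancel, AddChar.map_zero_eq_one, h0, zero_mul] at h1
  exact one_ne_zero h1

theorem trace_conj_P {a : G} (ha : ∀ f, Commute a (X.Z f)) (ψ : AddChar F ℂ) (u : G) :
    LinearMap.trace ℂ M (ρ (a * u * a⁻¹) * X.P ρ ψ) = LinearMap.trace ℂ M (ρ u * X.P ρ ψ) := by
  have h := (X.P_comm ρ (fun f => (ha f).inv_left) ψ).eq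
  rw [ρ.map_mul, ρ.map_mul, mul_assoc _ (ρ a⁻¹), h, ← mul_assoc, LinearMap.trace_mul_comm, ← mul_assoc,
    ← mul_assoc, ← ρ.map_mul, inv_mul_cancel, ρ.map_one, one_mul]

/-- The trace of the radical off the centre vanishes on a nontrivial character. -/
theorem trace_w {ψ : AddChar F ℂ} (hψ : ψ ≠ 1) {y : Y} (hy : y ≠ 0) :
    LinearMap.trace ℂ M (ρ (X.w y) * X.P ρ ψ) = 0 := by
  obtain ⟨f0, hf0⟩ := AddChar.ne_one_iff.1 hψ
  obtain ⟨x, hx⟩ := X.pair y hy f0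
  set S := LinearMap.trace ℂ M (ρ (X.w y) * X.P ρ ψ) with hS
  have h : S = ψ f0 * S := by
    calc S = LinearMap.trace ℂ M (ρ (X.w x * X.w y * (X.w x)⁻¹) * X.P ρ ψ) := by
          rw [X.trace_conj_P ρ (X.w_comm x)]
      _ = ψ f0 * S := by
          rw [hx, ρ.map_mul, mul_assoc, X.Z_P ρ, mul_smul_comm, map_smul, smul_eq_mul]
  by_contra hne
  exact hf0 (mul_right_cancel₀ hne (h.symm.trans (one_mul _).symm))

theorem trace_sandwich (A B : Module.End ℂ M) :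
    LinearMap.trace ℂ (Module.End ℂ M) (LinearMap.mulLeft ℂ A ∘ₗ LinearMap.mulRight ℂ B) =
      LinearMap.trace ℂ M A * LinearMap.trace ℂ M B := by
  classical
  let b := Module.finBasis ℂ M
  let e : Module.End ℂ M ≃ₗ[ℂ] Matrix (Fin (finrank ℂ M)) (Fin (finrank ℂ M)) ℂ := LinearMap.toMatrix b b
  rw [LinearMap.trace_eq_matrix_trace ℂ ((Matrix.stdBasis ℂ _ _).map e.symm),
    LinearMap.trace_eq_matrix_trace ℂ b A, LinearMap.trace_eq_matrix_trace ℂ b B]
  simp only [Matrix.trace, Matrix.diag, Finset.sum_mul_sum]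
  rw [Fintype.sum_prod_type]
  refine Finset.sum_congr rfl fun i _ => Finset.sum_congr rfl fun j _ => ?_
  rw [LinearMap.toMatrix_apply]
  simp only [Basis.map_apply, Basis.map_repr, LinearEquiv.symm_symm, LinearEquiv.trans_apply,
    LinearMap.comp_apply, LinearMap.mulLeft_apply, LinearMap.mulRight_apply]
  have he : ∀ U V : Module.End ℂ M, e (U * V) = e U * e V := LinearMap.toMatrix_mul b
  rw [he, he, e.apply_symm_apply, Matrix.stdBasis_eq_single]
  simp [Matrix.mul_apply, Matrix.single_apply, Matrix.stdBasis, e, LinearMap.toMatrix_apply, ite_and, mul_ite]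

/-- Conjugation on the endomorphisms of a character. -/
noncomputable def conjOp (ψ : AddChar F ℂ) (y : Y) : Module.End ℂ (Module.End ℂ M) :=
  LinearMap.mulLeft ℂ (ρ (X.w y) * X.P ρ ψ) ∘ₗ LinearMap.mulRight ℂ (X.P ρ ψ * ρ (X.w y)⁻¹)

theorem conjOp_apply (ψ : AddChar F ℂ) (y : Y) (T : Module.End ℂ M) :
    X.conjOp ρ ψ y T = ρ (X.w y) * X.P ρ ψ * (T * (X.P ρ ψ * ρ (X.w y)⁻¹)) := rfl

theorem P_w (ψ : AddChar F ℂ) (y : Y) : X.P ρ ψ * ρ (X.w y) = ρ (X.w y) * X.P ρ ψ :=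
  (X.P_comm ρ (X.w_comm y) ψ).eq.symm

theorem conjOp_add (ψ : AddChar F ℂ) (x y : Y) :
    X.conjOp ρ ψ (x + y) = X.conjOp ρ ψ x * X.conjOp ρ ψ y := by
  obtain ⟨f, hf⟩ := X.w_mul x y
  refine LinearMap.ext fun T => ?_
  rw [Module.End.mul_apply, conjOp_apply, conjOp_apply, conjOp_apply]
  have hP := X.P_idem ρ ψ
  have hcy : X.P ρ ψ * ρ (X.w y) = ρ (X.w y) * X.P ρ ψ := X.P_w ρ ψ y
  have hcy' : ρ (X.w y)⁻¹ * X.P ρ ψ = X.P ρ ψ * ρ (X.w y)⁻¹ :=
    (X.P_comm ρ (fun g => (X.w_comm y g).inv_left) ψ).eq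
  calc ρ (X.w (x + y)) * X.P ρ ψ * (T * (X.P ρ ψ * ρ (X.w (x + y))⁻¹))
      = ρ (X.w (x + y)) * (ρ (X.Z f) * X.P ρ ψ) * (T * (ρ (X.Z (-f)) * X.P ρ ψ * ρ (X.w (x + y))⁻¹)) := by
        rw [X.Z_P, X.Z_P]
        simp only [mul_smul_comm, smul_mul_assoc, smul_smul]
        rw [← AddChar.map_add_eq_mul, neg_add_cancel, AddChar.map_zero_eq_one, one_smul]
    _ = ρ (X.w x * X.w y) * X.P ρ ψ * (T * (X.P ρ ψ * ρ (X.w x * X.w y)⁻¹)) := by
        rw [hf, mul_inv_rev, map_mul, map_mul, ← X.z_neg,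
          (X.P_comm ρ (fun g => by rw [Commute, SemiconjBy, ← X.z_add, ← X.z_add, add_comm] :
            ∀ g, Commute (X.Z (-f)) (X.Z g)) ψ).eq]
        simp only [mul_assoc]
    _ = ρ (X.w x) * X.P ρ ψ * (ρ (X.w y) * X.P ρ ψ * (T * (X.P ρ ψ * ρ (X.w y)⁻¹)) *
          (X.P ρ ψ * ρ (X.w x)⁻¹)) := by
        rw [mul_inv_rev, map_mul, map_mul]
        simp only [mul_assoc]
        congr 1
        rw [← mul_assoc (X.P ρ ψ) (ρ (X.w y)), hcy, mul_assoc (ρ (X.w y)), ← mul_assoc (X.P ρ ψ) (X.P ρ ψ), hP,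
          ← mul_assoc (ρ (X.w y)⁻¹) (X.P ρ ψ), hcy', mul_assoc (X.P ρ ψ) (ρ (X.w y)⁻¹),
          ← mul_assoc (X.P ρ ψ) (X.P ρ ψ), hP]

theorem conjOp_zero (ψ : AddChar F ℂ) (T : Module.End ℂ M) :
    X.conjOp ρ ψ 0 T = X.P ρ ψ * (T * X.P ρ ψ) := by
  rw [conjOp_apply, X.w_zero, inv_one, map_one, one_mul, mul_one]

theorem trace_conjOp [DecidableEq Y] {ψ : AddChar F ℂ} (hψ : ψ ≠ 1) (y : Y) :
    LinearMap.trace ℂ _ (X.conjOp ρ ψ y) = if y = 0 then ((X.nZ ρ ψ : ℂ) * X.nZ ρ ψ) else 0 := by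
  rw [conjOp, trace_sandwich]
  split_ifs with h
  · subst h
    rw [X.w_zero, inv_one, map_one, one_mul, mul_one, X.trace_P]
  · rw [X.trace_w ρ hψ h, zero_mul]

/-- The square of the degree on a nontrivial character is divisible by the order of the quotient. -/
theorem sq_eq {ψ : AddChar F ℂ} (hψ : ψ ≠ 1) :
    ∃ r : ℕ, X.nZ ρ ψ * X.nZ ρ ψ = Fintype.card Y * r ∧ wm (X.conjOp ρ ψ) 1 = r := by
  classical
  refine ⟨wm (X.conjOp ρ ψ) 1, ?_, rfl⟩
  apply Nat.cast_injective (R := ℂ)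
  rw [Nat.cast_mul, Nat.cast_mul, wm_eq (X.conjOp_add ρ ψ)]
  simp only [X.trace_conjOp ρ hψ, AddChar.one_apply, one_mul]
  rw [Finset.sum_ite_eq' Finset.univ, if_pos (Finset.mem_univ _), ← mul_assoc, mul_inv_cancel₀ (card_ne Y),
    one_mul]

theorem char_inv_P (ψ : AddChar F ℂ) {g : G} (hg : ∀ f, Commute g (X.Z f)) :
    LinearMap.trace ℂ M (ρ g⁻¹ * X.P ρ ψ) = starRingEnd ℂ (LinearMap.trace ℂ M (ρ g * X.P ρ ψ)) := by
  let H : Subgroup G := Subgroup.centralizer (Set.range X.Z)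
  have hc : ∀ h : H, Commute (ρ (h : G)) (X.P ρ ψ) := fun h =>
    X.P_comm ρ (fun f => (Subgroup.mem_centralizer_iff.1 h.2 _ ⟨f, rfl⟩).symm) ψ
  have hP := X.P_idem ρ ψ
  let σ : Representation ℂ H M :=
    { toFun := fun h => ρ (h : G) * X.P ρ ψ + (1 - X.P ρ ψ)
      map_one' := by simp
      map_mul' := fun a b => by
        have h1 : ρ (a : G) * X.P ρ ψ * (ρ (b : G) * X.P ρ ψ) = ρ ((a * b : H) : G) * X.P ρ ψ := by
          rw [Subgroup.coe_mul, map_mul, mul_assoc, ← mul_assoc (X.P ρ ψ), ← (hc b).eq, mul_assoc (ρ (b : G)),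
            hP, ← mul_assoc]
        have h2 : ρ (a : G) * X.P ρ ψ * (1 - X.P ρ ψ) = 0 := by rw [mul_sub, mul_one, mul_assoc, hP, sub_self]
        have h3 : (1 - X.P ρ ψ) * (ρ (b : G) * X.P ρ ψ) = 0 := by
          rw [sub_mul, one_mul, ← mul_assoc, ← (hc b).eq, mul_assoc, hP, sub_self]
        have h4 : (1 - X.P ρ ψ) * (1 - X.P ρ ψ) = 1 - X.P ρ ψ := by
          rw [sub_mul, one_mul, mul_sub, mul_one, hP, sub_self, sub_zero]
        rw [add_mul, mul_add, mul_add, h1, h2, h3, h4, add_zero, zero_add] }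
  have hgH : g ∈ H := Subgroup.mem_centralizer_iff.2 (by rintro _ ⟨f, rfl⟩; exact (hg f).symm.eq)
  have key := Cfsg.Agent.Char.char_inv (Cfsg.Agent.Char.isCharacter_character σ) ⟨g, hgH⟩
  have hv : ∀ h : H, σ.character h = LinearMap.trace ℂ M (ρ (h : G) * X.P ρ ψ) +
      ((finrank ℂ M : ℂ) - X.nZ ρ ψ) := fun h => by
    show LinearMap.trace ℂ M (ρ (h : G) * X.P ρ ψ + (1 - X.P ρ ψ)) = _
    rw [map_add, map_sub, LinearMap.trace_one, X.trace_P]
  rw [hv, hv, map_add, map_sub, map_natCast, map_natCast, add_left_inj] at key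
  exact key

/-- The trace of a moving element on an irreducible character of the radical. -/
theorem normSq_le {ψ : AddChar F ℂ} (hψ : ψ ≠ 1) (hsq : X.nZ ρ ψ * X.nZ ρ ψ = Fintype.card Y)
    (hunit : ∀ f, ‖ψ f‖ = 1) {g : G} {φ : Y → Y} (h : X.Moves g φ) [DecidablePred fun y => φ y = y] :
    ‖LinearMap.trace ℂ M (ρ g * X.P ρ ψ)‖ ^ 2 ≤ (Finset.univ.filter fun y => φ y = y).card := by
  classical
  obtain ⟨hz, hw⟩ := id h
  set P := X.P ρ ψ with hPdef
  set d := X.nZ ρ ψ with hd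
  have hd0 : (d : ℂ) ≠ 0 := by
    intro h0
    rw [Nat.cast_eq_zero.1 h0, zero_mul] at hsq
    exact Fintype.card_ne_zero hsq.symm
  have hr : wm (X.conjOp ρ ψ) 1 = 1 := by
    obtain ⟨r, h1, h2⟩ := X.sq_eq ρ hψ
    rw [← hd, hsq] at h1
    rw [h2]
    exact (mul_eq_left₀ Fintype.card_ne_zero).1 h1.symm
  set Q1 := wp (X.conjOp ρ ψ) 1 with hQ1
  have hQ1v : ∀ T, Q1 T = (Fintype.card Y : ℂ)⁻¹ • ∑ y, X.conjOp ρ ψ y T := fun T => by
    rw [hQ1, wp, LinearMap.smul_apply, LinearMap.sum_apply]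
    simp only [AddChar.one_apply, one_smul]
  have hPP : P * P = P := X.P_idem ρ ψ
  have htrace : ∀ T y, LinearMap.trace ℂ M (X.conjOp ρ ψ y T) = LinearMap.trace ℂ M (P * T) := by
    intro T y
    rw [conjOp_apply, ← hPdef, LinearMap.trace_mul_comm, mul_assoc T, ← mul_assoc (P * ρ (X.w y)⁻¹),
      mul_assoc P, ← map_mul, inv_mul_cancel, map_one, mul_one, hPP, LinearMap.trace_mul_comm]
  have hPfix : Q1 P = P := by
    rw [hQ1v, Finset.sum_congr rfl fun y _ => show X.conjOp ρ ψ y P = P from ?_, Finset.sum_const,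
      Finset.card_univ, ← Nat.cast_smul_eq_nsmul ℂ, smul_smul, inv_mul_cancel₀ (card_ne Y), one_smul]
    rw [conjOp_apply, ← hPdef, ← mul_assoc P P, hPP, mul_assoc, ← mul_assoc P P, hPP, ← mul_assoc, hPdef,
      ← X.P_w, mul_assoc, ← map_mul, mul_inv_cancel, map_one, mul_one]
  have hP0 : P ≠ 0 := fun h0 => hd0 (by rw [hd, ← X.trace_P, ← hPdef, h0, map_zero])
  have hspan : ∀ T, ∃ c : ℂ, c • P = Q1 T := fun T => by
    have h1 : finrank ℂ (LinearMap.range Q1) = 1 := hr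
    obtain ⟨c, hc⟩ := (finrank_eq_one_iff_of_nonzero' (⟨P, P, hPfix⟩ : LinearMap.range Q1)
      (fun h0 => hP0 (congrArg Subtype.val h0))).1 h1 ⟨Q1 T, T, rfl⟩
    exact ⟨c, congrArg Subtype.val hc⟩
  have hschur : ∀ T, ∑ y, X.conjOp ρ ψ y T = ((Fintype.card Y : ℂ) * LinearMap.trace ℂ M (P * T) / d) • P := by
    intro T
    obtain ⟨c, hc⟩ := hspan T
    rw [hQ1v, eq_comm, inv_smul_eq_iff₀ (card_ne Y)] at hc
    have h1 := congrArg (LinearMap.trace ℂ M) hc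
    rw [map_sum, Finset.sum_congr rfl fun y _ => htrace T y, Finset.sum_const, Finset.card_univ, nsmul_eq_mul,
      map_smul, map_smul, hPdef, X.trace_P, ← hd, smul_eq_mul, smul_eq_mul] at h1
    rw [hc, smul_smul]
    congr 1
    rw [eq_div_iff hd0, h1]
    ring
  set t := LinearMap.trace ℂ M (ρ g * P) with ht
  have hgP : Commute (ρ g) P := X.P_comm ρ hz ψ
  have hSum : ∑ y, LinearMap.trace ℂ M (ρ g * X.conjOp ρ ψ y (ρ g⁻¹)) =
      (d : ℂ) * ((‖t‖ ^ 2 : ℝ) : ℂ) := by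
    rw [← map_sum, ← Finset.mul_sum, hschur, mul_smul_comm, map_smul, smul_eq_mul, ← ht]
    have e : LinearMap.trace ℂ M (P * ρ g⁻¹) = starRingEnd ℂ t := by
      rw [LinearMap.trace_mul_comm, hPdef, X.char_inv_P ρ ψ hz, ← hPdef, ← ht]
    rw [e, show (Fintype.card Y : ℂ) = (d : ℂ) * d by rw [← Nat.cast_mul, hsq]]
    rw [show ((‖t‖ ^ 2 : ℝ) : ℂ) = starRingEnd ℂ t * t by rw [Complex.conj_mul', Complex.ofReal_pow]]
    field_simp
  have hterm : ∀ y, ‖LinearMap.trace ℂ M (ρ g * X.conjOp ρ ψ y (ρ g⁻¹))‖ ≤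
      if φ y = y then (d : ℝ) else 0 := by
    intro y
    obtain ⟨a, ha⟩ := hw y
    obtain ⟨b, hb⟩ := X.w_inv y
    obtain ⟨c, hc⟩ := X.w_mul (φ y) (-y)
    have e : ρ g * X.conjOp ρ ψ y (ρ g⁻¹) = (ψ (a + b + c)) • (ρ (X.w (φ y + -y)) * P) := by
      have hg' : Commute (ρ g⁻¹) P := X.P_comm ρ (fun f => (hz f).inv_left) ψ
      calc ρ g * X.conjOp ρ ψ y (ρ g⁻¹)
          = ρ g * ρ (X.w y) * (P * ρ g⁻¹) * P * ρ (X.w y)⁻¹ := by
            rw [conjOp_apply, ← hPdef]; simp only [mul_assoc]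
        _ = ρ g * ρ (X.w y) * ρ g⁻¹ * (P * ρ (X.w y)⁻¹) := by
            rw [← hg'.eq]; simp only [mul_assoc]; rw [← mul_assoc P P, hPP]
        _ = ρ (g * X.w y * g⁻¹ * (X.w y)⁻¹) * P := by
            rw [map_mul, map_mul, map_mul, hPdef,
              ← (X.P_comm ρ (fun f => (X.w_comm y f).inv_left) ψ).eq]
            simp only [mul_assoc]
        _ = ρ (X.w (φ y + -y) * X.Z (a + b + c)) * P := by
            congr 2
            rw [ha, hb, mul_assoc (X.w (φ y)), ← mul_assoc (X.Z a), ← (X.w_comm (-y) a).eq,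
              mul_assoc (X.w (-y)), ← X.z_add, ← mul_assoc, hc, mul_assoc, ← X.z_add]
            congr 2
            abel
        _ = _ := by rw [map_mul, mul_assoc, hPdef, X.Z_P, mul_smul_comm]
    rw [e, map_smul, smul_eq_mul, norm_mul, hunit, one_mul]
    split_ifs with hy
    · rw [hy, add_neg_cancel, X.w_zero, map_one, one_mul, hPdef, X.trace_P, ← hd, Complex.norm_natCast]
    · rw [X.trace_w ρ hψ (fun h0 => hy (by rwa [← sub_eq_add_neg, sub_eq_zero] at h0)), norm_zero]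
  have h1 := (norm_sum_le _ _).trans (Finset.sum_le_sum fun y (_ : y ∈ Finset.univ) => hterm y)
  rw [hSum, norm_mul, Complex.norm_natCast, Complex.norm_real, Real.norm_of_nonneg (sq_nonneg _),
    Finset.sum_ite, Finset.sum_const_zero, add_zero, Finset.sum_const, nsmul_eq_mul, mul_comm _ (d : ℝ)] at h1
  exact le_of_mul_le_mul_left h1 (by
    rw [Nat.cast_pos, Nat.pos_iff_ne_zero]; exact fun h0 => hd0 (by rw [h0, Nat.cast_zero]))

end Heis

end Cfsg.Agent.Small.TwE6Deg
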