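import Cfsg.Agent.Lib.Small.TwE6Deg.Orbit

/-!
The lower bounds for invariant sets of fixed vectors.
-/

set_option autoImplicit false
set_option maxRecDepth 4000
set_option linter.unusedSectionVars false

namespace Cfsg.Agent.Small.TwE6Deg

open Cfsg.Lie Cfsg.Agent.Lie Finset
open Cfsg.Agent.Lie.E6 (Setup)
open scoped MatrixGroups

/-- Roots of the orbits of the Levi subgroup. -/
theorem mem_LR {o : List ℕ} (ho : o ∈ Orbs.take 18) {α : ℕ} (hα : α ∈ o) : α ∈ LR :=
  List.contains_iff_mem.1 (List.all_eq_true.1 (List.all_eq_true.1 Orbs_LR o ho) α hα)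

/-- A configuration. -/
structure Cfg where
  /-- the positions -/
  supp0 : List Pos
  /-- the extremal positions -/
  longs : List Pos
  /-- the moving orbits -/
  Lo : List (List ℕ)
  /-- the rows -/
  rows : List Row
  /-- the links between extremal positions -/
  links : List (Pos × Pos × List ℕ)
  /-- from the other positions to an extremal one -/
  shorts : List (Pos × Pos × List ℕ)

/-- The other positions. -/
def Cfg.others (C : Cfg) : List Pos := C.supp0.filter fun m => !(C.longs.contains m)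

/-- The checks of a configuration. -/
def okCfg (C : Cfg) : Bool :=
  C.rows.all (okRow C.supp0 C.longs C.Lo) && decide (C.rows.map Row.i = C.longs) && decide C.longs.Nodup &&
    decide C.supp0.Nodup &&
    C.Lo.all (fun o => decide (o ∈ Orbs.take 18) && decide o.Nodup) &&
    C.supp0.all (fun m => C.supp0.contains (π m)) &&
    C.longs.all (fun i => decide (π i = i) && C.supp0.contains i) &&
    C.links.all (fun l => decide (l.1 ∈ C.longs) && decide (l.2.1 ∈ C.longs) && decide (l.2.2 ∈ C.Lo) &&
      match pathsTo chevE6 QL l.2.2 [l.1] l.2.1 with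
      | [(_, _, z, rs)] => decide (z = 1 ∨ z = -1) && rs.all (fun α => l.2.2.contains α)
      | _ => false) &&
    (C.longs.zip C.longs.tail).all (fun p => C.links.any (fun l => decide (l.1 = p.1 ∧ l.2.1 = p.2)) &&
      C.links.any (fun l => decide (l.1 = p.2 ∧ l.2.1 = p.1))) &&
    C.others.all (fun j => C.shorts.any fun e => decide (e.1 = j)) &&
    C.shorts.all (fun e => decide (e.2.2 ∈ C.Lo) && decide (e.2.1 ∈ C.longs) &&
      okChange e.2.2 C.others e.1 e.2.1 &&
      ((pathsTo chevE6 QL e.2.2 C.others e.2.1).filter fun p => decide (p = idPath e.2.1)).isEmpty)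

variable {K : Type*} [Field K] [Fintype K] {q : ℕ} (S : Setup K q)

/-- The nonzero vectors considered. -/
noncomputable def Dom (q : ℕ) (supp0 : List Pos) : Finset (Pos → K) :=
  letI := Classical.decPred fun y : Pos → K => Fx q supp0 y ∧ y ≠ 0
  Finset.univ.filter fun y => Fx q supp0 y ∧ y ≠ 0

theorem mem_Dom {supp0 : List Pos} {y : Pos → K} : y ∈ Dom q supp0 ↔ Fx q supp0 y ∧ y ≠ 0 := by
  classical
  simp [Dom]

/-- The fixed field. -/
noncomputable def FqSet (K : Type*) [Field K] [Fintype K] (q : ℕ) : Finset K :=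
  letI := Classical.decPred fun c : K => c ^ q = c
  Finset.univ.filter fun c => c ^ q = c

include S in
theorem card_FqSet : (FqSet K q).card = q := by
  classical
  refine Eq.trans ?_ (card_pow_eq_self (q := q) (F := K) S.hq S.hK)
  rw [Nat.card_eq_fintype_card, Fintype.card_subtype]
  exact congrArg Finset.card (Finset.ext fun c => by simp [FqSet])

include S in
theorem Fx.val {supp0 : List Pos} {y : Pos → K} (h : Fx q supp0 y) {i : Pos} (hi : π i = i) :
    (sgn i : K) * y i ^ q = y i := by
  have h1 := h.at i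
  rw [hi] at h1
  exact h1.symm

theorem sgn_fixed : ∀ i : Pos, π i = i → sgn i = 1 := by decide +kernel

include S in
theorem Fx.mem_Fq {supp0 : List Pos} {y : Pos → K} (h : Fx q supp0 y) {i : Pos} (hi : π i = i) :
    y i ∈ FqSet K q := by
  have h1 := h.val S hi
  rw [sgn_fixed i hi, Int.cast_one, one_mul] at h1
  simp [FqSet, h1]

include S in
theorem fx_of (supp0 : List Pos) (y : Pos → K) (h : ∀ m, y (π m) = (sgn m : K) * y m ^ q)
    (h0 : ∀ m, m ∉ supp0 → y m = 0) : Fx q supp0 y :=
  ⟨funext fun j => by rw [sigY, ← h (π j), (π_spec j).2.1], h0⟩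

include S in
theorem zero_pow_q : (0 : K) ^ q = 0 := zero_pow (by have := S.hq; omega)

include S in
theorem fx_zero (supp0 : List Pos) : Fx q supp0 (0 : Pos → K) :=
  fx_of S supp0 _ (fun m => by simp [zero_pow_q S]) fun _ _ => rfl

include S in
theorem fx_single {supp0 : List Pos} {i : Pos} (hi : π i = i) (hm : i ∈ supp0) {c : K} (hc : c ^ q = c) :
    Fx q supp0 (Pi.single i c) := by
  refine fx_of S supp0 _ (fun m => ?_) fun m hm' => Pi.single_eq_of_ne (fun e => hm' (by rw [e]; exact hm)) _
  by_cases hmi : m = i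
  · subst hmi
    rw [hi, Pi.single_eq_same, hc, sgn_fixed m hi, Int.cast_one, one_mul]
  · rw [Pi.single_eq_of_ne hmi, zero_pow_q S, mul_zero, Pi.single_eq_of_ne]
    intro e
    exact hmi (by rw [← (π_spec m).2.1, e, hi])

include S in
/-- The number of fixed vectors with a given support. -/
theorem card_fx (P : List Pos) (hnd : P.Nodup) (hP : ∀ m ∈ P, π m ∈ P) :
    ∃ V : Finset (Pos → K), V.card = q ^ P.length ∧ ∀ v, v ∈ V ↔ Fx q P v := by
  classical
  refine ⟨Finset.univ.filter fun v => Fx q P v, ?_, fun v => by simp⟩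
  induction hn : P.length using Nat.strong_induction_on generalizing P with
  | _ n ih =>
  subst hn
  rcases P with _ | ⟨k, P⟩
  · rw [show (Finset.univ.filter fun v : Pos → K => Fx q [] v) = {0} from ?_, Finset.card_singleton]
    · simp
    · ext v
      simp only [Finset.mem_filter, Finset.mem_univ, true_and, Finset.mem_singleton]
      exact ⟨fun h => funext fun m => h.2 m List.not_mem_nil, fun h => h ▸ fx_zero S []⟩
  obtain ⟨hk, hnd'⟩ := List.nodup_cons.1 hnd
  set P' := P.filter (fun m => !decide (m = π k)) with hP'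
  have hmem : ∀ m, m ∈ P' ↔ m ∈ P ∧ m ≠ π k := fun m => by simp [hP']
  have hP'st : ∀ m ∈ P', π m ∈ P' := by
    intro m hm
    obtain ⟨hmP, hne⟩ := (hmem m).1 hm
    refine (hmem _).2 ⟨(List.mem_cons.1 (hP m (List.mem_cons_of_mem _ hmP))).resolve_left (fun e => hne ?_),
      fun e => hk ?_⟩
    · rw [← e, (π_spec m).2.1]
    · rwa [← (π_spec k).2.1, ← e, (π_spec m).2.1]
  have hlen : P'.length ≤ P.length := List.length_filter_le _ _
  set V' := Finset.univ.filter fun v : Pos → K => Fx q P' v with hV'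
  have hcard' := ih P'.length (by simp only [List.length_cons]; omega) P' (hnd'.filter _) hP'st rfl
  rw [← hV'] at hcard'
  set A : Finset K := if π k = k then FqSet K q else Finset.univ with hA
  let build : K × (Pos → K) → (Pos → K) := fun p m =>
    if m = k then p.1 else if m = π k then (sgn k : K) * p.1 ^ q else p.2 m
  have himg : (Finset.univ.filter fun v : Pos → K => Fx q (k :: P) v) = (A ×ˢ V').image build := by
    ext v
    simp only [Finset.mem_filter, Finset.mem_univ, true_and, Finset.mem_image, Finset.mem_product, Prod.exists,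
      hV']
    constructor
    · intro hv
      refine ⟨v k, fun m => if m = k ∨ m = π k then 0 else v m, ⟨?_, fx_of S _ _ (fun m => ?_) fun m hm => ?_⟩, ?_⟩
      · rw [hA]
        split_ifs with h
        · exact hv.mem_Fq S h
        · exact Finset.mem_univ _
      · by_cases hm : m = k ∨ m = π k
        · rw [if_pos hm, zero_pow_q S, mul_zero, if_pos]
          rcases hm with rfl | rfl
          · exact Or.inr rfl
          · exact Or.inl (π_spec k).2.1
        · rw [if_neg hm, if_neg, hv.at m]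
          rintro (e | e)
          · exact hm (Or.inr (by rw [← e, (π_spec m).2.1]))
          · exact hm (Or.inl (by rw [← (π_spec m).2.1, e, (π_spec k).2.1]))
      · split_ifs with h
        · rfl
        · push Not at h
          refine hv.2 m fun hmem' => hm ((hmem m).2 ⟨?_, h.2⟩)
          exact (List.mem_cons.1 hmem').resolve_left h.1
      · funext m
        simp only [build]
        by_cases h1 : m = k
        · rw [if_pos h1, h1]
        · rw [if_neg h1]
          by_cases h2 : m = π k
          · rw [if_pos h2, h2, hv.at k]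
          · rw [if_neg h2, if_neg (by push Not; exact ⟨h1, h2⟩)]
    · rintro ⟨c, v', ⟨hc, hv'⟩, rfl⟩
      refine fx_of S _ _ (fun m => ?_) fun m hm => ?_
      · simp only [build]
        by_cases h1 : m = k
        · subst h1
          rw [if_pos rfl]
          by_cases h : π m = m
          · rw [if_pos h]
            rw [hA, if_pos h] at hc
            have hc' : c ^ q = c := by simpa [FqSet] using hc
            rw [if_pos rfl, sgn_fixed m h, hc', Int.cast_one, one_mul]
          · rw [if_neg h, if_pos rfl]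
        · rw [if_neg h1]
          by_cases h2 : m = π k
          · subst h2
            rw [if_pos rfl, (π_spec k).2.1, if_pos rfl, (π_spec k).2.2.2.1, mul_pow, pow_q_int S, ← mul_assoc,
              S.pow_sq]
            rcases (π_spec k).2.2.1 with e | e <;> simp [e]
          · rw [if_neg h2, if_neg (fun e => h2 (by rw [← e, (π_spec m).2.1])),
              if_neg (fun e => h1 (by rw [← (π_spec m).2.1, e, (π_spec k).2.1])), hv'.at m]
      · simp only [build]
        rw [if_neg (fun e : m = k => hm (by simp [e])), if_neg (fun e : m = π k => hm (e ▸ hP k List.mem_cons_self))]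
        exact hv'.2 m fun hm' => hm (List.mem_cons_of_mem _ ((hmem m).1 hm').1)
  rw [himg, Finset.card_image_of_injOn, Finset.card_product, hcard']
  · by_cases h : π k = k
    · rw [hA, if_pos h, card_FqSet S, List.length_cons, pow_succ']
      have : P' = P := List.filter_eq_self.2 fun m hm => by
        simp only [Bool.not_eq_true', decide_eq_false_iff_not]
        rintro rfl
        rw [h] at hm
        exact hk hm
      rw [this]
    · rw [hA, if_neg h, Finset.card_univ, ← Nat.card_eq_fintype_card, S.hK, ← pow_add]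
      congr 1
      have hπ : π k ∈ P := (List.mem_cons.1 (hP k List.mem_cons_self)).resolve_left h
      have : P'.length + 1 = P.length := by
        rw [hP', ← List.countP_eq_length_filter]
        have h2 := List.length_eq_countP_add_countP (fun m => !decide (m = π k)) (l := P)
        have h3 : P.countP (fun a => decide ¬(!decide (a = π k)) = true) = 1 := by
          rw [← List.count_eq_one_of_mem hnd' hπ, List.count]
          refine List.countP_congr fun a _ => ?_
          simp
        omega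
      simp only [List.length_cons]
      omega
  · rintro ⟨c, v⟩ hp ⟨c', v'⟩ hp' he
    simp only [Finset.coe_product, Set.mem_prod, Finset.mem_coe, hV', Finset.mem_filter, Finset.mem_univ, true_and]
      at hp hp'
    refine Prod.ext ?_ (funext fun m => ?_)
    · simpa [build] using congrFun he k
    · by_cases h : m = k ∨ m = π k
      · have hz : m ∉ P' := by
          rw [hmem]
          rcases h with rfl | rfl
          · exact fun hh => hk hh.1
          · exact fun hh => hh.2 rfl
        show v m = v' m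
        rw [hp.2.2 m hz, hp'.2.2 m hz]
      · push Not at h
        simpa [build, h.1, h.2] using congrFun he m

section Cfg

variable {C : Cfg} {W : (Pos → K) → ℕ}

theorem cfg_spec (h : okCfg C = true) : (∀ R ∈ C.rows, okRow C.supp0 C.longs C.Lo R = true) ∧
    C.rows.map Row.i = C.longs ∧ C.longs.Nodup ∧ C.supp0.Nodup ∧ (∀ o ∈ C.Lo, o ∈ Orbs.take 18 ∧ o.Nodup) ∧
    (∀ m ∈ C.supp0, π m ∈ C.supp0) ∧ (∀ i ∈ C.longs, π i = i ∧ i ∈ C.supp0) ∧
    (∀ l ∈ C.links, l.1 ∈ C.longs ∧ l.2.1 ∈ C.longs ∧ l.2.2 ∈ C.Lo ∧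
      ∃ (a b : Pos) (z : ℤ) (rs : List ℕ), pathsTo chevE6 QL l.2.2 [l.1] l.2.1 = [(a, b, z, rs)] ∧
        (z = 1 ∨ z = -1) ∧ ∀ α ∈ rs, α ∈ l.2.2) ∧
    (∀ p ∈ C.longs.zip C.longs.tail, (∃ l ∈ C.links, l.1 = p.1 ∧ l.2.1 = p.2) ∧
      ∃ l ∈ C.links, l.1 = p.2 ∧ l.2.1 = p.1) ∧
    (∀ j ∈ C.others, ∃ e ∈ C.shorts, e.1 = j) ∧
    ∀ e ∈ C.shorts, e.2.2 ∈ C.Lo ∧ e.2.1 ∈ C.longs ∧ okChange e.2.2 C.others e.1 e.2.1 = true ∧
      ((pathsTo chevE6 QL e.2.2 C.others e.2.1).filter fun p => decide (p = idPath e.2.1)) = [] := by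
  simp only [okCfg, Bool.and_eq_true, List.all_eq_true, List.any_eq_true, decide_eq_true_eq, List.contains_iff_mem,
    List.isEmpty_iff] at h
  obtain ⟨⟨⟨⟨⟨⟨⟨⟨⟨⟨h1, h2⟩, h3⟩, h4⟩, h5⟩, h6⟩, h7⟩, h8⟩, h9⟩, h10⟩, h11⟩ := h
  refine ⟨h1, h2, h3, h4, h5, h6, h7, fun l hl => ?_, h9, h10, fun e he => ?_⟩
  · obtain ⟨⟨⟨a1, a2⟩, a3⟩, a4⟩ := h8 l hl
    refine ⟨a1, a2, a3, ?_⟩
    rcases hp : pathsTo chevE6 QL l.2.2 [l.1] l.2.1 with _ | ⟨⟨x, y, z, rs⟩, _ | ⟨p, ps⟩⟩
    · rw [hp] at a4; simp at a4
    · rw [hp] at a4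
      simp only [Bool.and_eq_true, decide_eq_true_eq, List.all_eq_true, List.contains_iff_mem] at a4
      exact ⟨x, y, z, rs, rfl, a4.1, a4.2⟩
    · rw [hp] at a4; simp at a4
  · obtain ⟨⟨⟨a1, a2⟩, a3⟩, a4⟩ := h11 e he
    exact ⟨a1, a2, a3, a4⟩

include S in
/-- Parameters for an additive change. -/
theorem change {l : List ℕ} {supp : List Pos} {j k : Pos} (hok : okChange l supp j k = true) (hl : l ∈ Orbs)
    (hnd : supp.Nodup) {y : Pos → K} (hys : ∀ m, m ∉ supp → y m = 0)
    (hj : y j ≠ 0) : ∃ t : ℕ → K, Compat q t l ∧ mvs chevE6 QL l t y k -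
      (((pathsTo chevE6 QL l supp k).filter fun p => decide (p = idPath k)).map (pval t y)).sum ≠ 0 := by
  classical
  have hval : ∀ t : ℕ → K, mvs chevE6 QL l t y k -
      (((pathsTo chevE6 QL l supp k).filter fun p => decide (p = idPath k)).map (pval t y)).sum =
      (((pathsTo chevE6 QL l supp k).filter fun p => !decide (p = idPath k)).map (pval t y)).sum := by
    intro t
    rw [mvs_eq_psum l t hnd y hys k, psum]
    change (((pathsTo chevE6 QL l supp k)).map (pval t y)).sum - _ = _
    rw [sub_eq_iff_eq_add, ← List.sum_append, ← List.map_append]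
    exact ((List.filter_append_perm (fun p => decide (p = idPath k)) _).symm.trans List.perm_append_comm).map _
      |>.sum_eq
  simp only [hval]
  -- parameters from a value on a root of the orbit
  have hpar : ∀ α ∈ l, ∀ s : K, (l.length = 1 → s ^ q = s) → ∃ t : ℕ → K, Compat q t l ∧ t α = s := by
    intro α hα s hs
    have hokO := List.all_eq_true.1 okOrbs l hl
    simp only [okOrb, Bool.and_eq_true] at hokO
    obtain ⟨⟨hlt, -⟩, hm⟩ := hokO
    match l, hm, hlt, hα, hs, hl with
    | [r], hm, _, hα, hs, hl =>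
      simp only [decide_eq_true_eq] at hm
      obtain rfl := List.mem_singleton.1 hα
      refine ⟨fun _ => s, fun x hx => ?_, rfl⟩
      obtain rfl := List.mem_singleton.1 hx
      have hsig : ∀ o ∈ Orbs, ∀ r ∈ o, o.length = 1 → graphE6.sign r = 1 := by decide +kernel
      rw [hs rfl, hsig _ hl _ List.mem_cons_self rfl, Int.cast_one, one_mul]
    | [r, r'], hm, _, hα, _, hl =>
      simp only [Bool.and_eq_true, decide_eq_true_eq] at hm
      obtain ⟨⟨⟨⟨h1, h2⟩, h3⟩, -⟩, -⟩ := hm
      have hsig : ∀ o ∈ Orbs, ∀ x ∈ o, ∀ x' ∈ o, graphE6.sign x = graphE6.sign x' ∧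
          (graphE6.sign x = 1 ∨ graphE6.sign x = -1) := by decide +kernel
      obtain ⟨hs1, hs2⟩ := hsig _ hl r (by simp) r' (by simp)
      obtain ⟨β, hβ, hαβ, hβα, hab⟩ : ∃ β, (α = r ∧ β = r' ∨ α = r' ∧ β = r) ∧ graphE6.img α = β ∧
          graphE6.img β = α ∧ β ≠ α := by
        rcases List.mem_cons.1 hα with rfl | hα'
        · exact ⟨r', Or.inl ⟨rfl, rfl⟩, h1, h2, h3⟩
        · obtain rfl := List.mem_singleton.1 hα'
          exact ⟨r, Or.inr ⟨rfl, rfl⟩, h2, h1, Ne.symm h3⟩
      refine ⟨fun x => if x = α then s else (graphE6.sign α : K) * s ^ q, fun x hx => ?_, if_pos rfl⟩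
      have hx' : x = α ∨ x = β := by
        simp only [List.mem_cons, List.not_mem_nil, or_false] at hx
        rcases hβ with ⟨rfl, rfl⟩ | ⟨rfl, rfl⟩ <;> tauto
      have hsab : graphE6.sign β = graphE6.sign α := by
        rcases hβ with ⟨rfl, rfl⟩ | ⟨rfl, rfl⟩
        exacts [hs1.symm, hs1]
      have hunit : (graphE6.sign α : K) * graphE6.sign α = 1 := by
        obtain ⟨-, hu⟩ := hsig _ hl α (by rcases hβ with ⟨rfl, rfl⟩ | ⟨rfl, rfl⟩ <;> simp) r (by simp)
        exact unit_mul hu
      rcases hx' with rfl | rfl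
      · simp only [hαβ, if_pos, if_neg hab]
      · simp only [hβα, if_pos, if_neg hab, hsab, mul_pow, pow_q_int S, S.pow_sq, ← mul_assoc, hunit, one_mul]
    | [], hm, _, _, _, _ => exact absurd hm (by simp)
    | _ :: _ :: _ :: _, hm, _, _, _, _ => exact absurd hm (by simp)
  have hpair : ∀ (α : ℕ) (z z' : ℤ), α ∈ l → (z = 1 ∨ z = -1) → l.length = 2 → ∃ t : ℕ → K, Compat q t l ∧
      (z : K) * t α * y j + (z' : K) * t (graphE6.img α) * y (π j) ≠ 0 := by
    intro α z z' hα hz h2
    obtain ⟨s, hs⟩ := exists_change (a := (z : K) * y j) (b := (z' : K) * (graphE6.sign α : K) * y (π j))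
      (mul_ne_zero (unit_ne hz) hj) S.hq S.hK
    obtain ⟨t, ht, hts⟩ := hpar α hα s (fun h => by omega)
    refine ⟨t, ht, ?_⟩
    rw [ht α hα, hts]
    intro h0
    exact hs (by rw [← h0]; ring)
  have hsel : ∀ (α : ℕ) (z : ℤ), α ∈ l → (z = 1 ∨ z = -1) →
      ∃ t : ℕ → K, Compat q t l ∧ (z : K) * t α * y j ≠ 0 := by
    intro α z hα hz
    obtain ⟨t, ht, ht1⟩ := hpar α hα 1 (fun _ => one_pow q)
    exact ⟨t, ht, by rw [ht1, mul_one]; exact mul_ne_zero (unit_ne hz) hj⟩
  unfold okChange at hok
  rcases hps : (pathsTo chevE6 QL l supp k).filter fun p => !decide (p = idPath k) with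
    _ | ⟨⟨j₁, k₁, z, rs⟩, _ | ⟨⟨j₂, k₂, z', rs'⟩, _ | ⟨p, ps⟩⟩⟩
  · rw [hps] at hok; simp at hok
  · rw [hps] at hok
    rcases rs with _ | ⟨α, _ | ⟨β, r⟩⟩
    · simp at hok
    · simp only [Bool.and_eq_true, decide_eq_true_eq] at hok
      obtain ⟨⟨rfl, hz⟩, hα⟩ := hok
      obtain ⟨t, ht, hne⟩ := hsel α z hα hz
      exact ⟨t, ht, by simpa [pval, mul_assoc] using hne⟩
    · simp at hok
  · rw [hps] at hok
    rcases rs with _ | ⟨α, _ | ⟨_, _⟩⟩
    · simp at hok
    · rcases rs' with _ | ⟨β, _ | ⟨_, _⟩⟩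
      · simp at hok
      · simp only [Bool.and_eq_true, Bool.or_eq_true, decide_eq_true_eq] at hok
        obtain ⟨⟨⟨hcase, hz⟩, hz'⟩, h2⟩ := hok
        rcases hcase with ⟨⟨⟨rfl, rfl⟩, rfl⟩, hα⟩ | ⟨⟨⟨rfl, rfl⟩, rfl⟩, hβ⟩
        · obtain ⟨t, ht, hne⟩ := hpair α z z' hα hz h2
          exact ⟨t, ht, by simpa [pval, mul_assoc] using hne⟩
        · obtain ⟨t, ht, hne⟩ := hpair β z' z hβ hz' h2
          exact ⟨t, ht, by simpa [pval, mul_assoc, add_comm] using hne⟩
      · simp at hok
    · simp at hok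
  · rw [hps] at hok; simp at hok

end Cfg

end Cfsg.Agent.Small.TwE6Deg
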