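import Cfsg.Agent.Lib.Small.TwE6Deg.Bound

/-!
The tables of the two invariant sets.
-/

set_option autoImplicit false
set_option maxRecDepth 100000

namespace Cfsg.Agent.Small.TwE6Deg

/-- The whole module. -/
def cfgMain : Cfg where
  supp0 := [0, 1, 2, 3, 4, 5, 6, 7, 8, 9, 10, 11, 12, 13, 14, 15, 16, 17, 18, 19]
  longs := [0, 1, 9, 6, 18, 19, 15, 12]
  Lo := [[11], [12, 26], [13, 30], [14, 33], [15, 35], [27], [28, 31], [29, 34], [32], [36, 56], [37, 42], [38, 57], [39], [40, 43], [41, 58], [44], [45, 59], [60]]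
  rows := [
    { i := 0
      T := [[11], [12, 26], [13, 30], [27], [28, 31], [32]]
      adj := [(12, 11, -1), (7, 12, 1), (8, 26, 1), (4, 13, -1), (5, 30, 1), (6, 27, -1), (2, 28, 1), (3, 31, -1), (1, 32, 1)]
      rest := [9, 10, 11, 13, 14, 15, 16, 17, 18, 19]
      sec := [(9, 13, [14, 33]), (10, 17, [14, 33]), (13, 18, [14, 33]), (15, 16, [29, 34]), (16, 18, [29, 34]), (18, 16, [37, 42]), (19, 18, [39])]
      low := [[11], [12, 26], [13, 30], [27], [28, 31], [32]] },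
    { i := 1
      T := [[11], [12, 26], [14, 33], [27], [29, 34], [39]]
      adj := [(15, 11, -1), (10, 12, 1), (11, 26, 1), (4, 14, -1), (5, 33, -1), (9, 27, -1), (2, 29, 1), (3, 34, 1), (0, 39, 1)]
      rest := [6, 7, 8, 12, 13, 14, 16, 17, 18, 19]
      sec := [(6, 13, [13, 30]), (7, 17, [13, 30]), (12, 16, [28, 31]), (13, 19, [13, 30]), (16, 19, [28, 31]), (18, 19, [32]), (19, 16, [40, 43])]
      low := [[11], [12, 26], [14, 33], [27], [29, 34]] },
    { i := 9
      T := [[11], [14, 33], [15, 35], [39], [40, 43], [44]]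
      adj := [(19, 11, -1), (13, 14, 1), (14, 33, 1), (10, 15, -1), (11, 35, 1), (6, 39, 1), (2, 40, 1), (3, 43, -1), (1, 44, -1)]
      rest := [0, 4, 5, 7, 8, 12, 15, 16, 17, 18]
      sec := [(0, 7, [12, 26]), (4, 16, [12, 26]), (7, 18, [12, 26]), (15, 16, [29, 34]), (12, 18, [27]), (16, 18, [29, 34]), (18, 16, [37, 42])]
      low := [[11], [14, 33], [15, 35]] },
    { i := 6
      T := [[11], [13, 30], [15, 35], [32], [37, 42], [44]]
      adj := [(18, 11, -1), (13, 13, 1), (14, 30, -1), (7, 15, -1), (8, 35, 1), (9, 32, 1), (2, 37, 1), (3, 42, 1), (0, 44, -1)]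
      rest := [1, 4, 5, 10, 11, 12, 15, 16, 17, 19]
      sec := [(1, 10, [12, 26]), (4, 16, [12, 26]), (10, 19, [12, 26]), (12, 16, [28, 31]), (15, 19, [27]), (16, 19, [28, 31]), (19, 16, [40, 43])]
      low := [[11], [13, 30], [15, 35], [32]] },
    { i := 18
      T := [[32], [37, 42], [38, 57], [44], [45, 59], [60]]
      adj := [(19, 32, 1), (16, 37, 1), (17, 42, 1), (13, 38, 1), (14, 57, 1), (12, 44, -1), (7, 45, -1), (8, 59, -1), (6, 60, -1)]
      rest := [0, 1, 2, 3, 4, 5, 9, 10, 11, 15]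
      sec := [(0, 4, [13, 30]), (2, 11, [13, 30]), (4, 15, [13, 30]), (9, 10, [15, 35]), (1, 15, [11]), (10, 15, [15, 35]), (15, 10, [36, 56])]
      low := [[32]] },
    { i := 19
      T := [[39], [40, 43], [41, 58], [44], [45, 59], [60]]
      adj := [(18, 39, 1), (16, 40, 1), (17, 43, -1), (13, 41, 1), (14, 58, -1), (15, 44, -1), (10, 45, -1), (11, 59, -1), (9, 60, -1)]
      rest := [0, 1, 2, 3, 4, 5, 6, 7, 8, 12]
      sec := [(1, 4, [14, 33]), (2, 8, [14, 33]), (4, 12, [14, 33]), (6, 7, [15, 35]), (0, 12, [11]), (7, 12, [15, 35]), (12, 7, [36, 56])]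
      low := [] },
    { i := 15
      T := [[27], [29, 34], [36, 56], [39], [41, 58], [60]]
      adj := [(19, 27, -1), (16, 29, 1), (17, 34, 1), (10, 36, 1), (11, 56, -1), (12, 39, 1), (4, 41, -1), (5, 58, 1), (1, 60, -1)]
      rest := [0, 2, 3, 6, 7, 8, 9, 13, 14, 18]
      sec := [(0, 7, [12, 26]), (2, 13, [12, 26]), (7, 18, [12, 26]), (9, 13, [14, 33]), (6, 18, [11]), (13, 18, [14, 33]), (18, 13, [38, 57])]
      low := [[27], [29, 34]] },
    { i := 12
      T := [[27], [28, 31], [32], [36, 56], [38, 57], [60]]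
      adj := [(18, 27, -1), (16, 28, 1), (17, 31, -1), (15, 32, 1), (7, 36, 1), (8, 56, -1), (4, 38, -1), (5, 57, -1), (0, 60, -1)]
      rest := [1, 2, 3, 6, 9, 10, 11, 13, 14, 19]
      sec := [(1, 10, [12, 26]), (2, 13, [12, 26]), (6, 13, [13, 30]), (9, 19, [11]), (10, 19, [12, 26]), (13, 19, [13, 30]), (19, 13, [41, 58])]
      low := [[27], [28, 31], [32]] }]
  links := [(0, 1, [32]), (1, 0, [39]), (1, 9, [27]), (9, 1, [44]), (9, 6, [39]), (6, 9, [32]), (6, 18, [11]), (18, 6, [60]), (18, 19, [32]), (19, 18, [39]), (19, 15, [44]), (15, 19, [27]), (15, 12, [39]), (12, 15, [32])]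
  shorts := [(2, 9, [28, 31]), (3, 9, [28, 31]), (4, 15, [13, 30]), (5, 15, [13, 30]), (7, 18, [12, 26]), (8, 18, [12, 26]), (10, 19, [12, 26]), (11, 19, [12, 26]), (13, 19, [13, 30]), (14, 19, [13, 30]), (16, 19, [28, 31]), (17, 19, [28, 31])]

/-- The second level. -/
def cfgH : Cfg where
  supp0 := [1, 2, 3, 4, 5, 6, 7, 8, 12]
  longs := [1, 6, 12]
  Lo := [[14, 33], [15, 35], [29, 34], [36, 56], [37, 42], [38, 57]]
  rows := [
    { i := 1
      T := [[14, 33], [29, 34]]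
      adj := [(4, 14, -1), (5, 33, -1), (2, 29, 1), (3, 34, 1)]
      rest := [6, 7, 8, 12]
      sec := [(6, 7, [15, 35]), (7, 12, [15, 35]), (12, 7, [36, 56])]
      low := [[14, 33], [29, 34]] },
    { i := 6
      T := [[15, 35], [37, 42]]
      adj := [(7, 15, -1), (8, 35, 1), (2, 37, 1), (3, 42, 1)]
      rest := [1, 4, 5, 12]
      sec := [(1, 4, [14, 33]), (4, 12, [14, 33]), (12, 4, [38, 57])]
      low := [[15, 35]] },
    { i := 12
      T := [[36, 56], [38, 57]]
      adj := [(7, 36, 1), (8, 56, -1), (4, 38, -1), (5, 57, -1)]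
      rest := [1, 2, 3, 6]
      sec := [(1, 2, [29, 34]), (2, 6, [29, 34]), (6, 2, [37, 42])]
      low := [] }]
  links := [(1, 6, [29, 34]), (6, 1, [37, 42]), (6, 12, [15, 35]), (12, 6, [36, 56])]
  shorts := [(2, 6, [29, 34]), (3, 6, [29, 34]), (4, 12, [14, 33]), (5, 12, [14, 33]), (7, 12, [15, 35]), (8, 12, [15, 35])]

theorem okMain : okCfg cfgMain = true := by decide +kernel

theorem okH : okCfg cfgH = true := by decide +kernel

end Cfsg.Agent.Small.TwE6Deg
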