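import Cfsg.Agent.Lib.Small.TwE6Deg.Radical
import Cfsg.Agent.Lib.Small.TwE6Deg.Tables

/-!
The elements moving the weights of the radical of ²E₆(q).
-/

set_option autoImplicit false
set_option maxRecDepth 4000
set_option linter.unusedSectionVars false

namespace Cfsg.Agent.Small.TwE6Deg

open Cfsg.Lie Cfsg.Agent.Lie Finset
open Cfsg.Agent.Lie.E6 (Setup)
open scoped MatrixGroups

variable {K : Type*} [Field K] [Fintype K] {q : ℕ} (S : Setup K q)

theorem lev_LR {os : List (List ℕ)} (hos : ∀ o ∈ os, o ∈ Orbs.take 18) : ∀ α ∈ os.flatten, α ∈ LR := by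
  intro α hα
  obtain ⟨o, ho, hαo⟩ := List.mem_flatten.1 hα
  have h := Orbs_LR
  simp only [List.all_eq_true, List.contains_iff_mem] at h
  exact h o (hos o ho) α hαo

include S in
theorem El_lev_mem {os : List (List ℕ)} (hos : ∀ o ∈ os, o ∈ Orbs.take 18) {t : ℕ → K}
    (ht : ∀ o ∈ os, Compat q t o) : El os.flatten t ∈ twistedE6 K q :=
  El_mem S (fun o ho => List.mem_of_mem_take (hos o ho)) ht

/-- A product over orbits as an element of the group. -/
noncomputable def gel {os : List (List ℕ)} (hos : ∀ o ∈ os, o ∈ Orbs.take 18) {t : ℕ → K}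
    (ht : ∀ o ∈ os, Compat q t o) : ↥(twistedE6 K q) := ⟨El os.flatten t, El_lev_mem S hos ht⟩

theorem moves_El {os : List (List ℕ)} (hos : ∀ o ∈ os, o ∈ Orbs.take 18) {t : ℕ → K}
    (ht : ∀ o ∈ os, Compat q t o) : ∃ φ : YS S → YS S,
      (∀ y, (φ y : Pos → K) = mvs chevE6 QL os.flatten t (y : Pos → K)) ∧ (heis S).Moves (gel S hos ht) φ :=
  moves_of S (g := gel S hos ht) (CZ_El (lev_LR hos) t) (fun y => conj_El (lev_LR hos) t y)

/-- A torus element of the group. -/
noncomputable def gto (t u m n : Kˣ) (hm : m ^ q = m) (hn : n ^ q = n) : ↥(twistedE6 K q) :=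
  ⟨torus chevE6 K (S.crd t u m n), S.torus_mem hm hn⟩

/-- The exponents of the torus coordinates on a root. -/
def cart (r : ℕ) : List ℤ := (List.finRange chevE6.rank).map fun i => chevE6.cartan i.val r

theorem torChar_crd {r : ℕ} {a b c d e f : ℤ} (h : cart r = [a, b, c, d, e, f]) (t u m n : Kˣ) :
    torChar chevE6 (S.crd t u m n) r = t ^ a * m ^ b * u ^ c * n ^ d * (u ^ q) ^ e * (t ^ q) ^ f := by
  have h0 : torChar chevE6 (S.crd t u m n) r =
      (List.zipWith (fun x k => x ^ k) [t, m, u, n, u ^ q, t ^ q] (cart r)).prod := by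
    rw [torChar, Fin.prod_univ_def]
    rfl
  rw [h0, h]
  simp only [List.zipWith_cons_cons, List.zipWith_nil_left, List.prod_cons, List.prod_nil, mul_one, mul_assoc]

theorem CZ_torus {c : Fin chevE6.rank → Kˣ} (h : torChar chevE6 c 71 = 1) : CZ (torus chevE6 K c) := by
  intro a
  show _ = _
  have h1 := factsE6.torus_conj c (show 71 < chevE6.nroots by decide) a
  rw [h, Units.val_one, one_mul, mul_inv_eq_iff_eq_mul] at h1
  exact h1

theorem moves_torus {t u m n : Kˣ} (hm : m ^ q = m) (hn : n ^ q = n)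
    (h : torChar chevE6 (S.crd t u m n) 71 = 1) : ∃ φ : YS S → YS S,
      (∀ y, (φ y : Pos → K) = fun i => (torChar chevE6 (S.crd t u m n) QL[i.val] : K) * (y : Pos → K) i) ∧
        (heis S).Moves (gto S t u m n hm hn) φ :=
  moves_of S (g := gto S t u m n hm hn) (F := fun y i => (torChar chevE6 (S.crd t u m n) QL[i.val] : K) * y i)
    (CZ_torus h) (fun y => by
      show EqZ (MulAut.conj (torus chevE6 K (S.crd t u m n)) (w y)) _
      rw [torus_w]
      exact EqZ.refl _)

include S in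
theorem exists_unit_pow {c : K} (hc : c ≠ 0) (hcq : c ^ q = c) : ∃ u : Kˣ, u ^ q = u ∧ (u : K) = c :=
  ⟨Units.mk0 c hc, Units.ext (by rw [Units.val_pow_eq_pow_val, Units.val_mk0, hcq]), rfl⟩

include S in
/-- The norm to the fixed field is surjective. -/
theorem norm_surj {u : Kˣ} (hu : u ^ q = u) : ∃ t : Kˣ, t ^ (q + 1) = u := by
  classical
  obtain ⟨g, hg⟩ := IsCyclic.exists_generator (α := Kˣ)
  obtain ⟨k, hk⟩ := Subgroup.mem_zpowers_iff.1 (hg u)
  have hord : orderOf g = (q - 1) * (q + 1) := by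
    rw [orderOf_eq_card_of_forall_mem_zpowers hg, Nat.card_units, S.hK]
    obtain ⟨n, rfl⟩ : ∃ n, q = n + 1 := ⟨q - 1, by have := S.hq; omega⟩
    rw [show (n + 1) ^ 2 = n * (n + 1 + 1) + 1 by ring]
    simp
  have h1 : g ^ (k * ((q : ℤ) - 1)) = 1 := by
    rw [mul_sub, mul_one, zpow_sub, zpow_mul, zpow_natCast, hk, hu, mul_inv_cancel]
  rw [← orderOf_dvd_iff_zpow_eq_one, hord, Nat.cast_mul, Nat.cast_sub (by have := S.hq; omega)] at h1
  push_cast at h1
  rw [mul_comm k] at h1
  have hq1 : ((q : ℤ) - 1) ≠ 0 := by have := S.hq; omega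
  obtain ⟨j, hj⟩ := (mul_dvd_mul_iff_left hq1).1 h1
  refine ⟨g ^ j, ?_⟩
  rw [← hk, hj, mul_comm ((q : ℤ) + 1), zpow_mul, ← zpow_natCast (g ^ j) (q + 1), Nat.cast_add, Nat.cast_one]

/-- The word mapping the root 11 to the highest root. -/
def wd : List (List (Fin 6)) := [[1], [3], [2, 4], [0, 5], [3], [2, 4], [1], [3], [2, 4], [0, 5]]

theorem wd_spec : wd.flatten.foldr (fun i r => chevE6.reflectRoot i.val r) 11 = 71 := by decide +kernel

theorem conj_word (ω : List (Fin 6)) {s : ℕ} (hs : s < chevE6.nroots) :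
    ω.foldr (fun i r => chevE6.reflectRoot i.val r) s < chevE6.nroots ∧ ∃ e : K, e ≠ 0 ∧ ∀ t : K,
      MulAut.conj ((ω.map fun i => factsE6.ng (chevE6.simple i.val) (1 : K)).prod) (X s t) =
        X (ω.foldr (fun i r => chevE6.reflectRoot i.val r) s) (e * t) := by
  induction ω with
  | nil => exact ⟨hs, 1, one_ne_zero, fun t => by simp⟩
  | cons i ω ih =>
    obtain ⟨h1, e, he, hc⟩ := ih
    have hi : i.val < chevE6.rank := by rw [show chevE6.rank = 6 by decide +kernel]; exact i.isLt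
    refine ⟨factsE6.refl_lt i hi _ h1,
      factsE6.sgn K i.val (ω.foldr (fun i r => chevE6.reflectRoot i.val r) s) * e,
      mul_ne_zero (fun h0 => ?_) he, fun t => ?_⟩
    · have h := factsE6.sgn_mul_self (F := K) hi h1
      rw [h0, mul_zero] at h
      exact zero_ne_one h
    · rw [List.map_cons, List.prod_cons, map_mul, MulAut.mul_apply, hc, MulAut.conj_apply, List.foldr_cons,
        mul_assoc _ e t]
      exact factsE6.ng_conj i.val hi _ h1 _

include S in
theorem word_mem : (wd.flatten.map fun i => factsE6.ng (chevE6.simple i.val) (1 : K)).prod ∈ twistedE6 K q := by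
  have h1 : (-1 : K) ^ q = -1 := by rw [← S.hfr, map_neg, map_one]
  have hblock : ∀ o ∈ ([[1], [3], [2, 4], [0, 5]] : List (List (Fin 6))),
      (o.map fun i => factsE6.ng (chevE6.simple i.val) (1 : K)).prod ∈ twistedE6 K q := by
    intro o ho
    have hA : ∀ r r', (r = 46 ∧ r' = 25) ∨ (r = 39 ∧ r' = 32) → chevE6.neg r = r' →
        factsE6.ng r (1 : K) ∈ twistedE6 K q := by
      intro r r' h hn
      rw [factsE6.ng_eq, hn, inv_one]
      rcases h with ⟨rfl, rfl⟩ | ⟨rfl, rfl⟩ <;>
        exact mul_mem (mul_mem (E6.Setup.A_mem (by simp) (one_pow q)) (E6.Setup.A_mem (by simp) h1))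
          (E6.Setup.A_mem (by simp) (one_pow q))
    have hB : ∀ a b a' b', (a = 56 ∧ b = 36 ∧ a' = 15 ∧ b' = 35) ∨ (a = 42 ∧ b = 37 ∧ a' = 29 ∧ b' = 34) →
        ([a, b].map fun r => factsE6.ng r (1 : K)).prod ∈ twistedE6 K q := by
      intro a b a' b' h
      have hc : ∀ L ∈ ([[56, 36], [42, 37]] : List (List ℕ)), okComm2 chevE6 L = true ∧ L.Nodup := by
        decide +kernel
      obtain ⟨hc1, hc2⟩ := hc [a, b] (by rcases h with ⟨rfl, rfl, -⟩ | ⟨rfl, rfl, -⟩ <;> simp)
      have hp := factsE6.prod_ng (F := K) hc2 hc1 (fun _ => 1)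
      simp only [inv_one] at hp
      rw [hp]
      rcases h with ⟨rfl, rfl, rfl, rfl⟩ | ⟨rfl, rfl, rfl, rfl⟩
      · refine mul_mem (mul_mem ?_ ?_) ?_
        · simpa [CommSys.prodOver, Facts.sys_x, E6.cB] using E6.Setup.B_mem (q := q) (a := 56) (b := 36) (by simp) (1 : K)
        · simpa [CommSys.prodOver, Facts.sys_x, E6.cB, h1, show chevE6.neg 56 = 15 from rfl,
            show chevE6.neg 36 = 35 from rfl] using E6.Setup.B_mem (q := q) (a := 15) (b := 35) (by simp) (-1 : K)
        · simpa [CommSys.prodOver, Facts.sys_x, E6.cB] using E6.Setup.B_mem (q := q) (a := 56) (b := 36) (by simp) (1 : K)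
      · refine mul_mem (mul_mem ?_ ?_) ?_
        · simpa [CommSys.prodOver, Facts.sys_x, E6.cB] using E6.Setup.B_mem (q := q) (a := 42) (b := 37) (by simp) (1 : K)
        · simpa [CommSys.prodOver, Facts.sys_x, E6.cB, h1, show chevE6.neg 42 = 29 from rfl,
            show chevE6.neg 37 = 34 from rfl] using E6.Setup.B_mem (q := q) (a := 29) (b := 34) (by simp) (-1 : K)
        · simpa [CommSys.prodOver, Facts.sys_x, E6.cB] using E6.Setup.B_mem (q := q) (a := 42) (b := 37) (by simp) (1 : K)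
    simp only [List.mem_cons, List.not_mem_nil, or_false] at ho
    rcases ho with rfl | rfl | rfl | rfl
    · simpa [show chevE6.simple 1 = 46 by decide +kernel] using hA 46 25 (Or.inl ⟨rfl, rfl⟩) rfl
    · simpa [show chevE6.simple 3 = 39 by decide +kernel] using hA 39 32 (Or.inr ⟨rfl, rfl⟩) rfl
    · simpa [show chevE6.simple 2 = 42 by decide +kernel, show chevE6.simple 4 = 37 by decide +kernel] using
        hB 42 37 29 34 (Or.inr ⟨rfl, rfl, rfl, rfl⟩)
    · simpa [show chevE6.simple 0 = 56 by decide +kernel, show chevE6.simple 5 = 36 by decide +kernel] using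
        hB 56 36 15 35 (Or.inl ⟨rfl, rfl, rfl, rfl⟩)
  rw [List.map_flatten, List.prod_flatten, List.map_map]
  refine Subgroup.list_prod_mem _ fun g hg => ?_
  obtain ⟨o, ho, rfl⟩ := List.mem_map.1 hg
  exact hblock o ((show ∀ o ∈ wd, o ∈ ([[1], [3], [2, 4], [0, 5]] : List (List (Fin 6))) by decide) o ho)

include S in
theorem gs_mem : X 11 (1 : K) ∈ twistedE6 K q := by
  have h := El_orb S (o := [11]) (by decide) (t := fun _ => (1 : K)) (fun r hr => by
    obtain rfl := List.mem_singleton.1 hr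
    rw [show graphE6.sign 11 = 1 by decide +kernel, Int.cast_one, one_mul, one_pow])
  rwa [El_cons, El_nil, mul_one] at h

/-- The root element of the long root moving the module. -/
noncomputable def gs : ↥(twistedE6 K q) := ⟨X 11 (1 : K), gs_mem S⟩

theorem gs_val : (gs S : GL chevE6.Idx K) = X 11 1 := rfl

/-- It is conjugate to a nontrivial element of the centre. -/
theorem gs_conj : ∃ g : ↥(twistedE6 K q), ∃ f : Fq S, f ≠ 0 ∧ g * gs S * g⁻¹ = gz S f := by
  obtain ⟨-, e, he, hc⟩ := conj_word (K := K) wd.flatten (show 11 < chevE6.nroots by decide)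
  rw [wd_spec] at hc
  have h := hc 1
  rw [mul_one, ← gs_val S] at h
  have hmem : Zg e ∈ twistedE6 K q := by
    rw [Zg, show factsE6.xg 71 e = _ from h.symm]
    exact mul_mem (mul_mem (word_mem S) (gs S).2) (inv_mem (word_mem S))
  exact ⟨⟨_, word_mem S⟩, ⟨e, mem_fq S (Zg_fix S hmem)⟩, fun h0 => he (congrArg Subtype.val h0), Subtype.ext h⟩

end Cfsg.Agent.Small.TwE6Deg
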