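import Cfsg.Agent.Lib.Small.TwE6Deg.Mod
import Cfsg.Agent.Lib.Lie.TwistE6H
import Cfsg.Agent.Lib.Lie.TwistE6S

/-!
The part of ²E₆(q) in the parabolic of the highest root.
-/

set_option autoImplicit false
set_option maxRecDepth 4000
set_option linter.unusedSectionVars false

namespace Cfsg.Agent.Small.TwE6Deg

open Cfsg.Lie Cfsg.Agent.Lie
open Cfsg.Agent.Lie.E6 (Setup)
open Cfsg.Agent.Small.MinusculeDegree (tgt)
open scoped MatrixGroups

/-- The twisted orbits used. -/
def Orbs : List (List ℕ) := [[11], [12, 26], [13, 30], [14, 33], [15, 35], [27], [28, 31], [29, 34], [32], [36, 56],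
  [37, 42], [38, 57], [39], [40, 43], [41, 58], [44], [45, 59], [60], [70], [69], [66, 68], [55, 67], [65], [54, 64],
  [63], [52, 62], [53], [49, 61], [51], [48, 50], [47], [46], [71]]

/-- An orbit: commuting roots of one sign, closed under the symmetry. -/
def okOrb (o : List ℕ) : Bool :=
  o.all (fun r => decide (r < chevE6.nroots) && decide (graphE6.expo r = 1)) &&
    ((o.all fun r => decide (r < 36)) || (o.all fun r => decide (36 ≤ r))) &&
    (match o with
      | [r] => decide (graphE6.img r = r)
      | [r, s] => decide (graphE6.img r = s) && decide (graphE6.img s = r) && decide (s ≠ r) &&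
          decide (s ≠ chevE6.neg r) && decide (chevE6.commTerms r s = [])
      | _ => false)

theorem okOrbs : Orbs.all okOrb = true := by decide +kernel

theorem QL_orbs : QL = ([[70], [69], [66, 68], [55, 67], [65], [54, 64], [63], [52, 62], [53], [49, 61], [51],
    [48, 50], [47], [46]] : List (List ℕ)).flatten := by decide

/-- The symmetry on positions. -/
def π (i : Pos) : Pos :=
  (([0, 1, 3, 2, 5, 4, 6, 8, 7, 9, 11, 10, 12, 14, 13, 15, 17, 16, 18, 19] : List Pos)).getD i.val i

/-- The sign at a position. -/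
def sgn (i : Pos) : ℤ := graphE6.sign QL[i.val]

theorem π_spec : ∀ i : Pos, graphE6.img QL[i.val] = QL[(π i).val] ∧ π (π i) = i ∧ (sgn i = 1 ∨ sgn i = -1) ∧
    sgn (π i) = sgn i ∧ graphE6.expo QL[i.val] = 1 := by decide +kernel

variable {K : Type*} [Field K] [Fintype K] {q : ℕ} (S : Setup K q)

/-- Compatible parameters on an orbit. -/
def Compat (q : ℕ) (t : ℕ → K) (o : List ℕ) : Prop :=
  ∀ r ∈ o, t (graphE6.img r) = (graphE6.sign r : K) * t r ^ q

include S in
theorem sig_X {r : ℕ} (hr : r < chevE6.nroots) (he : graphE6.expo r = 1) (t : K) :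
    S.T.sig (X r t) = X (graphE6.img r) ((graphE6.sign r : K) * t ^ q) := by
  rw [S.T.sig_x r hr, factsE6.imgX_lt _ hr, S.hfr, S.hR, he, pow_one]

include S in
theorem El_orb {o : List ℕ} (ho : o ∈ Orbs) {t : ℕ → K} (h : Compat q t o) : El o t ∈ twistedE6 K q := by
  have hok := List.all_eq_true.1 okOrbs o ho
  simp only [okOrb, Bool.and_eq_true, List.all_eq_true, decide_eq_true_eq, Bool.or_eq_true] at hok
  obtain ⟨⟨hlt, hsign⟩, hm⟩ := hok
  have hfix : El o t ∈ S.T.fix := by
    refine ⟨factsE6.prodOver_mem_group o t, ?_⟩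
    match o, hm, h, hlt with
    | [r], hm, h, hlt =>
      simp only [decide_eq_true_eq] at hm
      obtain ⟨h1, h2⟩ := hlt r List.mem_cons_self
      rw [El_cons, El_nil, mul_one, sig_X S h1 h2, hm, ← h r List.mem_cons_self, hm]
    | [r, s], hm, h, hlt =>
      simp only [Bool.and_eq_true, decide_eq_true_eq] at hm
      obtain ⟨⟨⟨⟨h1, h2⟩, h3⟩, h4⟩, h5⟩ := hm
      obtain ⟨a1, a2⟩ := hlt r (by simp)
      obtain ⟨b1, b2⟩ := hlt s (by simp)
      rw [El_cons, El_cons, El_nil, mul_one, S.T.sig_mul _ (factsE6.xg_mem_group _ _) _ (factsE6.xg_mem_group _ _),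
        sig_X S a1 a2, sig_X S b1 b2, h1, h2, ← h r (by simp), ← h s (by simp), h1, h2]
      have := X_comm (K := K) a1 b1 h3 h4 (t r) (t s)
      rw [h5, List.map_nil, List.prod_nil, mul_one] at this
      exact this
    | [], hm, _, _ => exact absurd hm (by simp)
    | _ :: _ :: _ :: _, hm, _, _ => exact absurd hm (by simp)
  have hUS : El o t ∈ (factsE6.tsys K).US o := CommSys.prodOver_mem _ o t
  rcases hsign with hs | hs
  · exact S.data.neg_fix_le (fun r hr => hs r hr) hUS hfix
  · exact S.data.pos_fix_le (fun r hr => ⟨hs r hr, (hlt r hr).1⟩) hUS hfix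

include S in
theorem El_mem {os : List (List ℕ)} (hos : ∀ o ∈ os, o ∈ Orbs) {t : ℕ → K} (h : ∀ o ∈ os, Compat q t o) :
    El os.flatten t ∈ twistedE6 K q := by
  induction os with
  | nil => rw [List.flatten_nil, El_nil]; exact one_mem _
  | cons o os ih =>
    rw [List.flatten_cons, El_append]
    exact mul_mem (El_orb S (hos o List.mem_cons_self) (h o List.mem_cons_self))
      (ih (fun p hp => hos p (List.mem_cons_of_mem _ hp)) fun p hp => h p (List.mem_cons_of_mem _ hp))

/-- The twisted action on coordinates. -/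
def sigY (q : ℕ) (y : Pos → K) : Pos → K := fun j => (sgn (π j) : K) * y (π j) ^ q

include S in
theorem pow_q_add (x y : K) : (x + y) ^ q = x ^ q + y ^ q := by rw [← S.hfr, ← S.hfr, ← S.hfr, map_add]

include S in
theorem pow_q_int (z : ℤ) : (z : K) ^ q = z := by
  rw [← S.hfr]; exact map_intCast _ _

include S in
theorem sig_w (y : Pos → K) : EqZ (S.T.sig (w y)) (w (sigY q y)) := by
  have hlist : ∀ l : List Pos, EqZ (S.T.sig (l.map fun i => X QL[i.val] (y i)).prod)
      (w (l.map fun i => (Pi.single (π i) ((sgn i : K) * y i ^ q) : Pos → K)).sum) := by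
    intro l
    induction l with
    | nil =>
      rw [List.map_nil, List.prod_nil, List.map_nil, List.sum_nil, S.T.sig_one, w_zero]
      exact EqZ.refl _
    | cons i l ih =>
      have hlt := (Q_spec (List.getElem_mem i.isLt (l := QL))).1
      rw [List.map_cons, List.prod_cons, S.T.sig_mul _ (factsE6.xg_mem_group _ _) _
          (Subgroup.list_prod_mem _ fun g hg => by
            obtain ⟨j, -, rfl⟩ := List.mem_map.1 hg
            exact factsE6.xg_mem_group _ _),
        sig_X S hlt (π_spec i).2.2.2.2, (π_spec i).1, List.map_cons, List.sum_cons]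
      exact X_mul (i := π i) _ ih
  have hsum : ((List.finRange QL.length).map fun i => (Pi.single (π i) ((sgn i : K) * y i ^ q) : Pos → K)).sum =
      sigY q y := by
    rw [← Fin.sum_univ_def]
    funext j
    rw [Finset.sum_apply, Finset.sum_eq_single (π j)]
    · rw [(π_spec j).2.1, Pi.single_eq_same, sigY]
    · intro i _ hi
      exact Pi.single_eq_of_ne (fun e => hi (by rw [e, (π_spec i).2.1])) _
    · exact fun h => absurd (Finset.mem_univ _) h
  have h := hlist (List.finRange QL.length)
  rw [hsum] at h
  exact h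

theorem ULperm : (List.finRange QL.length).all (fun i => UL.contains QL[i.val]) = true := by decide +kernel

theorem X_UL {i : Pos} (t : K) : X QL[i.val] t ∈ (factsE6.tsys K).US UL :=
  CommSys.x_mem_US _ (List.contains_iff_mem.1 (List.all_eq_true.1 ULperm i (List.mem_finRange i))) t

/-- The parameters of an element of the radical. -/
noncomputable def coords (y : Pos → K) (c : K) : ℕ → K := fun r =>
  if r = 71 then c else if h : QL.idxOf r < QL.length then y ⟨QL.idxOf r, h⟩ else 0

theorem coords_Q (y : Pos → K) (c : K) (i : Pos) : coords y c QL[i.val] = y i := by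
  have h : QL.idxOf QL[i.val] = i.val := QL_nodup.idxOf_getElem _ _
  rw [coords, if_neg (Q_spec (List.getElem_mem i.isLt)).2.1.symm, dif_pos (h.symm ▸ i.isLt)]
  exact congrArg y (Fin.ext h)

theorem ordered (y : Pos → K) : ∃ d, (factsE6.sys K).prodOver UL (coords y d) = w y := by
  obtain ⟨l, hl, hlU⟩ : ∃ l : List Pos, l.Perm (List.finRange QL.length) ∧
      l.map (fun j => QL[j.val]) = UL.take 20 :=
    ⟨[19, 18, 16, 13, 17, 15, 10, 12, 7, 4, 14, 11, 9, 8, 6, 2, 5, 3, 1, 0], by decide, by decide⟩
  have hred : ∀ l : List Pos, EqZ ((l.map fun j => X QL[j.val] (y j)).prod)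
      (w ((l.map fun j => (Pi.single j (y j) : Pos → K)).sum)) := by
    intro l
    induction l with
    | nil => simpa [w_zero] using EqZ.refl (1 : GL chevE6.Idx K)
    | cons j l ih => simpa using X_mul (i := j) _ ih
  have h := hred l
  rw [(hl.map fun j => (Pi.single j (y j) : Pos → K)).sum_eq, ← Fin.sum_univ_def, Finset.univ_sum_single] at h
  obtain ⟨x, hx⟩ := h
  refine ⟨-x, ?_⟩
  simp only [CommSys.prodOver, Facts.sys_x]
  conv_lhs => rw [show UL = UL.take 20 ++ [71] by decide, List.map_append, List.prod_append, ← hlU, List.map_map]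
  have e : (l.map ((fun r => factsE6.xg r (coords y (-x) r)) ∘ fun j => QL[j.val])) =
      l.map fun j => X QL[j.val] (y j) :=
    List.map_congr_left fun j _ => by simp only [Function.comp_apply, coords_Q]
  rw [e, hx, List.map_cons, List.map_nil, List.prod_cons, List.prod_nil, mul_one, coords, if_pos rfl,
    mul_assoc, ← Zg_add, add_neg_cancel, Zg_zero, mul_one]

/-- Coordinates modulo the centre are unique. -/
theorem EqZ.w_inj {y y' : Pos → K} (h : EqZ (w y) (w y')) : y = y' := by
  obtain ⟨c, hc⟩ := h
  obtain ⟨d, hd⟩ := ordered y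
  obtain ⟨d', hd'⟩ := ordered y'
  have hcm : ∀ (z : Pos → K) (a b : K), (factsE6.sys K).prodOver UL (coords z a) * Zg b =
      (factsE6.sys K).prodOver UL (coords z (a + b)) := by
    intro z a b
    simp only [CommSys.prodOver, Facts.sys_x]
    rw [show UL = UL.take 20 ++ [71] by decide]
    simp only [List.map_append, List.prod_append, List.map_cons, List.map_nil, List.prod_cons, List.prod_nil,
      mul_one, mul_assoc]
    have e : (List.take 20 UL).map (fun r => factsE6.xg r (coords z a r)) =
        (List.take 20 UL).map (fun r => factsE6.xg r (coords z (a + b) r)) := by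
      refine List.map_congr_left fun r hr => ?_
      have hr71 : r ≠ 71 := by revert r hr; decide
      rw [coords, if_neg hr71, coords, if_neg hr71]
    rw [e, show coords z a 71 = a from if_pos rfl, show coords z (a + b) 71 = a + b from if_pos rfl,
      show factsE6.xg 71 (a + b) = factsE6.xg 71 a * Zg b from Zg_add a b]
  rw [← hd, ← hd', hcm] at hc
  funext i
  have h1 := factsE6.prodOver_inj closedUL hc QL[i.val]
    (List.contains_iff_mem.1 (List.all_eq_true.1 ULperm i (List.mem_finRange i)))
  rwa [coords_Q, coords_Q] at h1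

end Cfsg.Agent.Small.TwE6Deg
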