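import Cfsg.Agent.Lib.Small.TwE6Deg.Weights

/-!
The weights as an invariant function on the coordinates, and the trace of the centre.
-/

set_option autoImplicit false
set_option maxRecDepth 4000
set_option linter.unusedSectionVars false

namespace Cfsg.Agent.Small.TwE6Deg

open Cfsg.Lie Cfsg.Agent.Lie Finset Module
open Cfsg.Agent.Lie.E6 (Setup)
open Cfsg.Agent.Small.D4Degree (wm wm_eq card_ne)
open scoped MatrixGroups

variable {K : Type*} [Field K] [Fintype K] {q : ℕ} (S : Setup K q) [Fintype (Fq S)] [Fintype (YS S)]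
variable {M : Type*} [AddCommGroup M] [Module ℂ M] [FiniteDimensional ℂ M]
  (ρ : ↥(twistedE6 K q) →* Module.End ℂ M) (ψ : AddChar (Fq S) ℂ)

theorem supp_main : ∀ m : Pos, m ∈ cfgMain.supp0 := by decide +kernel

theorem cart_long : ∀ i ∈ cfgMain.longs, chevE6.cartan 3 QL[i.val] = 1 ∨ chevE6.cartan 3 QL[i.val] = -1 := by
  decide +kernel

theorem fx_main {y : Pos → K} : Fx q cfgMain.supp0 y ↔ sigY q y = y :=
  ⟨fun h => h.1, fun h => ⟨h, fun m hm => absurd (supp_main m) hm⟩⟩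

/-- The weights on the coordinates. -/
noncomputable def Wy (y : Pos → K) : ℕ :=
  letI := Classical.propDecidable
  if h : sigY q y = y then (heis S).W ρ ψ ⟨y, h⟩ else 0

theorem Wy_coe (y : YS S) : Wy S ρ ψ (y : Pos → K) = (heis S).W ρ ψ y := by
  classical
  rw [Wy, dif_pos ((mem_YS S).1 y.2)]

theorem Wy_move {g : ↥(twistedE6 K q)} {φ : YS S → YS S} (h : (heis S).Moves g φ) {F : (Pos → K) → (Pos → K)}
    (hF : ∀ y, (φ y : Pos → K) = F (y : Pos → K)) {y : Pos → K} (hy : Fx q cfgMain.supp0 y) :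
    Fx q cfgMain.supp0 (F y) ∧ Wy S ρ ψ (F y) = Wy S ρ ψ y := by
  obtain ⟨η, rfl⟩ : ∃ η : YS S, (η : Pos → K) = y := ⟨⟨y, fx_main.1 hy⟩, rfl⟩
  rw [← hF η, Wy_coe, Wy_coe, (heis S).W_move ρ ψ h]
  exact ⟨fx_main.2 (φ η).2, rfl⟩

theorem torChar_n (n : Kˣ) (r : ℕ) : torChar chevE6 (S.crd 1 1 1 n) r = n ^ chevE6.cartan 3 r := by
  rw [torChar, Finset.prod_eq_single (⟨3, by decide +kernel⟩ : Fin chevE6.rank)]
  · rfl
  · intro b _ hb
    match b with
    | ⟨0, _⟩ => exact _root_.one_zpow _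
    | ⟨1, _⟩ => exact _root_.one_zpow _
    | ⟨2, _⟩ => exact _root_.one_zpow _
    | ⟨3, _⟩ => exact absurd rfl hb
    | ⟨4, _⟩ => exact (congrArg (· ^ _) (one_pow q)).trans (_root_.one_zpow _)
    | ⟨5, _⟩ => exact (congrArg (· ^ _) (one_pow q)).trans (_root_.one_zpow _)
  · exact fun h => absurd (Finset.mem_univ _) h

/-- The weights are invariant. -/
theorem inv_main : Inv q cfgMain.supp0 cfgMain.Lo (Wy S ρ ψ) where
  move := by
    intro os hos t ht y hy
    have hos' : ∀ o ∈ os, o ∈ Orbs.take 18 := fun o ho => ((cfg_spec okMain).2.2.2.2.1 o (hos o ho)).1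
    obtain ⟨φ, hφ, hm⟩ := moves_El S hos' ht
    exact Wy_move S ρ ψ hm hφ hy
  scale := by
    intro i u hu huq hi him
    have hil : ∃ n : Kˣ, n ^ q = n ∧ (u : K) = ((n ^ chevE6.cartan 3 QL[i.val] : Kˣ) : K) ∨
        i ∉ cfgMain.longs := by
      by_cases hl : i ∈ cfgMain.longs
      · obtain ⟨v, hv, hvu⟩ := exists_unit_pow S hu huq
        rcases cart_long i hl with e | e
        · exact ⟨v, Or.inl ⟨hv, by rw [e, zpow_one, hvu]⟩⟩
        · exact ⟨v⁻¹, Or.inl ⟨by rw [inv_pow, hv], by rw [e, zpow_neg_one, inv_inv, hvu]⟩⟩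
      · exact ⟨1, Or.inr hl⟩
    have hlong : i ∈ cfgMain.longs := by
      have : ∀ m : Pos, π m = m → m ∈ cfgMain.longs := by decide +kernel
      exact this i hi
    obtain ⟨n, h | h⟩ := hil
    swap
    · exact absurd hlong h
    obtain ⟨hn, hval⟩ := h
    have h71 : torChar chevE6 (S.crd 1 1 1 n) 71 = 1 := by
      rw [torChar_n, show chevE6.cartan 3 71 = 0 by decide +kernel, zpow_zero]
    obtain ⟨φ, hφ, hm⟩ := moves_torus S (t := 1) (u := 1) (m := 1) (one_pow q) hn h71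
    refine ⟨fun m => (torChar chevE6 (S.crd 1 1 1 n) QL[m.val] : K), fun m => Units.ne_zero _, ?_, fun y hy => ?_⟩
    · show ((torChar chevE6 (S.crd 1 1 1 n) QL[i.val] : Kˣ) : K) = u
      rw [torChar_n, hval]
    · exact Wy_move S ρ ψ hm (F := fun y m => (torChar chevE6 (S.crd 1 1 1 n) QL[m.val] : K) * y m) hφ hy

/-- The weights sum to the degree on the fixed vectors of the centre. -/
theorem sum_W : ∑ η, (heis S).W ρ ψ η = (heis S).W ρ ψ 0 + ∑ v ∈ Dom q cfgMain.supp0, Wy S ρ ψ v := by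
  classical
  rw [← Finset.add_sum_erase _ _ (Finset.mem_univ (0 : YS S))]
  congr 1
  refine Finset.sum_bij' (fun η _ => (η : Pos → K)) (fun v hv => (⟨v, fx_main.1 (mem_Dom.1 hv).1⟩ : YS S))
    (fun η hη => ?_) (fun v hv => ?_) (fun η _ => rfl) (fun v _ => rfl) (fun η _ => (Wy_coe S ρ ψ η).symm)
  · exact mem_Dom.2 ⟨fx_main.2 η.2, fun h => (Finset.mem_erase.1 hη).1 (Subtype.ext h)⟩
  · exact Finset.mem_erase.2 ⟨fun h => (mem_Dom.1 hv).2 (congrArg Subtype.val h), Finset.mem_univ _⟩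

/-- The torus permutes the nontrivial characters of the centre. -/
theorem nZ_shift {c : K} (hc : c ≠ 0) (hcq : c ^ q = c) (χ : AddChar (Fq S) ℂ) :
    (heis S).nZ ρ (χ.mulShift ⟨c, mem_fq S hcq⟩) = (heis S).nZ ρ χ := by
  obtain ⟨m, hm, hmc⟩ := exists_unit_pow S hc hcq
  have hM : torChar chevE6 (S.crd 1 1 m 1) 71 = m := by
    rw [torChar, Finset.prod_eq_single (⟨1, by decide +kernel⟩ : Fin chevE6.rank)]
    · rw [show chevE6.cartan 1 71 = 1 by decide +kernel, zpow_one]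
      rfl
    · intro b _ hb
      match b with
      | ⟨0, _⟩ => exact _root_.one_zpow _
      | ⟨1, _⟩ => exact absurd rfl hb
      | ⟨2, _⟩ => exact _root_.one_zpow _
      | ⟨3, _⟩ => exact _root_.one_zpow _
      | ⟨4, _⟩ => exact (congrArg (· ^ _) (one_pow q)).trans (_root_.one_zpow _)
      | ⟨5, _⟩ => exact (congrArg (· ^ _) (one_pow q)).trans (_root_.one_zpow _)
    · exact fun h => absurd (Finset.mem_univ _) h
  have hg : ∀ f : Fq S, (gto S 1 1 m 1 hm (one_pow q)) * gz S f * (gto S 1 1 m 1 hm (one_pow q))⁻¹ =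
      gz S (⟨c, mem_fq S hcq⟩ * f) := fun f => Subtype.ext (by
    show torus chevE6 K (S.crd 1 1 m 1) * Zg (f : K) * (torus chevE6 K (S.crd 1 1 m 1))⁻¹ = Zg (c * (f : K))
    rw [Zg, factsE6.torus_conj _ (by decide : 71 < chevE6.nroots), hM, hmc])
  apply Nat.cast_injective (R := ℂ)
  rw [Heis.nZ, Heis.nZ, wm_eq ((heis S).opZ_add ρ), wm_eq ((heis S).opZ_add ρ)]
  congr 1
  have hcc : (⟨c, mem_fq S hcq⟩ : Fq S) ≠ 0 := fun h => hc (congrArg Subtype.val h)
  refine Fintype.sum_equiv (Equiv.mulLeft₀ (⟨c, mem_fq S hcq⟩ : Fq S) hcc) _ _ fun f => ?_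
  show _ = χ (-((⟨c, mem_fq S hcq⟩ : Fq S) * f)) * _
  rw [AddChar.mulShift_apply, mul_neg]
  congr 1
  show LinearMap.trace ℂ M (ρ (gz S f)) = LinearMap.trace ℂ M (ρ (gz S (⟨c, mem_fq S hcq⟩ * f)))
  rw [← hg, ρ.map_mul, ρ.map_mul, mul_assoc, LinearMap.trace_mul_comm, mul_assoc, ← ρ.map_mul, inv_mul_cancel,
    ρ.map_one, mul_one]

end Cfsg.Agent.Small.TwE6Deg
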