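import Cfsg.Agent.Lib.Small.TwE6Deg.StepBound
import Cfsg.Agent.Lib.Small.TwE6Deg.Arith
import Cfsg.Agent.Lib.Char.Burnside
import Cfsg.Agent.Lib.Lie.TwistE6W

/-!
The minimal degree of the nontrivial complex representations of ²E₆(q).
-/

set_option autoImplicit false
set_option maxRecDepth 4000
set_option linter.unusedSectionVars false

namespace Cfsg.Agent.Small.TwE6Deg

open Cfsg.Lie Cfsg.Agent.Lie Finset Module
open Cfsg.Agent.Lie.E6 (Setup)
open Cfsg.Agent.Small.D4Degree (wm)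
open scoped MatrixGroups

/-- The number of vectors in the cells. -/
def NN (q : ℕ) : ℕ := (q - 1) * (q ^ 9 + q ^ 8 + q ^ 6 + q ^ 5 + q ^ 4 + q ^ 3 + q + 1)

theorem sum_cells (q : ℕ) : (cfgMain.rows.map fun R => (q - 1) * q ^ lowExp R).sum = NN q := by
  have hl : cfgMain.rows.map lowExp = [9, 8, 5, 6, 1, 0, 3, 4] := by decide +kernel
  rw [show (cfgMain.rows.map fun R => (q - 1) * q ^ lowExp R) =
    (cfgMain.rows.map lowExp).map fun e => (q - 1) * q ^ e by rw [List.map_map]; rfl, hl]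
  simp only [List.map_cons, List.map_nil, List.sum_cons, List.sum_nil, NN]
  ring

theorem arith {q : ℕ} (hq : 2 ≤ q) :
    q * (q ^ 6 - q ^ 3 + 1) * (q ^ 4 + 1) ≤ 2 * ((q - 1) * q ^ 10) ∧
    q * (q ^ 6 - q ^ 3 + 1) * (q ^ 4 + 1) ≤ (q - 1) * q ^ 10 + 2 * ((q - 1) * q ^ 9) ∧
    (q - 1) * q ^ 9 ≤ NN q ∧ NN q + (q - 1) * q ^ 7 < q ^ 10 ∧
    q * (q ^ 6 - q ^ 3 + 1) * (q ^ 4 + 1) =
      (q - 1) * q ^ 10 + (q - 1) * (q ^ 4 + q ^ 2 + 1) + NN q + 2 := by
  obtain ⟨n, rfl⟩ : ∃ n, q = n + 2 := ⟨q - 2, by omega⟩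
  have e : n + 2 - 1 = n + 1 := by omega
  have h36 : (n + 2) ^ 3 ≤ (n + 2) ^ 6 := Nat.pow_le_pow_right (by omega) (by omega)
  obtain ⟨x, hx⟩ : ∃ x : ℤ, x = (n : ℤ) + 2 := ⟨_, rfl⟩
  have hx2 : 2 ≤ x := by omega
  have hp : ∀ i : ℕ, 0 ≤ x ^ i := fun i => pow_nonneg (by omega) i
  have hm : ∀ i j : ℕ, i ≤ j → x ^ i ≤ x ^ j := fun i j h => pow_le_pow_right₀ (by omega) h
  have hd : ∀ i : ℕ, 2 * x ^ i ≤ x ^ (i + 1) := fun i => by
    rw [pow_succ, mul_comm (2 : ℤ)]; exact mul_le_mul_of_nonneg_left hx2 (hp i)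
  have d0 : 2 ≤ x := hx2
  have d1 : 2 * x ^ 1 ≤ x ^ 2 := hd 1
  have d2 : 2 * x ^ 2 ≤ x ^ 3 := hd 2
  have d3 : 2 * x ^ 3 ≤ x ^ 4 := hd 3
  have d4 : 2 * x ^ 4 ≤ x ^ 5 := hd 4
  have d5 : 2 * x ^ 5 ≤ x ^ 6 := hd 5
  have d6 : 2 * x ^ 6 ≤ x ^ 7 := hd 6
  have d7 : 2 * x ^ 7 ≤ x ^ 8 := hd 7
  have d8 : 2 * x ^ 8 ≤ x ^ 9 := hd 8
  have d9 : 2 * x ^ 9 ≤ x ^ 10 := hd 9
  have d10 : 2 * x ^ 10 ≤ x ^ 11 := hd 10
  have m0 : x ≤ x ^ 2 := by simpa using hm 1 2 (by omega)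
  have m1 : x ^ 4 ≤ x ^ 5 := by simpa using hm 4 5 (by omega)
  have m2 : x ^ 7 ≤ x ^ 8 := by simpa using hm 7 8 (by omega)
  have m3 : x ^ 3 ≤ x ^ 5 := by simpa using hm 3 5 (by omega)
  have m4 : x ≤ x ^ 5 := by simpa using hm 1 5 (by omega)
  have m5 : x ^ 5 ≤ x ^ 6 := by simpa using hm 5 6 (by omega)
  have m6 : x ^ 2 ≤ x ^ 3 := by simpa using hm 2 3 (by omega)
  have m7 : x ≤ x ^ 4 := by simpa using hm 1 4 (by omega)
  refine ⟨?_, ?_, ?_, ?_, ?_⟩
  all_goals try unfold NN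
  all_goals rw [e]
  all_goals zify [h36]
  all_goals rw [show ((n : ℤ) + 1) = x - 1 by omega, show ((n : ℤ) + 2) = x by omega]
  all_goals ring_nf
  all_goals nlinarith [hp 2, hp 3, hp 4, hp 5, hp 6, hp 7, hp 8, hp 9]

variable {K : Type*} [Field K] [Fintype K] {q : ℕ} (S : Setup K q)

include S in
theorem top_mem : factsE6.ng (chevE6.simple 1) (1 : K) ∈ twistedE6 K q := by
  have h1 : (-1 : K) ^ q = -1 := by rw [← S.hfr, map_neg, map_one]
  rw [show chevE6.simple 1 = 46 by decide +kernel, factsE6.ng_eq, show chevE6.neg 46 = 25 from rfl, inv_one]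
  exact mul_mem (mul_mem (E6.Setup.A_mem (by simp) (one_pow q)) (E6.Setup.A_mem (by simp) h1))
    (E6.Setup.A_mem (by simp) (one_pow q))

/-- A radical element conjugate to an element of the centre. -/
theorem top_conj : ∃ (g : ↥(twistedE6 K q)) (y : YS S) (f : Fq S), y ≠ 0 ∧ f ≠ 0 ∧
    g * gw S y * g⁻¹ = gz S f := by
  obtain ⟨-, e, he, hc⟩ := conj_word (K := K) [1] (show 70 < chevE6.nroots by decide)
  rw [show ([1] : List (Fin 6)).foldr (fun i r => chevE6.reflectRoot i.val r) 70 = 71 by decide +kernel] at hc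
  simp only [List.map_cons, List.map_nil, List.prod_cons, List.prod_nil, mul_one] at hc
  have h := hc 1
  rw [mul_one] at h
  set y : YS S := ⟨Pi.single (0 : Pos) 1, fx_main.1 (fx_single S (by decide) (supp_main _) (one_pow q))⟩ with hy
  have hval : (gw S y : GL chevE6.Idx K) = X 70 1 := by
    show w (Pi.single (0 : Pos) (1 : K)) = _
    rw [w_single]; rfl
  rw [← hval] at h
  have hmem : Zg e ∈ twistedE6 K q := by
    rw [Zg, show factsE6.xg 71 e = _ from h.symm]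
    exact mul_mem (mul_mem (top_mem S) (gw S y).2) (inv_mem (top_mem S))
  refine ⟨⟨_, top_mem S⟩, y, ⟨e, mem_fq S (Zg_fix S hmem)⟩, fun h0 => ?_, fun h0 => he (congrArg Subtype.val h0),
    Subtype.ext h⟩
  have := congrFun (congrArg Subtype.val h0) (0 : Pos)
  simp [hy] at this

theorem card_YS [Fintype (YS S)] : Fintype.card (YS S) = q ^ 20 := by
  classical
  obtain ⟨V, hV, hVm⟩ := card_fx S (K := K) cfgMain.supp0 (cfg_spec okMain).2.2.2.1 (cfg_spec okMain).2.2.2.2.2.1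
  rw [show q ^ 20 = q ^ cfgMain.supp0.length by rfl, ← hV, ← Finset.card_univ]
  refine Finset.card_bij (fun y _ => ((y : YS S) : Pos → K)) (fun y _ => (hVm _).2 (fx_main.2 y.2))
    (fun a _ b _ h => Subtype.ext h) (fun v hv => ?_)
  exact ⟨⟨v, fx_main.1 ((hVm v).1 hv)⟩, Finset.mem_univ _, rfl⟩

variable {M : Type*} [AddCommGroup M] [Module ℂ M] [FiniteDimensional ℂ M]
  (ρ : ↥(twistedE6 K q) →* Module.End ℂ M)

include S in
/-- The degree of a faithful representation. -/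
theorem degree_bound (hρ : Function.Injective ρ) :
    q * (q ^ 6 - q ^ 3 + 1) * (q ^ 4 + 1) ≤ finrank ℂ M + 2 ∧
      (finrank ℂ M < q * (q ^ 6 - q ^ 3 + 1) * (q ^ 4 + 1) →
        finrank ℂ M = q * (q ^ 6 - q ^ 3 + 1) * (q ^ 4 + 1) - 1 ∨
          finrank ℂ M = q * (q ^ 6 - q ^ 3 + 1) * (q ^ 4 + 1) - 2) := by
  classical
  letI : Fintype (Fq S) := Fintype.ofFinite _
  letI : Fintype (YS S) := Fintype.ofFinite _
  letI : Fintype (YU S) := Fintype.ofFinite _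
  letI : Fintype (YH S) := Fintype.ofFinite _
  suffices h : q * (q ^ 6 - q ^ 3 + 1) * (q ^ 4 + 1) ≤ finrank ℂ M + 2 from ⟨h, fun h' => by omega⟩
  obtain ⟨ψ, hψ⟩ : ∃ ψ : AddChar (Fq S) ℂ, ψ ≠ 1 := by
    by_contra h
    push Not at h
    have : Fintype.card (AddChar (Fq S) ℂ) = 1 := Fintype.card_eq_one_iff.2 ⟨1, h⟩
    rw [AddChar.card_eq, card_fq] at this
    have := S.hq
    omega
  set X := heis S with hX
  set d := X.nZ ρ ψ with hd
  have hall : ∀ χ : AddChar (Fq S) ℂ, χ ≠ 1 → X.nZ ρ χ = d := by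
    intro χ hχ
    have hbij : Function.Bijective fun c : Fq S => ψ.mulShift c := by
      refine (Fintype.bijective_iff_injective_and_card _).2 ⟨fun a b hab => ?_, AddChar.card_eq.symm⟩
      by_contra hne
      obtain ⟨f0, hf0⟩ := AddChar.ne_one_iff.1 hψ
      have h := DFunLike.congr_fun hab (f0 / (a - b))
      simp only [AddChar.mulShift_apply] at h
      have e : a * (f0 / (a - b)) = b * (f0 / (a - b)) + f0 := by
        have : a - b ≠ 0 := sub_ne_zero.2 hne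
        field_simp
        ring
      rw [e, AddChar.map_add_eq_mul] at h
      exact hf0 (mul_left_cancel₀ (Heis.chi_ne_zero ψ (b * (f0 / (a - b)))) (by rw [h, mul_one]))
    obtain ⟨c, rfl⟩ := hbij.2 χ
    have hc : (c : K) ≠ 0 := fun h0 => hχ (by
      have : c = 0 := Subtype.ext h0
      subst this
      exact AddChar.mulShift_zero ψ)
    exact nZ_shift S ρ hc (fq_pow S c) ψ
  have hk : finrank ℂ M = (∑ η, X.W ρ ψ η) + (q - 1) * d := by
    apply Nat.cast_injective (R := ℂ)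
    rw [← LinearMap.trace_one ℂ M, X.trace_split ρ, one_mul, X.trace_P1 ρ ψ hψ]
    have hsum : ∀ χ ∈ Finset.univ.erase (1 : AddChar (Fq S) ℂ),
        LinearMap.trace ℂ M (1 * X.P ρ χ) = (d : ℂ) := fun χ hχ => by
      rw [one_mul, X.trace_P, hall χ (Finset.mem_erase.1 hχ).1]
    rw [Finset.sum_congr rfl hsum, Finset.sum_const, Finset.card_erase_of_mem (Finset.mem_univ _),
      Finset.card_univ, AddChar.card_eq, card_fq, nsmul_eq_mul]
    push_cast
    rfl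
  have hd0 : d ≠ 0 := by
    intro h0
    have hP : ∀ χ : AddChar (Fq S) ℂ, χ ≠ 1 → X.P ρ χ = 0 := fun χ hχ =>
      LinearMap.range_eq_bot.1 (Submodule.finrank_eq_zero.1 (by
        show wm (X.opZ ρ) χ = 0
        exact (hall χ hχ).trans h0))
    have h1 : X.P1 ρ = 1 := by
      conv_rhs => rw [← X.sum_P ρ]
      rw [Finset.sum_eq_single (1 : AddChar (Fq S) ℂ) (fun χ _ hχ => hP χ hχ)
        (fun h => absurd (Finset.mem_univ _) h)]
      rfl
    have h2 := X.Z_P1 ρ 1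
    rw [h1, mul_one, ← ρ.map_one] at h2
    have h3 : (1 : Fq S) = 0 := X.z_inj ((hρ h2).trans X.z_zero.symm)
    exact one_ne_zero h3
  have hY := card_YS S
  obtain ⟨r, hr, -⟩ := X.sq_eq ρ (ψ := ψ) hψ
  rw [hY, ← hd] at hr
  obtain ⟨m, hm⟩ : q ^ 10 ∣ d := (Nat.pow_dvd_pow_iff two_ne_zero).1 ⟨r, by rw [← pow_mul, sq, hr]⟩
  obtain ⟨a1, a2, a3, a4, a5⟩ := arith S.hq
  by_cases hm2 : 2 ≤ m
  · have : 2 * ((q - 1) * q ^ 10) ≤ (q - 1) * d := by
      calc 2 * ((q - 1) * q ^ 10) ≤ m * ((q - 1) * q ^ 10) := Nat.mul_le_mul_right _ hm2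
        _ = (q - 1) * d := by rw [hm]; ring
    omega
  have hdq : d = q ^ 10 := by
    have : m ≠ 0 := fun h0 => hd0 (by rw [hm, h0, mul_zero])
    obtain rfl : m = 1 := by omega
    rw [hm, mul_one]
  rw [hdq] at hk hall
  obtain ⟨η, hη, hWη⟩ : ∃ η : YS S, η ≠ 0 ∧ X.W ρ ψ η ≠ 0 := by
    by_contra hno
    push Not at hno
    obtain ⟨g, y, f, hy, hf, hconj⟩ := top_conj S
    have hB : X.B 0 y = 0 := by
      have e := X.B_add_left 0 0 y
      rwa [add_zero, left_eq_add] at e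
    have e1 : LinearMap.trace ℂ M (ρ (X.w y)) = (X.W ρ ψ 0 : ℂ) := by
      rw [X.trace_split ρ, show ρ (X.w y) * X.P1 ρ = X.op ρ y from rfl, X.trace_op ρ ψ hψ,
        Finset.sum_eq_single (0 : YS S) (fun η _ hη => by rw [hno η hη, Nat.cast_zero, mul_zero])
          (fun h => absurd (Finset.mem_univ _) h), hB, AddChar.map_zero_eq_one, one_mul,
        Finset.sum_eq_zero (fun χ hχ => X.trace_w ρ (Finset.mem_erase.1 hχ).1 hy), add_zero]
    have e2 : LinearMap.trace ℂ M (ρ (X.w y)) = (X.W ρ ψ 0 : ℂ) - (q ^ 10 : ℕ) := by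
      have e3 : LinearMap.trace ℂ M (ρ (X.w y)) = LinearMap.trace ℂ M (ρ (X.Z f)) := by
        show LinearMap.trace ℂ M (ρ (gw S y)) = LinearMap.trace ℂ M (ρ (gz S f))
        rw [← hconj, ρ.map_mul, LinearMap.trace_mul_comm, ← ρ.map_mul, ← mul_assoc, inv_mul_cancel, one_mul]
      rw [e3, X.trace_split ρ, X.Z_P1, X.trace_P1 ρ ψ hψ]
      have hsum : ∀ χ ∈ Finset.univ.erase (1 : AddChar (Fq S) ℂ),
          LinearMap.trace ℂ M (ρ (X.Z f) * X.P ρ χ) = χ f * (q ^ 10 : ℕ) := fun χ hχ => by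
        rw [X.Z_P, map_smul, smul_eq_mul, X.trace_P, hall χ (Finset.mem_erase.1 hχ).1]
      rw [Finset.sum_congr rfl hsum, ← Finset.sum_mul,
        Finset.sum_eq_single (0 : YS S) (fun η _ hη => hno η hη) (fun h => absurd (Finset.mem_univ _) h)]
      have h0 : ∑ χ ∈ Finset.univ.erase (1 : AddChar (Fq S) ℂ), χ f = -1 := by
        have h1 : ∑ χ : AddChar (Fq S) ℂ, χ f = 0 := by rw [AddChar.sum_apply_eq_ite, if_neg hf]
        rw [← Finset.add_sum_erase _ _ (Finset.mem_univ (1 : AddChar (Fq S) ℂ)), AddChar.one_apply] at h1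
        exact eq_neg_of_add_eq_zero_right h1
      rw [h0]; ring
    have e4 : ((q ^ 10 : ℕ) : ℂ) = 0 := by linear_combination e2 - e1
    have := S.hq
    exact absurd (Nat.cast_eq_zero.1 e4) (pow_ne_zero _ (by omega))
  rw [sum_W S ρ ψ, ← hX] at hk
  have hfx : Fx q cfgMain.supp0 (η : Pos → K) := fx_main.2 η.2
  have hne : (η : Pos → K) ≠ 0 := fun h => hη (Subtype.ext h)
  have hWy : Wy S ρ ψ (η : Pos → K) ≠ 0 := by rwa [Wy_coe]
  rcases orbit_bound S okMain (inv_main S ρ ψ) hfx hne hWy with ⟨R, hR, hle⟩ | ⟨hflat, w, hw0, hw, -, hle⟩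
  · have hlen : ∀ R ∈ cfgMain.rows, (R.adj.map Prod.fst).length = 9 := by simp [cfgMain]
    rw [hlen R hR] at hle
    omega
  rw [sum_cells] at hle
  by_cases hw2 : 2 ≤ w
  · have : 2 * ((q - 1) * q ^ 9) ≤ w * NN q := Nat.mul_le_mul hw2 a3
    omega
  obtain rfl : w = 1 := by omega
  rw [one_mul] at hle
  have hW1 : ∀ v ∈ Dom q cfgMain.supp0, Wy S ρ ψ v ≠ 0 → Wy S ρ ψ v = 1 := by
    intro v hv hWv
    obtain ⟨i, hi, hvi⟩ := long_ne S (inv_main S ρ ψ) hflat (mem_Dom.1 hv).1 (mem_Dom.1 hv).2 hWv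
    rw [← (cfg_spec okMain).2.1] at hi
    obtain ⟨R, hR, rfl⟩ := List.mem_map.1 hi
    exact hw R hR v hv hvi hWv
  have hW1' : ∀ η : YS S, η ≠ 0 → X.W ρ ψ η ≠ 0 → X.W ρ ψ η = 1 := by
    intro η hη hWη
    rw [← Wy_coe]
    exact hW1 _ (mem_Dom.2 ⟨fx_main.2 η.2, fun h => hη (Subtype.ext h)⟩) (by rwa [Wy_coe])
  have hub : ∑ v ∈ Dom q cfgMain.supp0, Wy S ρ ψ v ≤ NN q := by
    have h := card_weights S (inv_main S ρ ψ) hflat
    rw [sum_cells] at h
    refine le_trans (le_of_eq ?_) h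
    rw [Finset.card_eq_sum_ones, Finset.sum_filter]
    refine Finset.sum_congr rfl fun v hv => ?_
    split_ifs with h0
    · exact hW1 v hv h0
    · exact not_not.1 h0
  have hnt := nontrivial S ρ ψ hψ hall hY hW1' hflat (by omega)
  have hst := step_bound S ρ ψ hψ hnt
  rw [← hX] at hst
  omega

include S in
/-- The minimal degree of a faithful irreducible representation. -/
theorem min_degree {k : ℕ} (σ : Representation ℂ ↥(twistedE6 K q) (Fin k → ℂ)) (hirr : σ.IsIrreducible)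
    (hσ : Function.Injective σ) : q * (q ^ 6 - q ^ 3 + 1) * (q ^ 4 + 1) ≤ k := by
  classical
  by_contra hlt
  have hdvd : k ∣ Nat.card ↥(twistedE6 K q) := by
    have h := Cfsg.Agent.Char.deg_dvd_card (Cfsg.Agent.Char.isIrrCharacter_character σ hirr)
    rwa [Cfsg.Agent.Char.deg_character, Module.finrank_fin_fun] at h
  have hdvd' : k ∣ q ^ 36 * (q ^ 2 - 1) * (q ^ 5 + 1) * (q ^ 6 - 1) * (q ^ 8 - 1) * (q ^ 9 + 1) * (q ^ 12 - 1) := by
    rw [← S.card_group]; exact hdvd.mul_left _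
  have h := (degree_bound S (σ : ↥(twistedE6 K q) →* Module.End ℂ (Fin k → ℂ)) hσ).2
    (by rw [Module.finrank_fin_fun]; omega)
  rw [Module.finrank_fin_fun] at h
  rcases h with rfl | rfl
  · exact not_dvd_order S.hq (Or.inl rfl) hdvd'
  · exact not_dvd_order S.hq (Or.inr rfl) hdvd'

end Cfsg.Agent.Small.TwE6Deg
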