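import Cfsg.Agent.Lib.Small.TwE6Deg.Paths
import Cfsg.Agent.Lib.Lie.FactsE6
import Cfsg.Agent.Lib.Lie.TwistOrth
import Cfsg.Agent.Lib.Lie.TorusCerts
import Cfsg.Agent.Lib.Lie.Steinberg

/-!
The unipotent radical of the parabolic of the highest root of E₆(K), modulo its centre.
-/

set_option autoImplicit false
set_option maxRecDepth 4000
set_option linter.unusedSectionVars false

namespace Cfsg.Agent.Small.TwE6Deg

open Cfsg.Lie Cfsg.Agent.Lie
open Cfsg.Agent.Small.MinusculeDegree (tgt okAct)
open scoped MatrixGroups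

/-- The roots of the quotient, by decreasing height, the twisted orbits adjacent. -/
def QL : List ℕ := [70, 69, 66, 68, 55, 67, 65, 54, 64, 63, 52, 62, 53, 49, 61, 51, 48, 50, 47, 46]

/-- The roots of the Levi subgroup. -/
def LR : List ℕ := [11, 12, 13, 14, 15, 26, 27, 28, 29, 30, 31, 32, 33, 34, 35, 36, 37, 38, 39, 40, 41, 42, 43, 44, 45,
  56, 57, 58, 59, 60]

/-- Positions in the list. -/
abbrev Pos : Type := Fin QL.length

instance : NeZero QL.length := ⟨by decide⟩

theorem okQ : (QL.all fun r => decide (r < chevE6.nroots) && decide (71 ≠ r) && decide (71 ≠ chevE6.neg r) &&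
    decide (chevE6.commTerms r 71 = []) && QL.all fun s => r == s || (decide (s ≠ chevE6.neg r) &&
      (chevE6.commTerms r s).all fun c => decide (c.1 = 71))) = true := by decide +kernel

theorem okL : (LR.all fun α => okAct chevE6 QL α && decide (71 ≠ α) && decide (71 ≠ chevE6.neg α) &&
    decide (chevE6.commTerms α 71 = [])) = true := by decide +kernel

/-- The partner of a position: the sum of the two roots is the highest root. -/
def partner (i : Pos) : Pos :=
  (([19, 18, 17, 16, 14, 13, 15, 11, 10, 12, 8, 7, 9, 5, 4, 6, 3, 2, 1, 0] : List Pos)).getD i.val i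

theorem okPartner : ((List.finRange QL.length).all fun i => (List.finRange QL.length).all fun j =>
    if j = partner i then
      (decide (chevE6.commTerms QL[j.val] QL[i.val] = [(71, 1, 1, 1)]) ||
        decide (chevE6.commTerms QL[j.val] QL[i.val] = [(71, -1, 1, 1)]))
    else (j == i || decide (chevE6.commTerms QL[j.val] QL[i.val] = []))) = true := by decide +kernel

theorem QL_nodup : QL.Nodup := by decide +kernel

variable {K : Type*} [Field K]

/-- A root element. -/
noncomputable abbrev X (r : ℕ) (t : K) : GL chevE6.Idx K := factsE6.xg r t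

/-- An element of the centre. -/
noncomputable abbrev Zg (c : K) : GL chevE6.Idx K := factsE6.xg 71 c

/-- The element with the given coordinates. -/
noncomputable def w (y : Pos → K) : GL chevE6.Idx K :=
  ((List.finRange QL.length).map fun i => X QL[i.val] (y i)).prod

/-- Equality modulo the centre. -/
def EqZ (a b : GL chevE6.Idx K) : Prop := ∃ c, a = b * Zg c

theorem X_comm {r s : ℕ} (hr : r < chevE6.nroots) (hs : s < chevE6.nroots) (h1 : s ≠ r) (h2 : s ≠ chevE6.neg r)
    (t u : K) : X s u * X r t = X r t * X s u *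
      ((chevE6.commTerms r s).map fun c => X c.1 ((c.2.1 : K) * (-t) ^ c.2.2.1 * u ^ c.2.2.2)).prod := by
  have key := (factsE6.tsys K).x_comm r s hr hs h1 h2 t u
  simpa only [factsE6.tsys_x, ChevalleyDatum.commWord, List.map_map, Function.comp_def] using key

theorem Q_spec {r : ℕ} (hr : r ∈ QL) : r < chevE6.nroots ∧ 71 ≠ r ∧ 71 ≠ chevE6.neg r ∧
    chevE6.commTerms r 71 = [] ∧ ∀ s ∈ QL, r = s ∨ (s ≠ chevE6.neg r ∧ ∀ c ∈ chevE6.commTerms r s, c.1 = 71) := by
  have h := okQ
  simp only [List.all_eq_true, Bool.and_eq_true, decide_eq_true_eq, Bool.or_eq_true, beq_iff_eq] at h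
  obtain ⟨⟨⟨⟨h1, h2⟩, h3⟩, h4⟩, h5⟩ := h r hr
  exact ⟨h1, h2, h3, h4, h5⟩

theorem L_spec {α : ℕ} (hα : α ∈ LR) : okAct chevE6 QL α = true ∧ 71 ≠ α ∧ 71 ≠ chevE6.neg α ∧
    chevE6.commTerms α 71 = [] := by
  have h := okL
  simp only [List.all_eq_true, Bool.and_eq_true, decide_eq_true_eq] at h
  obtain ⟨⟨⟨h1, h2⟩, h3⟩, h4⟩ := h α hα
  exact ⟨h1, h2, h3, h4⟩

theorem Q_Z {r : ℕ} (hr : r ∈ QL) (t c : K) : Commute (X r t) (Zg c) := by
  obtain ⟨h1, h2, h3, h4, -⟩ := Q_spec hr
  have := X_comm (K := K) h1 (by decide : (71 : ℕ) < chevE6.nroots) h2 h3 t c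
  rw [h4, List.map_nil, List.prod_nil, mul_one] at this
  exact this.symm

theorem act_lt {α : ℕ} (hα : α ∈ LR) : α < chevE6.nroots := by
  have h := (L_spec hα).1
  simp only [okAct, Bool.and_eq_true, decide_eq_true_eq] at h
  exact h.1

theorem L_Z {α : ℕ} (hα : α ∈ LR) (t c : K) : Commute (X α t) (Zg c) := by
  obtain ⟨-, h2, h3, h4⟩ := L_spec hα
  have := X_comm (K := K) (act_lt hα) (by decide : (71 : ℕ) < chevE6.nroots) h2 h3 t c
  rw [h4, List.map_nil, List.prod_nil, mul_one] at this
  exact this.symm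

theorem Zg_add (a b : K) : Zg (a + b) = Zg a * Zg b := factsE6.xg_add 71 a b

theorem Zg_zero : Zg (0 : K) = 1 := factsE6.xg_zero 71

theorem EqZ.refl (a : GL chevE6.Idx K) : EqZ a a := ⟨0, by rw [Zg_zero, mul_one]⟩

theorem EqZ.trans {a b c : GL chevE6.Idx K} (h : EqZ a b) (h' : EqZ b c) : EqZ a c := by
  obtain ⟨x, rfl⟩ := h; obtain ⟨y, rfl⟩ := h'
  exact ⟨y + x, by rw [Zg_add, mul_assoc]⟩

theorem EqZ.symm {a b : GL chevE6.Idx K} (h : EqZ a b) : EqZ b a := by
  obtain ⟨x, rfl⟩ := h
  exact ⟨-x, by rw [mul_assoc, ← Zg_add, add_neg_cancel, Zg_zero, mul_one]⟩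

/-- Elements commuting with the centre. -/
def CZ (a : GL chevE6.Idx K) : Prop := ∀ c, Commute a (Zg c)

theorem CZ.mul {a b : GL chevE6.Idx K} (ha : CZ a) (hb : CZ b) : CZ (a * b) := fun c => (ha c).mul_left (hb c)

theorem CZ.one : CZ (1 : GL chevE6.Idx K) := fun c => Commute.one_left _

theorem CZ.list {l : List (GL chevE6.Idx K)} (h : ∀ a ∈ l, CZ a) : CZ l.prod := by
  induction l with
  | nil => exact CZ.one
  | cons a l ih =>
    rw [List.prod_cons]
    exact (h a List.mem_cons_self).mul (ih fun b hb => h b (List.mem_cons_of_mem _ hb))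

theorem CZ_Q {r : ℕ} (hr : r ∈ QL) (t : K) : CZ (X r t) := fun c => Q_Z hr t c

theorem CZ_w (y : Pos → K) : CZ (w y) :=
  CZ.list fun a ha => by
    obtain ⟨i, -, rfl⟩ := List.mem_map.1 ha
    exact CZ_Q (List.getElem_mem i.isLt) _

theorem EqZ.mul {a a' b b' : GL chevE6.Idx K} (h : EqZ a a') (h' : EqZ b b') (hb : CZ b') :
    EqZ (a * b) (a' * b') := by
  obtain ⟨x, rfl⟩ := h; obtain ⟨y, rfl⟩ := h'
  exact ⟨x + y, by rw [Zg_add, mul_assoc a', ← mul_assoc (Zg x), ← (hb x).eq]; simp only [mul_assoc]⟩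

theorem EqZ.mul_mid {x a b P P' Q : GL chevE6.Idx K} (hx : x = a * b) (h1 : EqZ (P * b) (b * P))
    (h2 : EqZ (P * P') Q) (hC : CZ P') : EqZ (a * P * (b * P')) (x * Q) := by
  obtain ⟨c, hc⟩ := h2
  obtain ⟨d, hd⟩ := h1
  refine ⟨c + d, ?_⟩
  calc a * P * (b * P') = a * (P * b) * P' := by simp only [mul_assoc]
    _ = a * b * (P * (Zg d * P')) := by rw [hd]; simp only [mul_assoc]
    _ = a * b * (P * P' * Zg d) := by rw [← (hC d).eq]; simp only [mul_assoc]
    _ = x * Q * Zg (c + d) := by rw [hc, hx, Zg_add]; simp only [mul_assoc]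

theorem swap {r s : ℕ} (hr : r ∈ QL) (hs : s ∈ QL) (t u : K) : EqZ (X s u * X r t) (X r t * X s u) := by
  obtain ⟨h1, -, -, -, h5⟩ := Q_spec hr
  rcases h5 s hs with rfl | ⟨hne, hc⟩
  · exact ⟨0, by rw [Zg_zero, mul_one, X, X, ← factsE6.xg_add, ← factsE6.xg_add, add_comm]⟩
  by_cases hrs : s = r
  · subst hrs
    exact ⟨0, by rw [Zg_zero, mul_one, X, X, ← factsE6.xg_add, ← factsE6.xg_add, add_comm]⟩
  rw [X_comm h1 (Q_spec hs).1 hrs hne t u]
  have key : ∀ l : List (ℕ × ℤ × ℕ × ℕ), (∀ c ∈ l, c.1 = 71) → ∀ f : ℕ × ℤ × ℕ × ℕ → K,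
      EqZ (l.map fun c => X c.1 (f c)).prod 1 := by
    intro l hl f
    induction l with
    | nil => simpa using EqZ.refl _
    | cons c l ih =>
      rw [List.map_cons, List.prod_cons, hl c List.mem_cons_self]
      obtain ⟨x, hx⟩ := ih fun d hd => hl d (List.mem_cons_of_mem _ hd)
      exact ⟨f c + x, by rw [hx, one_mul, one_mul, Zg_add]⟩
  obtain ⟨x, hx⟩ := key _ hc _
  exact ⟨x, by rw [hx, one_mul]⟩

theorem swap_list {r : ℕ} (hr : r ∈ QL) (t : K) (l : List Pos) (y : Pos → K) :
    EqZ (X r t * (l.map fun i => X QL[i.val] (y i)).prod) ((l.map fun i => X QL[i.val] (y i)).prod * X r t) := by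
  induction l with
  | nil => simpa using EqZ.refl _
  | cons i l ih =>
    rw [List.map_cons, List.prod_cons, ← mul_assoc]
    have hCl : CZ (l.map fun j => X QL[j.val] (y j)).prod := CZ.list fun a ha => by
      obtain ⟨j, -, rfl⟩ := List.mem_map.1 ha
      exact CZ_Q (List.getElem_mem j.isLt) _
    refine ((swap (List.getElem_mem i.isLt) hr (y i) t).mul (EqZ.refl _) hCl).trans ?_
    rw [mul_assoc, mul_assoc]
    exact (EqZ.refl _).mul ih (hCl.mul (CZ_Q hr t))

theorem w_add (y y' : Pos → K) : EqZ (w y * w y') (w (y + y')) := by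
  unfold w
  induction List.finRange QL.length with
  | nil => simpa using EqZ.refl _
  | cons i l ih =>
    simp only [List.map_cons, List.prod_cons]
    have hC : ∀ z : Pos → K, CZ (l.map fun j => X QL[j.val] (z j)).prod := fun z => CZ.list fun a ha => by
      obtain ⟨j, -, rfl⟩ := List.mem_map.1 ha
      exact CZ_Q (List.getElem_mem j.isLt) _
    have hX : X QL[i.val] ((y + y') i) = X QL[i.val] (y i) * X QL[i.val] (y' i) := factsE6.xg_add _ _ _
    exact EqZ.mul_mid hX (swap_list (List.getElem_mem i.isLt) (y' i) l y).symm ih (hC y')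

theorem w_zero : w (0 : Pos → K) = 1 := by
  unfold w
  refine List.prod_eq_one fun a ha => ?_
  obtain ⟨i, -, rfl⟩ := List.mem_map.1 ha
  exact factsE6.xg_zero _

theorem w_single (i : Pos) (t : K) : w (Pi.single i t) = X QL[i.val] t := by
  unfold w
  suffices h : ∀ l : List Pos, l.Nodup → (l.map fun j => X QL[j.val] ((Pi.single i t : Pos → K) j)).prod =
      if i ∈ l then X QL[i.val] t else 1 by
    rw [h _ (List.nodup_finRange _), if_pos (List.mem_finRange i)]
  intro l hl
  induction l with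
  | nil => simp
  | cons j l ih =>
    rw [List.map_cons, List.prod_cons, ih (List.nodup_cons.1 hl).2]
    by_cases hji : j = i
    · subst hji
      rw [Pi.single_eq_same, if_neg (List.nodup_cons.1 hl).1, mul_one, if_pos List.mem_cons_self]
    · rw [Pi.single_eq_of_ne hji, X, factsE6.xg_zero, one_mul]
      simp [List.mem_cons, Ne.symm hji]

theorem X_mul {i : Pos} (t : K) {a : GL chevE6.Idx K} {y : Pos → K} (h : EqZ a (w y)) :
    EqZ (X QL[i.val] t * a) (w (Pi.single i t + y)) := by
  refine ((EqZ.refl _).mul h (CZ_w y)).trans ?_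
  rw [← w_single i t]
  exact w_add _ _

theorem conj_X {α : ℕ} (hα : α ∈ LR) (v : K) (i : Pos) (t : K) :
    EqZ (MulAut.conj (X α v) (X QL[i.val] t)) (w (mv1 chevE6 QL α v (Pi.single i t))) := by
  have hok := (L_spec hα).1
  simp only [okAct, Bool.and_eq_true, decide_eq_true_eq, List.all_eq_true] at hok
  obtain ⟨hlt, hall⟩ := hok
  obtain ⟨⟨⟨hi1, hi2⟩, hi3⟩, hm⟩ := hall i (List.mem_finRange i)
  have key := X_comm (K := K) hlt hi1 hi2 hi3 v t
  have hmv : mv1 chevE6 QL α v (Pi.single i t) = Pi.single i t + (match tgt chevE6 QL α i with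
      | some (k, z) => Pi.single k ((z : K) * v * t)
      | none => 0) := by
    funext k
    rw [mv1, Finset.sum_eq_single i (fun j _ hj => ?_) (fun h => absurd (Finset.mem_univ _) h), Pi.add_apply]
    · congr 1
      rcases tgt chevE6 QL α i with _ | ⟨k', z⟩
      · rfl
      · by_cases hk : k' = k
        · subst hk; simp
        · simp [hk]
    · rcases tgt chevE6 QL α j with _ | ⟨k', z⟩
      · rfl
      · simp [Pi.single_eq_of_ne hj]
  rw [hmv, MulAut.conj_apply]
  cases htg : tgt chevE6 QL α i with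
  | none =>
    rw [htg] at hm
    simp only [decide_eq_true_eq] at hm
    rw [hm, List.map_nil, List.prod_nil, mul_one] at key
    rw [← key, mul_inv_cancel_right]
    exact ((EqZ.refl _)).trans (by rw [add_zero, w_single]; exact EqZ.refl _)
  | some p =>
    obtain ⟨k, z⟩ := p
    rw [htg] at hm
    simp only [Bool.and_eq_true, decide_eq_true_eq] at hm
    obtain ⟨⟨hterm, -⟩, hnone⟩ := hm
    rw [hterm] at key
    simp only [List.map_cons, List.map_nil, List.prod_cons, List.prod_nil, mul_one, pow_one] at key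
    have hcomm : Commute (X α v) (X QL[k.val] ((z : K) * v * t)) := by
      obtain ⟨⟨⟨hk1, hk2⟩, hk3⟩, hkm⟩ := hall k (List.mem_finRange k)
      rw [Option.isNone_iff_eq_none.1 hnone] at hkm
      simp only [decide_eq_true_eq] at hkm
      have := X_comm (K := K) hlt hk1 hk2 hk3 v ((z : K) * v * t)
      rw [hkm, List.map_nil, List.prod_nil, mul_one] at this
      exact this.symm
    have h2 : X α v * X QL[i.val] t = X QL[i.val] t * X α v * X QL[k.val] ((z : K) * v * t) := by
      rw [key, mul_assoc _ (X QL[k.val] ((z : K) * -v * t)), X, ← factsE6.xg_add,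
        show (z : K) * -v * t + (z : K) * v * t = 0 by ring, factsE6.xg_zero, mul_one]
    rw [h2, mul_assoc (X QL[i.val] t), hcomm.eq, ← mul_assoc, mul_inv_cancel_right]
    simp only
    exact X_mul (i := i) t (by rw [w_single]; exact EqZ.refl _)

theorem mv1_add (α : ℕ) (v : K) (y y' : Pos → K) :
    mv1 chevE6 QL α v (y + y') = mv1 chevE6 QL α v y + mv1 chevE6 QL α v y' := by
  simpa using mv1_linear α v y y' (1 : K)

theorem conj_w {α : ℕ} (hα : α ∈ LR) (v : K) (y : Pos → K) :
    EqZ (MulAut.conj (X α v) (w y)) (w (mv1 chevE6 QL α v y)) := by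
  have e : ∀ l : List Pos, EqZ (MulAut.conj (X α v) (l.map fun i => X QL[i.val] (y i)).prod)
      (w (mv1 chevE6 QL α v (l.map fun i => (Pi.single i (y i) : Pos → K)).sum)) := by
    intro l
    induction l with
    | nil =>
      have h0 : mv1 chevE6 QL α v (0 : Pos → K) = 0 := by simpa using (mv1_add α v (0 : Pos → K) 0)
      simpa [h0, w_zero] using EqZ.refl (1 : GL chevE6.Idx K)
    | cons i l ih =>
      rw [List.map_cons, List.prod_cons, map_mul, List.map_cons, List.sum_cons, mv1_add]
      exact ((conj_X hα v i (y i)).mul ih (CZ_w _)).trans (w_add _ _)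
  have hsum : ((List.finRange QL.length).map fun i => (Pi.single i (y i) : Pos → K)).sum = y := by
    rw [← Fin.sum_univ_def]
    exact Finset.univ_sum_single y
  have h := e (List.finRange QL.length)
  rwa [hsum] at h

theorem conj_Zg {α : ℕ} (hα : α ∈ LR) (v c : K) : MulAut.conj (X α v) (Zg c) = Zg c := by
  rw [MulAut.conj_apply, (L_Z hα v c).eq, mul_inv_cancel_right]

/-- The product of root elements of a list. -/
noncomputable def El (l : List ℕ) (t : ℕ → K) : GL chevE6.Idx K := (factsE6.sys K).prodOver l t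

theorem El_cons (α : ℕ) (l : List ℕ) (t : ℕ → K) : El (α :: l) t = X α (t α) * El l t := by
  simp [El, CommSys.prodOver, Facts.sys_x]

theorem El_nil (t : ℕ → K) : El [] t = 1 := by simp [El, CommSys.prodOver]

theorem El_append (l l' : List ℕ) (t : ℕ → K) : El (l ++ l') t = El l t * El l' t := by
  simp [El, CommSys.prodOver]

theorem CZ_El {l : List ℕ} (hl : ∀ α ∈ l, α ∈ LR) (t : ℕ → K) : CZ (El l t) := CZ.list fun a ha => by
  obtain ⟨α, hα, rfl⟩ := List.mem_map.1 ha
  exact fun c => L_Z (hl α hα) _ c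

theorem conj_El {l : List ℕ} (hl : ∀ α ∈ l, α ∈ LR) (t : ℕ → K) (y : Pos → K) :
    EqZ (MulAut.conj (El l t) (w y)) (w (mvs chevE6 QL l t y)) := by
  induction l with
  | nil => simpa [El_nil, mvs] using EqZ.refl (w y)
  | cons α l ih =>
    obtain ⟨c, hc⟩ := ih fun β hβ => hl β (List.mem_cons_of_mem _ hβ)
    rw [El_cons, map_mul, MulAut.mul_apply, hc, map_mul, conj_Zg (hl α List.mem_cons_self)]
    obtain ⟨d, hd⟩ := conj_w (hl α List.mem_cons_self) (t α) (mvs chevE6 QL l t y)
    exact ⟨d + c, by rw [hd, Zg_add, mul_assoc]; rfl⟩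

/-- The commutator with the element at the partner position. -/
theorem partner_conj (i : Pos) : ∃ z : ℤ, (z = 1 ∨ z = -1) ∧ ∀ (t : K) (y : Pos → K),
    MulAut.conj (X QL[(partner i).val] t) (w y) = w y * Zg ((z : K) * t * y i) := by
  have hok := okPartner
  simp only [List.all_eq_true] at hok
  have hne : ∀ j : Pos, j ≠ partner j := by decide +kernel
  have hinv : ∀ j : Pos, partner (partner j) = j := by decide +kernel
  have hi := hok i (List.mem_finRange i) (partner i) (List.mem_finRange _)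
  simp only [if_true, Bool.or_eq_true, decide_eq_true_eq] at hi
  obtain ⟨z, hz, hterm⟩ : ∃ z : ℤ, (z = 1 ∨ z = -1) ∧
      chevE6.commTerms QL[(partner i).val] QL[i.val] = [(71, z, 1, 1)] := by
    rcases hi with h | h
    exacts [⟨1, Or.inl rfl, h⟩, ⟨-1, Or.inr rfl, h⟩]
  refine ⟨z, hz, fun t y => ?_⟩
  have hp := List.getElem_mem (partner i).isLt (l := QL)
  have hone : ∀ j : Pos, j ≠ i → ∀ u, Commute (X QL[(partner i).val] t) (X QL[j.val] u) := by
    intro j hj u
    by_cases hjp : j = partner i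
    · subst hjp
      show _ = _
      rw [X, X, ← factsE6.xg_add, ← factsE6.xg_add, add_comm]
    have h := hok j (List.mem_finRange j) (partner i) (List.mem_finRange _)
    rw [if_neg (fun e => hj (by rw [← hinv i, ← hinv j, ← e, hinv]))] at h
    simp only [Bool.or_eq_true, beq_iff_eq, decide_eq_true_eq, Ne.symm hjp, false_or] at h
    have hqj := List.getElem_mem j.isLt (l := QL)
    obtain ⟨h1, -, -, -, h5⟩ := Q_spec (r := QL[(partner i).val]) hp
    have hneq : QL[j.val] ≠ QL[(partner i).val] := fun e => hjp (Fin.ext ((QL_nodup.getElem_inj_iff).1 e))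
    have := X_comm (K := K) h1 (Q_spec hqj).1 hneq ((h5 _ hqj).resolve_left hneq.symm).1 t u
    rw [h, List.map_nil, List.prod_nil, mul_one] at this
    exact this.symm
  have hself : MulAut.conj (X QL[(partner i).val] t) (X QL[i.val] (y i)) = X QL[i.val] (y i) * Zg ((z : K) * t * y i) := by
    have hqi := List.getElem_mem i.isLt (l := QL)
    obtain ⟨h1, -, -, -, h5⟩ := Q_spec (r := QL[(partner i).val]) hp
    have hneq : QL[i.val] ≠ QL[(partner i).val] := fun e => hne i (Fin.ext ((QL_nodup.getElem_inj_iff).1 e))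
    have key := X_comm (K := K) h1 (Q_spec hqi).1 hneq ((h5 _ hqi).resolve_left hneq.symm).1 t (y i)
    rw [hterm] at key
    simp only [List.map_cons, List.map_nil, List.prod_cons, List.prod_nil, mul_one, pow_one] at key
    rw [MulAut.conj_apply, mul_inv_eq_iff_eq_mul, mul_assoc (X QL[i.val] (y i)), ← (Q_Z hp t _).eq, ← mul_assoc,
      key, mul_assoc _ (Zg ((z : K) * -t * y i)), ← Zg_add,
      show (z : K) * -t * y i + (z : K) * t * y i = 0 by ring, Zg_zero, mul_one]
  unfold w
  rw [map_list_prod, List.map_map]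
  suffices h : ∀ l : List Pos, l.Nodup →
      (l.map (⇑(MulAut.conj (X QL[(partner i).val] t)) ∘ fun j => X QL[j.val] (y j))).prod =
        (l.map fun j => X QL[j.val] (y j)).prod * Zg (if i ∈ l then (z : K) * t * y i else 0) by
    rw [h _ (List.nodup_finRange _), if_pos (List.mem_finRange i)]
  intro l hl
  induction l with
  | nil => simp [Zg_zero]
  | cons j l ih =>
    obtain ⟨hjl, hl'⟩ := List.nodup_cons.1 hl
    have hCl : CZ (l.map fun j => X QL[j.val] (y j)).prod := CZ.list fun a ha => by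
      obtain ⟨m, -, rfl⟩ := List.mem_map.1 ha
      exact CZ_Q (List.getElem_mem m.isLt) _
    simp only [List.map_cons, List.prod_cons, Function.comp_apply]
    rw [ih hl']
    by_cases hji : j = i
    · subst hji
      rw [hself, if_neg hjl, Zg_zero, mul_one, if_pos List.mem_cons_self, mul_assoc, ← (hCl _).eq]
      simp only [mul_assoc]
    · rw [MulAut.conj_apply, (hone j hji (y j)).eq, mul_inv_cancel_right]
      simp [List.mem_cons, Ne.symm hji, mul_assoc]

/-- Torus elements scale the coordinates. -/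
theorem torus_w (c : Fin chevE6.rank → Kˣ) (y : Pos → K) :
    MulAut.conj (torus chevE6 K c) (w y) = w fun i => (torChar chevE6 c QL[i.val] : K) * y i := by
  unfold w
  rw [map_list_prod, List.map_map]
  congr 1
  refine List.map_congr_left fun i _ => ?_
  rw [Function.comp_apply, MulAut.conj_apply, X, factsE6.torus_conj c (Q_spec (List.getElem_mem i.isLt)).1]

/-- The roots of the radical, in increasing order. -/
def UL : List ℕ := [46, 47, 48, 49, 50, 51, 52, 53, 54, 55, 61, 62, 63, 64, 65, 66, 67, 68, 69, 70, 71]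

theorem closedUL_check : (UL.all fun r => decide (36 ≤ r ∧ r < 72) && UL.all fun s => r == s ||
    (chevE6.commTerms r s).all fun c => UL.contains c.1) = true := by decide +kernel

theorem closedUL : ClosedList chevE6 UL := by
  have h := closedUL_check
  simp only [List.all_eq_true, Bool.and_eq_true, decide_eq_true_eq, Bool.or_eq_true, beq_iff_eq,
    List.contains_iff_mem] at h
  exact ⟨by decide, fun r hr => (h r hr).1, fun r hr s hs hne c hc => ((h r hr).2 s hs).resolve_left hne c hc⟩

end Cfsg.Agent.Small.TwE6Deg
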