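import Cfsg.Agent.Lib.Small.TwE6Deg.TopLevel

/-!
The trace of a long root element on the vectors fixed by the radical.
-/

set_option autoImplicit false
set_option maxRecDepth 4000
set_option linter.unusedSectionVars false

namespace Cfsg.Agent.Small.TwE6Deg

open Cfsg.Lie Cfsg.Agent.Lie Finset Module
open Cfsg.Agent.Lie.E6 (Setup)
open scoped MatrixGroups

variable {K : Type*} [Field K] [Fintype K] {q : ℕ} (S : Setup K q) [Fintype (Fq S)] [Fintype (YS S)]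
variable {M : Type*} [AddCommGroup M] [Module ℂ M] [FiniteDimensional ℂ M]
  (ρ : ↥(twistedE6 K q) →* Module.End ℂ M) (ψ : AddChar (Fq S) ℂ)

theorem moves_gs : ∃ φ : YS S → YS S, (∀ y, (φ y : Pos → K) = mvs chevE6 QL [11] (fun _ => (1 : K)) (y : Pos → K)) ∧
    (heis S).Moves (gs S) φ := by
  have hl : ∀ α ∈ [11], α ∈ LR := by decide
  have e : El [11] (fun _ => (1 : K)) = X 11 1 := by rw [El_cons, El_nil, mul_one]
  refine moves_of S (g := gs S) ?_ (fun y => ?_)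
  · rw [gs_val, ← e]; exact CZ_El hl _
  · rw [gs_val, ← e]; exact conj_El hl _ y

theorem src_zero {φ : YS S → YS S}
    (hφ : ∀ y, (φ y : Pos → K) = mvs chevE6 QL [11] (fun _ => (1 : K)) (y : Pos → K)) {η : YS S} (h : φ η = η)
    {i : Pos} (hi : i ∈ srcs) : (η : Pos → K) i = 0 := by
  have h1 := List.all_eq_true.1 okSrcs i hi
  simp only [List.any_eq_true] at h1
  obtain ⟨k, -, z, hz, hp⟩ := h1
  have hnd : allPos.Nodup := by decide +kernel
  have h2 := mvs_at hp (fun _ => (1 : K)) hnd (η : Pos → K) (fun m hm => absurd (supp_main m) hm)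
  rw [← hφ, h] at h2
  have hz' : z = 1 ∨ z = -1 := by simpa using hz
  simp only [pval, idPath, onePath, List.map_cons, List.map_nil, List.prod_cons, List.prod_nil, List.sum_cons,
    List.sum_nil, Int.cast_one, one_mul, mul_one, add_zero, left_eq_add, mul_eq_zero] at h2
  exact h2.resolve_left (unit_ne hz')

/-- The fixed weights of the long root element are few. -/
theorem card_fixed {φ : YS S → YS S}
    (hφ : ∀ y, (φ y : Pos → K) = mvs chevE6 QL [11] (fun _ => (1 : K)) (y : Pos → K))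
    [DecidablePred fun y => φ y = y] : (Finset.univ.filter fun y => φ y = y).card ≤ q ^ 14 := by
  classical
  obtain ⟨P, hP⟩ : ∃ P : List Pos, P = allPos.filter fun m => !(srcs.contains m) := ⟨_, rfl⟩
  have hfacts : P.Nodup ∧ (∀ m ∈ P, π m ∈ P) ∧ P.length = 14 := by rw [hP]; decide +kernel
  obtain ⟨V, hV, hVm⟩ := card_fx S (K := K) P hfacts.1 hfacts.2.1
  rw [← hfacts.2.2, ← hV]
  refine Finset.card_le_card_of_injOn (fun η : YS S => (η : Pos → K)) (fun η hη => ?_)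
    (fun a _ b _ h => Subtype.ext h)
  rw [Finset.mem_coe, Finset.mem_filter] at hη
  refine Finset.mem_coe.2 ((hVm _).2 ⟨η.2, fun m hm => src_zero S hφ hη.2 ?_⟩)
  by_contra h
  exact hm (by rw [hP]; exact List.mem_filter.2 ⟨supp_main m, by simpa using h⟩)

theorem moves_comp {g : ↥(twistedE6 K q)} {φ : YS S → YS S} (h : (heis S).Moves g φ) (η : YS S) :
    (heis S).E ρ ψ (φ η) = ρ g * (heis S).E ρ ψ η * ρ g⁻¹ := (heis S).inv_mul_E ρ ψ h η

/-- The long root element is trivial on the fixed weights. -/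
theorem fix_one (hW1 : ∀ η : YS S, η ≠ 0 → (heis S).W ρ ψ η ≠ 0 → (heis S).W ρ ψ η = 1)
    (hflat : Flat q cfgMain (Wy S ρ ψ)) {φ : YS S → YS S}
    (hφ : ∀ y, (φ y : Pos → K) = mvs chevE6 QL [11] (fun _ => (1 : K)) (y : Pos → K)) {η : YS S} (hη : η ≠ 0)
    (hfix : φ η = η) (hWη : (heis S).W ρ ψ η ≠ 0) :
    ρ (gs S) * (heis S).E ρ ψ η = (heis S).E ρ ψ η := by
  classical
  have hinv := inv_main S ρ ψ
  have hdom : (η : Pos → K) ∈ Dom q cfgMain.supp0 :=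
    mem_Dom.2 ⟨fx_main.2 η.2, fun h => hη (Subtype.ext h)⟩
  obtain ⟨R, hR, hcell, -, htrans⟩ := in_cell S hinv hflat hdom (by rwa [Wy_coe])
  obtain ⟨-, hc, -⟩ := mem_cell.1 hcell
  have hok := List.all_eq_true.1 okFixRows_eq R hR
  simp only [Bool.or_eq_true, List.contains_iff_mem, Bool.and_eq_true, List.all_eq_true] at hok
  rcases hok with hsrc | ⟨hcomm, hsing⟩
  · exact absurd (src_zero S hφ hfix hsrc) hc
  obtain ⟨hi, him⟩ := row_long okMain hR
  have hrow := row_ok okMain hR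
  set c := (η : Pos → K) R.i with hcdef
  have hcq : c ^ q = c := by
    have := (fx_main.2 η.2).mem_Fq S hi
    simpa [FqSet] using this
  set η0 : YS S := ⟨Pi.single R.i c, fx_main.1 (fx_single S hi (supp_main _) hcq)⟩ with hη0
  have hlowLo : ∀ o ∈ R.low, o ∈ Orbs.take 18 := fun o ho => ((cfg_spec okMain).2.2.2.2.1 o
    (lo_T okMain hR o ((row_spec hrow).2.2.2.2.2.2.2.2.2.2.2.2.2.1 o ho))).1
  have hlowt : ∀ o ∈ R.low, Compat q (fun α => -killT R (η : Pos → K) α) o := fun o ho =>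
    compat_neg S okMain hR (fx_main.2 η.2) o ((row_spec hrow).2.2.2.2.2.2.2.2.2.2.2.2.2.1 o ho)
  obtain ⟨φτ, hφτ, hmτ⟩ := moves_El S hlowLo hlowt
  have heta : φτ η0 = η := Subtype.ext (by rw [hφτ]; exact htrans.symm)
  have hsfix : ∀ (o : List ℕ) (t : ℕ → K), o ∈ ([[11], [12, 26], [15, 35]] : List (List ℕ)) →
      mvs chevE6 QL o t (Pi.single R.i c) = Pi.single R.i c := by
    intro o t ho
    funext k
    have h1 := hsing k (List.mem_finRange k) o ho
    rw [mvs_at h1 t (List.nodup_singleton _) _ (single_supp _ _)]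
    by_cases hk : k = R.i
    · subst hk; simp [pval, idPath]
    · simp [hk, Pi.single_eq_of_ne hk]
  have hη0W : (heis S).W ρ ψ η0 = 1 := by
    rw [← (heis S).W_move ρ ψ hmτ η0, heta]
    exact hW1 η hη hWη
  obtain ⟨o, o', t, t', ho, ho', ht, ht', rfl, rfl, hgs⟩ := gs_comm S
  obtain ⟨φ1, hφ1, hm1⟩ := moves_El S ho ht
  obtain ⟨φ2, hφ2, hm2⟩ := moves_El S ho' ht'
  have hf1 : φ1 η0 = η0 := Subtype.ext (by rw [hφ1, List.flatten_singleton]; exact hsfix _ _ (by simp))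
  have hf2 : φ2 η0 = η0 := Subtype.ext (by rw [hφ2, List.flatten_singleton]; exact hsfix _ _ (by simp))
  have hone : ρ (gs S) * (heis S).E ρ ψ η0 = (heis S).E ρ ψ η0 := by
    rw [hgs]; exact (heis S).comm_fixes ρ ψ hm1 hm2 hf1 hf2 hη0W
  have hcommτ : gs S * gel S hlowLo hlowt = gel S hlowLo hlowt * gs S := Subtype.ext
    (X_comm_list (lev_LR hlowLo) hcomm 1 _).eq
  rw [← heta, moves_comp S ρ ψ hmτ η0, ← mul_assoc, ← mul_assoc, ← ρ.map_mul, hcommτ, ρ.map_mul,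
    mul_assoc (ρ (gel S hlowLo hlowt)) (ρ (gs S)), hone]

/-- The long root element is not trivial on the vectors fixed by the radical. -/
theorem nontrivial (hψ : ψ ≠ 1) (hd : ∀ χ : AddChar (Fq S) ℂ, χ ≠ 1 → (heis S).nZ ρ χ = q ^ 10)
    (hY : Fintype.card (YS S) = q ^ 20)
    (hW1 : ∀ η : YS S, η ≠ 0 → (heis S).W ρ ψ η ≠ 0 → (heis S).W ρ ψ η = 1)
    (hflat : Flat q cfgMain (Wy S ρ ψ))
    (hN : (∑ v ∈ Dom q cfgMain.supp0, Wy S ρ ψ v) + (q - 1) * q ^ 7 < q ^ 10) :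
    ρ (gs S) * (heis S).E ρ ψ 0 ≠ (heis S).E ρ ψ 0 := by
  classical
  intro htriv
  obtain ⟨φ, hφ, hmv⟩ := moves_gs S
  set X := heis S with hX
  obtain ⟨g, f, hf, hconj⟩ := gs_conj S
  have e1 : LinearMap.trace ℂ M (ρ (gs S)) = LinearMap.trace ℂ M (ρ (X.Z f)) := by
    show _ = LinearMap.trace ℂ M (ρ (gz S f))
    rw [← hconj, ρ.map_mul, LinearMap.trace_mul_comm, ← ρ.map_mul, ← mul_assoc, inv_mul_cancel, one_mul]
  have e2 : LinearMap.trace ℂ M (ρ (X.Z f)) = ((∑ η, X.W ρ ψ η : ℕ) : ℂ) - (q ^ 10 : ℕ) := by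
    rw [X.trace_split ρ, X.Z_P1, X.trace_P1 ρ ψ hψ]
    have hsum : ∀ χ ∈ Finset.univ.erase (1 : AddChar (Fq S) ℂ),
        LinearMap.trace ℂ M (ρ (X.Z f) * X.P ρ χ) = χ f * (q ^ 10 : ℕ) := fun χ hχ => by
      rw [X.Z_P, map_smul, smul_eq_mul, X.trace_P, hd χ (Finset.mem_erase.1 hχ).1]
    rw [Finset.sum_congr rfl hsum, ← Finset.sum_mul]
    have h0 : ∑ χ ∈ Finset.univ.erase (1 : AddChar (Fq S) ℂ), χ f = -1 := by
      have h1 : ∑ χ : AddChar (Fq S) ℂ, χ f = 0 := by rw [AddChar.sum_apply_eq_ite, if_neg hf]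
      rw [← Finset.add_sum_erase _ _ (Finset.mem_univ (1 : AddChar (Fq S) ℂ)), AddChar.one_apply] at h1
      exact eq_neg_of_add_eq_zero_right h1
    rw [h0]; ring
  have e3 : LinearMap.trace ℂ M (ρ (gs S) * X.P1 ρ) = (X.W ρ ψ 0 : ℂ) +
      ((Finset.univ.filter fun η : YS S => η ≠ 0 ∧ φ η = η ∧ X.W ρ ψ η ≠ 0).card : ℕ) := by
    rw [← X.sum_E ρ ψ hψ, Finset.mul_sum, map_sum, ← Finset.add_sum_erase _ _ (Finset.mem_univ (0 : YS S)),
      htriv, X.trace_E]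
    congr 1
    rw [Finset.card_filter, Nat.cast_sum, ← Finset.sum_erase (s := (Finset.univ : Finset (YS S)))
      (f := fun η => ((if η ≠ 0 ∧ φ η = η ∧ X.W ρ ψ η ≠ 0 then 1 else 0 : ℕ) : ℂ)) (a := 0) (by simp)]
    refine Finset.sum_congr rfl fun η hη => ?_
    have hη0 := (Finset.mem_erase.1 hη).1
    by_cases hfix : φ η = η
    · by_cases hW0 : X.W ρ ψ η = 0
      · have hE : X.E ρ ψ η = 0 := LinearMap.range_eq_bot.1 (Submodule.finrank_eq_zero.1 hW0)
        simp [hE, hW0]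
      · rw [fix_one S ρ ψ hW1 hflat hφ hη0 hfix hW0, X.trace_E, if_pos ⟨hη0, hfix, hW0⟩,
          hW1 η hη0 hW0, Nat.cast_one]
    · rw [X.trace_moved ρ ψ hψ hmv hfix, if_neg (fun h => hfix h.2.1), Nat.cast_zero]
  have e4 : ∀ χ ∈ Finset.univ.erase (1 : AddChar (Fq S) ℂ),
      -((q : ℝ) ^ 7) ≤ (LinearMap.trace ℂ M (ρ (gs S) * X.P ρ χ)).re := by
    intro χ hχ
    have hχ1 := (Finset.mem_erase.1 hχ).1
    have h := X.normSq_le ρ hχ1 (by rw [hd χ hχ1, hY, ← pow_add]) (fun a => AddChar.norm_apply χ a) hmv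
    have h2 : ‖LinearMap.trace ℂ M (ρ (gs S) * X.P ρ χ)‖ ^ 2 ≤ ((q : ℝ) ^ 7) ^ 2 := by
      refine h.trans ?_
      rw [← pow_mul]
      exact_mod_cast card_fixed S hφ
    have h3 := (pow_le_pow_iff_left₀ (norm_nonneg _) (by positivity) two_ne_zero).1 h2
    have h4 := neg_abs_le (LinearMap.trace ℂ M (ρ (gs S) * X.P ρ χ)).re
    have h5 := Complex.abs_re_le_norm (LinearMap.trace ℂ M (ρ (gs S) * X.P ρ χ))
    linarith
  have h := X.trace_split ρ (ρ (gs S))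
  rw [e1, e2, e3] at h
  have hre := congrArg Complex.re h
  simp only [Complex.sub_re, Complex.add_re, Complex.natCast_re, Complex.re_sum] at hre
  have hlow := Finset.card_nsmul_le_sum _ _ _ e4
  rw [Finset.card_erase_of_mem (Finset.mem_univ _), Finset.card_univ, AddChar.card_eq, card_fq, nsmul_eq_mul] at hlow
  have hN' : ((∑ v ∈ Dom q cfgMain.supp0, Wy S ρ ψ v : ℕ) : ℝ) + ((q - 1 : ℕ) : ℝ) * (q : ℝ) ^ 7 < (q : ℝ) ^ 10 := by
    exact_mod_cast hN
  rw [sum_W S ρ ψ, ← hX, Nat.cast_add, Nat.cast_pow] at hre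
  have hpos : (0 : ℝ) ≤ ((Finset.univ.filter fun η : YS S => η ≠ 0 ∧ φ η = η ∧ X.W ρ ψ η ≠ 0).card : ℕ) :=
    Nat.cast_nonneg _
  linarith

end Cfsg.Agent.Small.TwE6Deg
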