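import Cfsg.Agent.Lib.Small.TwE6Deg.Fixed

/-!
Counting the fixed vectors in invariant sets through the cells of the extremal positions.
-/

set_option autoImplicit false
set_option maxRecDepth 4000
set_option linter.unusedSectionVars false

namespace Cfsg.Agent.Small.TwE6Deg

open Cfsg.Lie Cfsg.Agent.Lie Finset
open Cfsg.Agent.Lie.E6 (Setup)
open Cfsg.Agent.Small.MinusculeDegree (tgt okAct)
open scoped MatrixGroups

/-- A translated position: target, root, sign. -/
abbrev Adj : Type := Pos × ℕ × ℤ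

/-- A change of the remainder: source, target, orbit. -/
abbrev Sec : Type := Pos × Pos × List ℕ

/-- The data of an extremal position. -/
structure Row where
  /-- the position -/
  i : Pos
  /-- the orbits moving it -/
  T : List (List ℕ)
  /-- their targets -/
  adj : List Adj
  /-- the remaining positions -/
  rest : List Pos
  /-- the changes of the remainder -/
  sec : List Sec
  /-- the later orbits -/
  low : List (List ℕ)

/-- The paths of one root. -/
def onePath (i k : Pos) (α : ℕ) (z : ℤ) : Path QL := (i, k, z, [α])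

/-- The identity path. -/
def idPath (k : Pos) : Path QL := (k, k, 1, [])

/-- An affine change at `k` of source `j`. -/
def okChange (l : List ℕ) (supp : List Pos) (j k : Pos) : Bool :=
  match (pathsTo chevE6 QL l supp k).filter fun p => !decide (p = idPath k) with
  | [(j₁, _, z, [α])] => decide (j₁ = j) && decide (z = 1 ∨ z = -1) && decide (α ∈ l)
  | [(j₁, _, z, [α]), (j₂, _, z', [β])] =>
      ((decide (j₁ = j) && decide (j₂ = π j) && decide (β = graphE6.img α) && decide (α ∈ l)) ||
        (decide (j₂ = j) && decide (j₁ = π j) && decide (α = graphE6.img β) && decide (β ∈ l))) &&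
      decide (z = 1 ∨ z = -1) && decide (z' = 1 ∨ z' = -1) && decide (l.length = 2)
  | _ => false

/-- The supports of the successive changes. -/
def okSecs (i : Pos) (adjPos : List Pos) (Lo : List (List ℕ)) : List Pos → List Sec → Bool
  | rest, [] => rest.isEmpty
  | rest, (j, k, o) :: secs =>
      decide (o ∈ Lo) && decide (o ∈ Orbs) && decide (j ∈ rest) && decide (k ≠ i) && !(adjPos.contains k) &&
      decide ((pathsTo chevE6 QL o (i :: rest) k).filter (fun p => decide (p = idPath k)) =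
        if k ∈ (i :: rest) then [idPath k] else []) &&
      okChange o (i :: rest) j k &&
      okPaths chevE6 QL o (i :: rest) i [idPath i] &&
      adjPos.all (fun m => okPaths chevE6 QL o (i :: rest) m []) &&
      okSecs i adjPos Lo (rest.filter fun m => !decide (m = j ∨ m = π j)) secs

/-- The checks of a row. -/
def okRow (supp0 longs : List Pos) (Lo : List (List ℕ)) (R : Row) : Bool :=
  decide (R.i ∈ longs) && decide (π R.i = R.i) &&
  R.T.all (fun o => decide (o ∈ Lo) && decide (o ∈ Orbs)) &&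
  decide (R.adj.map (fun a => a.2.1) = R.T.flatten) && decide R.T.flatten.Nodup &&
  decide (R.adj.map Prod.fst).Nodup &&
  decide (((R.i :: R.adj.map Prod.fst) ++ R.rest).Perm supp0) &&
  decide supp0.Nodup &&
  R.adj.all (fun a => decide (a.2.2 = 1 ∨ a.2.2 = -1) &&
    decide ((π a.1, graphE6.img a.2.1, a.2.2 * graphE6.sign a.2.1 * sgn R.i * sgn a.1) ∈ R.adj) &&
    okPaths chevE6 QL R.T.flatten supp0 a.1 [idPath a.1, onePath R.i a.1 a.2.1 a.2.2] &&
    okPaths chevE6 QL R.T.flatten [R.i] a.1 [onePath R.i a.1 a.2.1 a.2.2]) &&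
  okPaths chevE6 QL R.T.flatten supp0 R.i [idPath R.i] &&
  okPaths chevE6 QL R.T.flatten [R.i] R.i [idPath R.i] &&
  okSecs R.i (R.adj.map Prod.fst) Lo R.rest R.sec &&
  decide (R.low.flatten = R.T.flatten.filter fun α => R.low.flatten.contains α) &&
  R.low.all (fun o => decide (o ∈ R.T)) &&
  longs.all (fun m => !decide (m < R.i) || okPaths chevE6 QL R.low.flatten [R.i] m []) &&
  okComm chevE6 R.T.flatten

variable {K : Type*} [Field K] [Fintype K] {q : ℕ} (S : Setup K q)

/-- Fixed coordinates supported in a set of positions. -/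
def Fx (q : ℕ) (supp0 : List Pos) (y : Pos → K) : Prop := sigY q y = y ∧ ∀ m, m ∉ supp0 → y m = 0

theorem Fx.at {supp0 : List Pos} {y : Pos → K} (h : Fx q supp0 y) (k : Pos) :
    y (π k) = (sgn k : K) * y k ^ q := by
  have h1 := congrFun h.1 (π k)
  rw [sigY, (π_spec k).2.1] at h1
  exact h1.symm

/-- A weight function invariant under the moves. -/
structure Inv (q : ℕ) (supp0 : List Pos) (Lo : List (List ℕ)) (W : (Pos → K) → ℕ) : Prop where
  move : ∀ os : List (List ℕ), (∀ o ∈ os, o ∈ Lo) → ∀ t : ℕ → K, (∀ o ∈ os, Compat q t o) →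
    ∀ y, Fx q supp0 y → Fx q supp0 (mvs chevE6 QL os.flatten t y) ∧ W (mvs chevE6 QL os.flatten t y) = W y
  scale : ∀ i : Pos, ∀ u : K, u ≠ 0 → u ^ q = u → π i = i → i ∈ supp0 → ∃ f : Pos → K,
    (∀ m, f m ≠ 0) ∧ f i = u ∧ ∀ y, Fx q supp0 y → Fx q supp0 (fun m => f m * y m) ∧ W (fun m => f m * y m) = W y

theorem mv1_zero (α : ℕ) (y : Pos → K) : mv1 chevE6 QL α 0 y = y := by
  funext k
  rw [mv1, Finset.sum_eq_zero, add_zero]
  intro i _
  rcases tgt chevE6 QL α i with _ | ⟨k', z⟩ <;> simp

theorem mvs_filter (l : List ℕ) (t : ℕ → K) (p : ℕ → Bool) (h : ∀ α ∈ l, p α = false → t α = 0) (y : Pos → K) :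
    mvs chevE6 QL l t y = mvs chevE6 QL (l.filter p) t y := by
  induction l with
  | nil => rfl
  | cons α l ih =>
    have ih' := ih fun β hβ => h β (List.mem_cons_of_mem _ hβ)
    show mv1 chevE6 QL α (t α) (mvs chevE6 QL l t y) = _
    rw [ih']
    by_cases hp : p α = true
    · rw [List.filter_cons_of_pos hp]; rfl
    · rw [List.filter_cons_of_neg hp, h α List.mem_cons_self (by simpa using hp), mv1_zero]

theorem mvs_congr (l : List ℕ) {t t' : ℕ → K} (h : ∀ α ∈ l, t α = t' α) (y : Pos → K) :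
    mvs chevE6 QL l t y = mvs chevE6 QL l t' y := by
  induction l with
  | nil => rfl
  | cons α l ih =>
    show mv1 chevE6 QL α (t α) (mvs chevE6 QL l t y) = mv1 chevE6 QL α (t' α) (mvs chevE6 QL l t' y)
    rw [ih fun β hβ => h β (List.mem_cons_of_mem _ hβ), h α List.mem_cons_self]

theorem mv1_inj {α : ℕ} (hα : okAct chevE6 QL α = true) (v : K) :
    Function.Injective (mv1 chevE6 QL α v : (Pos → K) → (Pos → K)) := by
  refine Function.LeftInverse.injective (g := mv1 chevE6 QL α (-v)) fun y => funext fun k => ?_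
  simp only [okAct, Bool.and_eq_true, List.all_eq_true] at hα
  have hnone : ∀ i k' z, tgt chevE6 QL α i = some (k', z) → tgt chevE6 QL α k' = none := by
    intro i k' z hi
    have h := hα.2 i (List.mem_finRange i)
    rw [hi] at h
    simp only [Bool.and_eq_true, Option.isNone_iff_eq_none] at h
    exact h.2.2
  simp only [mv1]
  rw [add_assoc, ← Finset.sum_add_distrib, Finset.sum_eq_zero, add_zero]
  intro i _
  rcases h : tgt chevE6 QL α i with _ | ⟨k', z⟩
  · simp
  · simp only
    rw [Finset.sum_eq_zero, add_zero]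
    · split_ifs <;> ring
    · intro j _
      rcases h' : tgt chevE6 QL α j with _ | ⟨k'', z'⟩
      · rfl
      · simp only
        split_ifs with e
        · exact absurd (hnone j k'' z' h') (by rw [e, h]; simp)
        · rfl

theorem mvs_inj {l : List ℕ} (hl : ∀ α ∈ l, α ∈ LR) (t : ℕ → K) :
    Function.Injective (mvs chevE6 QL l t : (Pos → K) → (Pos → K)) := by
  induction l with
  | nil => exact fun _ _ h => h
  | cons α l ih =>
    exact (mv1_inj (L_spec (hl α List.mem_cons_self)).1 (t α)).comp (ih fun β hβ => hl β (List.mem_cons_of_mem _ hβ))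

theorem X_comm_list {l : List ℕ} (hl : ∀ β ∈ l, β ∈ LR) {α : ℕ} (hok : okComm chevE6 (α :: l) = true) (v : K)
    (t : ℕ → K) : Commute (X α v) (El l t) := by
  simp only [okComm, List.all_eq_true, Bool.and_eq_true, decide_eq_true_eq, Bool.or_eq_true, beq_iff_eq,
    bne_iff_ne, List.isEmpty_iff] at hok
  refine Commute.list_prod_right _ _ fun g hg => ?_
  obtain ⟨β, hβ, rfl⟩ := List.mem_map.1 hg
  obtain ⟨hα, h⟩ := hok α List.mem_cons_self
  show _ = _
  rcases h β (List.mem_cons_of_mem _ hβ) with rfl | ⟨hne, hterms⟩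
  · simp only [Facts.sys_x]
    rw [X, ← factsE6.xg_add, ← factsE6.xg_add, add_comm]
  by_cases hβα : β = α
  · subst hβα
    simp only [Facts.sys_x]
    rw [X, ← factsE6.xg_add, ← factsE6.xg_add, add_comm]
  have := X_comm (K := K) hα (act_lt (hl β hβ)) hβα hne v (t β)
  rw [hterms, List.map_nil, List.prod_nil, mul_one] at this
  simp only [Facts.sys_x]
  exact this.symm

theorem El_mul_neg {l : List ℕ} (hl : ∀ β ∈ l, β ∈ LR) (hok : okComm chevE6 l = true) (t : ℕ → K) :
    El l t * El l (fun α => -t α) = 1 := by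
  induction l with
  | nil => rw [El_nil, El_nil, one_mul]
  | cons α l ih =>
    have hok' : okComm chevE6 l = true := by
      simp only [okComm, List.all_eq_true, Bool.and_eq_true] at hok ⊢
      exact fun r hr => ⟨(hok r (List.mem_cons_of_mem _ hr)).1,
        fun s hs => (hok r (List.mem_cons_of_mem _ hr)).2 s (List.mem_cons_of_mem _ hs)⟩
    have hl' : ∀ β ∈ l, β ∈ LR := fun β hβ => hl β (List.mem_cons_of_mem _ hβ)
    rw [El_cons, El_cons, mul_assoc, ← mul_assoc (El l t), ← (X_comm_list hl' hok (-t α) t).eq, mul_assoc,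
      ih hl' hok', mul_one, X, ← factsE6.xg_add, add_neg_cancel, factsE6.xg_zero]

theorem mvs_mvs_neg {l : List ℕ} (hl : ∀ β ∈ l, β ∈ LR) (hok : okComm chevE6 l = true) (t : ℕ → K)
    (y : Pos → K) : mvs chevE6 QL l t (mvs chevE6 QL l (fun α => -t α) y) = y := by
  refine EqZ.w_inj ?_
  obtain ⟨a, ha⟩ := conj_El hl t (mvs chevE6 QL l (fun α => -t α) y)
  obtain ⟨b, hb⟩ := conj_El hl (fun α => -t α) y
  have hz : ∀ c, MulAut.conj (El l t) (Zg c) = Zg c := fun c => by
    rw [MulAut.conj_apply, (CZ_El hl t c).eq, mul_inv_cancel_right]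
  have h2 : MulAut.conj (El l t) (MulAut.conj (El l fun α => -t α) (w y)) = w y := by
    rw [← MulAut.mul_apply, ← map_mul, El_mul_neg hl hok, map_one, MulAut.one_apply]
  rw [hb, map_mul, hz, ha, mul_assoc, ← Zg_add] at h2
  exact EqZ.symm ⟨a + b, h2.symm⟩

theorem Orbs_LR : (Orbs.take 18).all (fun o => o.all fun α => LR.contains α) = true := by decide +kernel

/-- The parameters killing the neighbours of a position. -/
noncomputable def killT (R : Row) (y : Pos → K) (α : ℕ) : K :=
  match R.adj.find? fun a => decide (a.2.1 = α) with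
  | some a => -(y a.1 / ((a.2.2 : K) * y R.i))
  | none => 0

section Row

variable {supp0 longs : List Pos} {Lo : List (List ℕ)} {R : Row}

theorem row_spec (h : okRow supp0 longs Lo R = true) : R.i ∈ longs ∧ π R.i = R.i ∧
    (∀ o ∈ R.T, o ∈ Lo ∧ o ∈ Orbs) ∧ R.adj.map (fun a => a.2.1) = R.T.flatten ∧ R.T.flatten.Nodup ∧
    (R.adj.map Prod.fst).Nodup ∧ ((R.i :: R.adj.map Prod.fst) ++ R.rest).Perm supp0 ∧ supp0.Nodup ∧
    (∀ a ∈ R.adj, (a.2.2 = 1 ∨ a.2.2 = -1) ∧
      (π a.1, graphE6.img a.2.1, a.2.2 * graphE6.sign a.2.1 * sgn R.i * sgn a.1) ∈ R.adj ∧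
      okPaths chevE6 QL R.T.flatten supp0 a.1 [idPath a.1, onePath R.i a.1 a.2.1 a.2.2] = true ∧
      okPaths chevE6 QL R.T.flatten [R.i] a.1 [onePath R.i a.1 a.2.1 a.2.2] = true) ∧
    okPaths chevE6 QL R.T.flatten supp0 R.i [idPath R.i] = true ∧
    okPaths chevE6 QL R.T.flatten [R.i] R.i [idPath R.i] = true ∧
    okSecs R.i (R.adj.map Prod.fst) Lo R.rest R.sec = true ∧
    (R.low.flatten = R.T.flatten.filter fun α => R.low.flatten.contains α) ∧ (∀ o ∈ R.low, o ∈ R.T) ∧
    (∀ m ∈ longs, m < R.i → okPaths chevE6 QL R.low.flatten [R.i] m [] = true) ∧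
    okComm chevE6 R.T.flatten = true := by
  simp only [okRow, Bool.and_eq_true, List.all_eq_true, decide_eq_true_eq, Bool.or_eq_true, Bool.not_eq_true',
    decide_eq_false_iff_not] at h
  obtain ⟨⟨⟨⟨⟨⟨⟨⟨⟨⟨⟨⟨⟨⟨⟨h1, h2⟩, h3⟩, h4⟩, h5⟩, h6⟩, h7⟩, h8⟩, h9⟩, h10⟩, h11⟩, h12⟩, h13⟩, h14⟩, h15⟩, h16⟩ := h
  refine ⟨h1, h2, h3, h4, h5, h6, h7, h8, fun a ha => ?_, h10, h11, h12, h13, h14,
    fun m hm hlt => (h15 m hm).resolve_left (not_not.2 hlt), h16⟩
  obtain ⟨⟨⟨a1, a2⟩, a3⟩, a4⟩ := h9 a ha
  exact ⟨a1, a2, a3, a4⟩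

theorem adj_unique (h : okRow supp0 longs Lo R = true) {a a' : Adj} (ha : a ∈ R.adj) (ha' : a' ∈ R.adj)
    (he : a.2.1 = a'.2.1) : a = a' := by
  obtain ⟨-, -, -, h4, h5, -⟩ := row_spec h
  rw [← h4] at h5
  exact List.inj_on_of_nodup_map h5 ha ha' he

theorem killT_eq (h : okRow supp0 longs Lo R = true) (y : Pos → K) {a : Adj} (ha : a ∈ R.adj) :
    killT R y a.2.1 = -(y a.1 / ((a.2.2 : K) * y R.i)) := by
  rcases hf : R.adj.find? fun b => decide (b.2.1 = a.2.1) with _ | b
  · exact absurd (List.find?_eq_none.1 hf a ha) (by simp)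
  · have hb := List.find?_some hf
    simp only [decide_eq_true_eq] at hb
    rw [killT, hf, adj_unique h (List.mem_of_find?_eq_some hf) ha hb]

theorem adj_of_root (h : okRow supp0 longs Lo R = true) {α : ℕ} (hα : α ∈ R.T.flatten) :
    ∃ a ∈ R.adj, a.2.1 = α := by
  rw [← (row_spec h).2.2.2.1] at hα
  exact List.mem_map.1 hα

theorem unit_ne {z : ℤ} (h : z = 1 ∨ z = -1) : (z : K) ≠ 0 := by
  rcases h with rfl | rfl <;> simp

theorem unit_mul {z : ℤ} (h : z = 1 ∨ z = -1) : (z : K) * z = 1 := by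
  rcases h with rfl | rfl <;> simp

include S in
theorem killT_compat (h : okRow supp0 longs Lo R = true) {y : Pos → K} (hy : Fx q supp0 y) {o : List ℕ}
    (ho : o ∈ R.T) : Compat q (killT R y) o := by
  intro α hα
  obtain ⟨-, hi, -, -, -, -, -, -, hadj, -⟩ := row_spec h
  obtain ⟨a, ha, rfl⟩ := adj_of_root h (List.mem_flatten.2 ⟨o, ho, hα⟩)
  obtain ⟨hz, hmem, -, -⟩ := hadj a ha
  have hc : y R.i ^ q = (sgn R.i : K) * y R.i := by
    have h1 := hy.at R.i
    rw [hi] at h1
    calc y R.i ^ q = (sgn R.i : K) * ((sgn R.i : K) * y R.i ^ q) := by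
          rw [← mul_assoc, unit_mul (π_spec R.i).2.2.1, one_mul]
      _ = _ := by rw [← h1]
  have hs := (π_spec a.1).2.2.1
  have hsi := (π_spec R.i).2.2.1
  have hα' : graphE6.sign a.2.1 = 1 ∨ graphE6.sign a.2.1 = -1 := by
    by_cases hlt : a.2.1 < 72
    · have : ∀ r < 72, graphE6.sign r = 1 ∨ graphE6.sign r = -1 := by decide +kernel
      exact this _ hlt
    · left
      rw [RMap.sign, List.getD_eq_default]
      have : graphE6.sg.length = 72 := by decide +kernel
      omega
  have e := killT_eq h y hmem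
  simp only at e
  rw [e, killT_eq h y ha, hy.at, neg_eq_neg_one_mul, neg_eq_neg_one_mul (y a.1 / _), mul_pow, div_pow, mul_pow, hc,
    pow_q_int S, show ((-1 : K)) ^ q = -1 by simpa using pow_q_int S (-1 : ℤ)]
  push_cast
  rcases hz with hz | hz <;> rcases hs with hs | hs <;> rcases hsi with hsi | hsi <;>
    rcases hα' with hα' | hα' <;> simp [hz, hs, hsi, hα', div_neg, neg_div]

/-- Killing the neighbours. -/
theorem kill (h : okRow supp0 longs Lo R = true) {y : Pos → K} (hy : ∀ m, m ∉ supp0 → y m = 0) (hc : y R.i ≠ 0) :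
    mvs chevE6 QL R.T.flatten (killT R y) y R.i = y R.i ∧
      ∀ a ∈ R.adj, mvs chevE6 QL R.T.flatten (killT R y) y a.1 = 0 := by
  obtain ⟨-, -, -, -, -, -, -, hnd, hadj, hii, -⟩ := row_spec h
  refine ⟨?_, fun a ha => ?_⟩
  · rw [mvs_at hii _ hnd y hy]
    simp [pval, idPath]
  · obtain ⟨hz, -, hp, -⟩ := hadj a ha
    rw [mvs_at hp _ hnd y hy]
    simp only [pval, idPath, onePath, List.map_cons, List.map_nil, List.prod_cons, List.prod_nil, List.sum_cons,
      List.sum_nil, Int.cast_one, one_mul, mul_one, add_zero, killT_eq h y ha]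
    have := unit_ne (K := K) hz
    field_simp
    ring

theorem single_supp (i : Pos) (c : K) : ∀ m, m ∉ [i] → (Pi.single i c : Pos → K) m = 0 := fun m hm =>
  Pi.single_eq_of_ne (fun e => hm (by simp [e])) _

/-- The neighbours of a translated single vector. -/
theorem trans_at (h : okRow supp0 longs Lo R = true) (t : ℕ → K) (c : K) :
    mvs chevE6 QL R.T.flatten t (Pi.single R.i c) R.i = c ∧
      ∀ a ∈ R.adj, mvs chevE6 QL R.T.flatten t (Pi.single R.i c) a.1 = (a.2.2 : K) * t a.2.1 * c := by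
  obtain ⟨-, -, -, -, -, -, -, -, hadj, -, hii, -⟩ := row_spec h
  refine ⟨?_, fun a ha => ?_⟩
  · rw [mvs_at hii _ (List.nodup_singleton _) _ (single_supp _ _)]
    simp [pval, idPath]
  · rw [mvs_at (hadj a ha).2.2.2 _ (List.nodup_singleton _) _ (single_supp _ _)]
    simp [pval, onePath]

end Row

/-- The last case: a set of candidates for a nonzero value of an additive change. -/
theorem exists_change {a b : K} (ha : a ≠ 0) (hq : 2 ≤ q) (hK : Nat.card K = q ^ 2) : ∃ t : K, a * t + b * t ^ q ≠ 0 := by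
  classical
  by_contra h
  simp only [not_exists, not_not] at h
  let P : Polynomial K := Polynomial.C a * Polynomial.X + Polynomial.C b * Polynomial.X ^ q
  have hP0 : P ≠ 0 := fun h0 => by
    have := congrArg (fun p : Polynomial K => p.coeff 1) h0
    simp [P, Polynomial.coeff_X_pow, show (1 : ℕ) ≠ q by omega] at this
    exact ha this
  have hdeg : P.natDegree ≤ q := by
    refine Polynomial.natDegree_add_le_of_degree_le ((Polynomial.natDegree_C_mul_le _ _).trans ?_)
      ((Polynomial.natDegree_C_mul_le _ _).trans ?_)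
    · rw [Polynomial.natDegree_X]; omega
    · rw [Polynomial.natDegree_X_pow]
  refine hP0 (Polynomial.eq_zero_of_natDegree_lt_card_of_eval_eq_zero P (f := id) Function.injective_id
    (fun x => ?_) ?_)
  · simpa [P] using h x
  · rw [← Nat.card_eq_fintype_card, hK]
    have : q < q ^ 2 := by rw [pow_two]; nlinarith
    omega

end Cfsg.Agent.Small.TwE6Deg
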