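import Cfsg.Agent.Lib.Small.MinusculeDegree.Table

/-!
Several root elements acting on a module given by a table: the value at a position as a sum over paths.
-/

set_option autoImplicit false
set_option linter.unusedSectionVars false

namespace Cfsg.Agent.Small.TwE6Deg

open Cfsg.Lie Finset
open Cfsg.Agent.Small.MinusculeDegree (tgt)

variable (D : ChevalleyDatum) (U : List ℕ) {K : Type*} [Field K]

/-- The action of one root element. -/
def mv1 (α : ℕ) (v : K) (y : Fin U.length → K) : Fin U.length → K :=
  fun k => y k + ∑ i, match tgt D U α i with
    | some (k', z) => if k' = k then (z : K) * v * y i else 0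
    | none => 0

/-- The action of a product of root elements. -/
def mvs (l : List ℕ) (t : ℕ → K) (y : Fin U.length → K) : Fin U.length → K :=
  l.foldr (fun α y => mv1 D U α (t α) y) y

/-- A path: source, target, sign and roots. -/
abbrev Path := Fin U.length × Fin U.length × ℤ × List ℕ

/-- The continuation of a path by a root. -/
def step (α : ℕ) (p : Path U) : Option (Path U) :=
  (tgt D U α p.2.1).map fun g => (p.1, g.1, p.2.2.1 * g.2, α :: p.2.2.2)

/-- All paths from a set of positions. -/
def paths (l : List ℕ) (supp : List (Fin U.length)) : List (Path U) :=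
  l.foldr (fun α ps => ps ++ ps.filterMap (step D U α)) (supp.map fun i => (i, i, 1, []))

/-- The paths ending at a position. -/
def pathsTo (l : List ℕ) (supp : List (Fin U.length)) (k : Fin U.length) : List (Path U) :=
  (paths D U l supp).filter fun p => decide (p.2.1 = k)

/-- The paths ending at a position, up to order. -/
def okPaths (l : List ℕ) (supp : List (Fin U.length)) (k : Fin U.length) (ps : List (Path U)) : Bool :=
  (pathsTo D U l supp k).isPerm ps

variable {D U}

/-- The value of a path. -/
def pval (t : ℕ → K) (y : Fin U.length → K) (p : Path U) : K :=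
  (p.2.2.1 : K) * (p.2.2.2.map t).prod * y p.1

/-- The value of a list of paths at a position. -/
def psum (t : ℕ → K) (y : Fin U.length → K) (ps : List (Path U)) (k : Fin U.length) : K :=
  ((ps.filter fun p => decide (p.2.1 = k)).map (pval t y)).sum

theorem psum_append (t : ℕ → K) (y : Fin U.length → K) (ps ps' : List (Path U)) (k : Fin U.length) :
    psum t y (ps ++ ps') k = psum t y ps k + psum t y ps' k := by
  simp [psum]

theorem psum_cons (t : ℕ → K) (y : Fin U.length → K) (p : Path U) (ps : List (Path U)) (k : Fin U.length) :
    psum t y (p :: ps) k = (if p.2.1 = k then pval t y p else 0) + psum t y ps k := by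
  by_cases h : p.2.1 = k <;> simp [psum, h]

theorem psum_step (t : ℕ → K) (y : Fin U.length → K) (α : ℕ) (ps : List (Path U)) (k : Fin U.length) :
    psum t y (ps.filterMap (step D U α)) k = ∑ i, match tgt D U α i with
      | some (k', z) => if k' = k then (z : K) * t α * psum t y ps i else 0
      | none => 0 := by
  induction ps with
  | nil =>
    refine Eq.trans (by simp [psum]) (Finset.sum_eq_zero fun i _ => ?_).symm
    rcases tgt D U α i with _ | ⟨k', z⟩ <;> simp [psum]
  | cons p ps ih =>
    have hsplit : (∑ i, match tgt D U α i with
        | some (k', z) => if k' = k then (z : K) * t α * psum t y (p :: ps) i else 0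
        | none => 0) = (∑ i, match tgt D U α i with
        | some (k', z) => if k' = k then (z : K) * t α * (if p.2.1 = i then pval t y p else 0) else 0
        | none => 0) + ∑ i, match tgt D U α i with
        | some (k', z) => if k' = k then (z : K) * t α * psum t y ps i else 0
        | none => 0 := by
      rw [← Finset.sum_add_distrib]
      refine Finset.sum_congr rfl fun i _ => ?_
      rcases tgt D U α i with _ | ⟨k', z⟩
      · simp
      · simp only [psum_cons]
        split_ifs <;> ring
    rw [hsplit, ← ih, Finset.sum_eq_single p.2.1 (fun i _ hi => ?_) (fun h => absurd (Finset.mem_univ _) h)]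
    · cases hg : tgt D U α p.2.1 with
      | none => simp [step, hg]
      | some g =>
        obtain ⟨k', z⟩ := g
        rw [List.filterMap_cons, show step D U α p = some (p.1, k', p.2.2.1 * z, α :: p.2.2.2) from by
          simp [step, hg]]
        simp only [psum_cons, if_true]
        congr 1
        split_ifs
        · simp only [pval, List.map_cons, List.prod_cons, Int.cast_mul]; ring
        · rfl
    · rcases tgt D U α i with _ | ⟨k', z⟩
      · rfl
      · simp [Ne.symm hi]

theorem mvs_eq_psum (l : List ℕ) (t : ℕ → K) {supp : List (Fin U.length)} (hnd : supp.Nodup)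
    (y : Fin U.length → K) (hy : ∀ i, i ∉ supp → y i = 0) (k : Fin U.length) :
    mvs D U l t y k = psum t y (paths D U l supp) k := by
  induction l generalizing k with
  | nil =>
    simp only [mvs, List.foldr_nil, paths, psum, List.filter_map, List.map_map]
    have e : ((supp.filter ((fun p : Path U => decide (p.2.1 = k)) ∘ fun i => (i, i, (1 : ℤ), []))).map
        (pval t y ∘ fun i => (i, i, (1 : ℤ), []))) = (supp.filter fun i => decide (i = k)).map y := by
      refine List.map_congr_left fun i _ => ?_
      simp [pval]
    rw [e]
    by_cases hk : k ∈ supp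
    · rw [show (supp.filter fun i => decide (i = k)) = [k] from ?_]
      · simp
      · rw [List.filter_eq, List.count_eq_one_of_mem hnd hk]; rfl
    · rw [hy k hk, show (supp.filter fun i => decide (i = k)) = [] from ?_]
      · simp
      · rw [List.filter_eq, List.count_eq_zero_of_not_mem hk]; rfl
  | cons α l ih =>
    show mv1 D U α (t α) (mvs D U l t y) k = psum t y (paths D U l supp ++ _) k
    rw [psum_append, psum_step, mv1, ih]
    congr 1
    refine Finset.sum_congr rfl fun i _ => ?_
    rcases tgt D U α i with _ | ⟨k', z⟩
    · rfl
    · simp only [ih]; rfl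

/-- The value at a position, from a checked list of paths. -/
theorem mvs_at {l : List ℕ} {supp : List (Fin U.length)} {k : Fin U.length} {ps : List (Path U)}
    (hok : okPaths D U l supp k ps = true) (t : ℕ → K) (hnd : supp.Nodup) (y : Fin U.length → K)
    (hy : ∀ i, i ∉ supp → y i = 0) : mvs D U l t y k = (ps.map (pval t y)).sum := by
  rw [mvs_eq_psum l t hnd y hy k, psum]
  exact ((List.isPerm_iff.1 hok).map _).sum_eq

theorem mv1_linear (α : ℕ) (v : K) (y y' : Fin U.length → K) (a : K) :
    mv1 D U α v (y + a • y') = mv1 D U α v y + a • mv1 D U α v y' := by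
  funext k
  simp only [mv1, Pi.add_apply, Pi.smul_apply, smul_eq_mul]
  rw [mul_add, Finset.mul_sum, add_add_add_comm, ← Finset.sum_add_distrib]
  congr 1
  refine Finset.sum_congr rfl fun i _ => ?_
  rcases tgt D U α i with _ | ⟨k', z⟩
  · simp
  · simp only; split_ifs <;> ring

end Cfsg.Agent.Small.TwE6Deg
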