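import Cfsg.Agent.Lib.Small.TwE6Deg.Conf

/-!
The weights of the radical on the vectors fixed by its centre.
-/

set_option autoImplicit false
set_option linter.unusedSectionVars false

namespace Cfsg.Agent.Small.TwE6Deg

open Module Finset
open Cfsg.Agent.Small.D4Degree (wp wm card_ne mul_wp wp_idem sum_wp wm_eq wm_move trace_eq_sum op_eq_zero_apply
  op_eq_sum)

namespace Heis

variable {G : Type*} [Group G] [Finite G] {F Y : Type*} [AddCommGroup F] [Fintype F] [AddCommGroup Y] [Fintype Y]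
  (X : Heis G F Y) {M : Type*} [AddCommGroup M] [Module ℂ M] [FiniteDimensional ℂ M] (ρ : G →* Module.End ℂ M)
  (ψ : AddChar F ℂ)

/-- The projection on the fixed vectors of the centre. -/
noncomputable def P1 : Module.End ℂ M := X.P ρ 1

/-- The operators of the quotient. -/
noncomputable def op (y : Y) : Module.End ℂ M := ρ (X.w y) * X.P1 ρ

theorem Z_P1 (f : F) : ρ (X.Z f) * X.P1 ρ = X.P1 ρ := by
  rw [P1, X.Z_P, AddChar.one_apply, one_smul]

theorem op_add (x y : Y) : X.op ρ (x + y) = X.op ρ x * X.op ρ y := by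
  obtain ⟨f, hf⟩ := X.w_mul x y
  have hP := X.P_idem ρ (1 : AddChar F ℂ)
  rw [op, op, op, mul_assoc (ρ (X.w x)), ← mul_assoc (X.P1 ρ) (ρ (X.w y)), P1, X.P_w, mul_assoc (ρ (X.w y)), hP,
    ← mul_assoc, ← ρ.map_mul, hf, ρ.map_mul, mul_assoc, X.Z_P, AddChar.one_apply, one_smul]

/-- The weight attached to an element of the quotient. -/
noncomputable def chi (η : Y) : AddChar Y ℂ where
  toFun y := ψ (X.B η y)
  map_zero_eq_one' := by
    have h : X.B η 0 = 0 := by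
      have h := X.B_add_right η 0 0
      rwa [add_zero, left_eq_add] at h
    rw [h, AddChar.map_zero_eq_one]
  map_add_eq_mul' a b := by rw [X.B_add_right, AddChar.map_add_eq_mul]

theorem chi_apply (η y : Y) : X.chi ψ η y = ψ (X.B η y) := rfl

theorem chi_bijective (hψ : ψ ≠ 1) : Function.Bijective (X.chi ψ) := by
  refine (Fintype.bijective_iff_injective_and_card _).2 ⟨fun a b hab => ?_, AddChar.card_eq.symm⟩
  by_contra hne
  obtain ⟨f0, hf0⟩ := AddChar.ne_one_iff.1 hψ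
  obtain ⟨x, hx⟩ := X.pair (a - b) (sub_ne_zero.2 hne) f0
  have h0 : X.B x (a - b) = f0 := X.B_eq hx
  have h1 : X.B a x = X.B b x + X.B (a - b) x := by
    rw [← X.B_add_left, add_sub_cancel]
  have h2 := DFunLike.congr_fun hab x
  rw [chi_apply, chi_apply, h1, AddChar.map_add_eq_mul, X.B_antisymm x (a - b), h0] at h2
  have h3 : ψ (-f0) = 1 := by
    refine mul_left_cancel₀ (chi_ne_zero ψ (X.B b x)) ?_
    rw [h2, mul_one]
  refine hf0 ?_
  have h4 := AddChar.map_add_eq_mul ψ f0 (-f0)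
  rwa [add_neg_cancel, AddChar.map_zero_eq_one, h3, mul_one, eq_comm] at h4

/-- The multiplicity of a weight. -/
noncomputable def W (η : Y) : ℕ := wm (X.op ρ) (X.chi ψ η)

/-- The projection on a weight. -/
noncomputable def E (η : Y) : Module.End ℂ M := wp (X.op ρ) (X.chi ψ η)

theorem E_idem (η : Y) : X.E ρ ψ η * X.E ρ ψ η = X.E ρ ψ η := wp_idem (X.op_add ρ) _

theorem trace_E (η : Y) : LinearMap.trace ℂ M (X.E ρ ψ η) = X.W ρ ψ η := by
  rw [W, wm_eq (X.op_add ρ), E, wp, map_smul, map_sum, smul_eq_mul]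
  simp only [map_smul, smul_eq_mul]

theorem sum_E (hψ : ψ ≠ 1) : ∑ η, X.E ρ ψ η = X.P1 ρ := by
  refine (Fintype.sum_bijective _ (X.chi_bijective ψ hψ) _ (fun χ => wp (X.op ρ) χ) fun η => rfl).trans ?_
  rw [sum_wp (X.op_add ρ), op, X.w_zero, ρ.map_one, one_mul]

theorem trace_P1 (hψ : ψ ≠ 1) : LinearMap.trace ℂ M (X.P1 ρ) = ((∑ η, X.W ρ ψ η : ℕ) : ℂ) := by
  rw [← X.sum_E ρ ψ hψ, map_sum, Nat.cast_sum]
  exact Finset.sum_congr rfl fun η _ => X.trace_E ρ ψ η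

/-- The trace of a radical element on the fixed vectors of the centre. -/
theorem trace_op (hψ : ψ ≠ 1) (y : Y) :
    LinearMap.trace ℂ M (X.op ρ y) = ∑ η, ψ (X.B η y) * (X.W ρ ψ η : ℂ) := by
  rw [trace_eq_sum (X.op_add ρ)]
  exact (Fintype.sum_bijective _ (X.chi_bijective ψ hψ) _ _ fun η => rfl).symm

variable {g : G} {φ : Y → Y}

theorem op_conj (h : X.Moves g φ) (y : Y) : ρ g * X.op ρ y = X.op ρ (φ y) * ρ g := by
  obtain ⟨hz, hw⟩ := h
  obtain ⟨f, hf⟩ := hw y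
  have e : g * X.w y = X.w (φ y) * X.Z f * g := by rw [← hf, inv_mul_cancel_right]
  rw [op, ← mul_assoc, ← ρ.map_mul, e, ρ.map_mul, mul_assoc, P1, (X.P_comm ρ hz _).eq, ← mul_assoc,
    ρ.map_mul, mul_assoc (ρ (X.w _)), X.Z_P, AddChar.one_apply, one_smul, op, P1]

theorem E_conj (h : X.Moves g φ) (η : Y) : ρ g * X.E ρ ψ η = X.E ρ ψ (φ η) * ρ g := by
  simp only [E, wp, mul_smul_comm, smul_mul_assoc, Finset.mul_sum, Finset.sum_mul]
  congr 1
  refine Fintype.sum_equiv (Equiv.ofBijective φ (Finite.injective_iff_bijective.1 (X.moves_inj h))) _ _ fun x => ?_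
  rw [Equiv.ofBijective_apply, X.op_conj ρ h, chi_apply, chi_apply]
  congr 1
  rw [← X.moves_B h η (-x)]
  congr 2
  have h0 := X.moves_add h x (-x)
  have hz0 : φ 0 = 0 := by
    have h1 := X.moves_add h 0 0
    rwa [add_zero, left_eq_add] at h1
  rw [add_neg_cancel, hz0] at h0
  exact (neg_eq_of_add_eq_zero_right h0.symm).symm

theorem inv_mul_E (h : X.Moves g φ) (η : Y) : X.E ρ ψ (φ η) = ρ g * X.E ρ ψ η * ρ g⁻¹ := by
  rw [X.E_conj ρ ψ h, mul_assoc, ← ρ.map_mul, mul_inv_cancel, ρ.map_one, mul_one]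

theorem W_move (h : X.Moves g φ) (η : Y) : X.W ρ ψ (φ η) = X.W ρ ψ η := by
  apply Nat.cast_injective (R := ℂ)
  rw [← X.trace_E, ← X.trace_E, X.inv_mul_E ρ ψ h, LinearMap.trace_mul_comm, ← mul_assoc, ← ρ.map_mul,
    inv_mul_cancel, ρ.map_one, one_mul]

theorem E_orth (hψ : ψ ≠ 1) {η η' : Y} (hne : η ≠ η') : X.E ρ ψ η * X.E ρ ψ η' = 0 := by
  obtain ⟨x, hx⟩ := DFunLike.ne_iff.1 (fun e => hne ((X.chi_bijective ψ hψ).1 e))
  have h1 : X.op ρ x * (X.E ρ ψ η * X.E ρ ψ η') = X.chi ψ η x • (X.E ρ ψ η * X.E ρ ψ η') := by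
    rw [← mul_assoc, E, mul_wp (X.op_add ρ), smul_mul_assoc]
  have hc : ∀ a : Y, Commute (X.op ρ x) (X.op ρ a) := fun a => by
    rw [Commute, SemiconjBy, ← X.op_add, ← X.op_add, add_comm]
  have hcE : Commute (X.op ρ x) (X.E ρ ψ η) :=
    Commute.smul_right (Commute.sum_right _ _ _ fun a _ => Commute.smul_right (hc a) _) _
  have h2 : X.op ρ x * (X.E ρ ψ η * X.E ρ ψ η') = X.chi ψ η' x • (X.E ρ ψ η * X.E ρ ψ η') := by
    rw [← mul_assoc, hcE.eq, mul_assoc, show X.op ρ x * X.E ρ ψ η' = X.chi ψ η' x • X.E ρ ψ η' from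
      mul_wp (X.op_add ρ) _ _, mul_smul_comm]
  by_contra h
  exact hx (smul_left_injective ℂ h (h1.symm.trans h2))

/-- A moved weight contributes nothing. -/
theorem trace_moved (hψ : ψ ≠ 1) (h : X.Moves g φ) {η : Y} (hη : φ η ≠ η) :
    LinearMap.trace ℂ M (ρ g * X.E ρ ψ η) = 0 := by
  rw [← X.E_idem ρ ψ η, ← mul_assoc, X.E_conj ρ ψ h, LinearMap.trace_mul_comm, ← mul_assoc,
    X.E_orth ρ ψ hψ (Ne.symm hη), zero_mul, map_zero]

/-- A stabiliser acts on a weight of multiplicity one by a scalar. -/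
theorem scalar (h : X.Moves g φ) {η : Y} (hη : φ η = η) (hW : X.W ρ ψ η = 1) :
    ∃ c : ℂ, ρ g * X.E ρ ψ η = c • X.E ρ ψ η := by
  have hcomm : ρ g * X.E ρ ψ η = X.E ρ ψ η * ρ g := by rw [X.E_conj ρ ψ h, hη]
  have hr : finrank ℂ (LinearMap.range (X.E ρ ψ η)) = 1 := hW
  obtain ⟨⟨v, hv⟩, hv0, hspan⟩ := finrank_eq_one_iff'.1 hr
  obtain ⟨v', rfl⟩ := hv
  obtain ⟨c, hc⟩ := hspan ⟨X.E ρ ψ η (ρ g v'), ⟨_, rfl⟩⟩
  have hc' : c • X.E ρ ψ η v' = X.E ρ ψ η (ρ g v') := congrArg Subtype.val hc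
  refine ⟨c, LinearMap.ext fun u => ?_⟩
  obtain ⟨a, ha⟩ := hspan ⟨X.E ρ ψ η u, ⟨u, rfl⟩⟩
  have ha' : a • X.E ρ ψ η v' = X.E ρ ψ η u := congrArg Subtype.val ha
  show ρ g (X.E ρ ψ η u) = c • X.E ρ ψ η u
  rw [← ha', map_smul, show ρ g (X.E ρ ψ η v') = X.E ρ ψ η (ρ g v') from LinearMap.congr_fun hcomm v', ← hc',
    smul_comm]

/-- A commutator of stabilisers fixes a weight of multiplicity one. -/
theorem comm_fixes {g' : G} {φ' : Y → Y} (h : X.Moves g φ) (h' : X.Moves g' φ') {η : Y} (hη : φ η = η)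
    (hη' : φ' η = η) (hW : X.W ρ ψ η = 1) : ρ (g * g' * g⁻¹ * g'⁻¹) * X.E ρ ψ η = X.E ρ ψ η := by
  obtain ⟨a, ha⟩ := X.scalar ρ ψ h hη hW
  obtain ⟨b, hb⟩ := X.scalar ρ ψ h' hη' hW
  have e : ρ g * ρ g' * X.E ρ ψ η = ρ g' * ρ g * X.E ρ ψ η := by
    rw [mul_assoc, mul_assoc, ha, hb, mul_smul_comm, mul_smul_comm, ha, hb, smul_smul, smul_smul, mul_comm]
  have hcg' : ρ g' * X.E ρ ψ η = X.E ρ ψ η * ρ g' := by rw [X.E_conj ρ ψ h', hη']
  have hcg : ρ g * X.E ρ ψ η = X.E ρ ψ η * ρ g := by rw [X.E_conj ρ ψ h, hη]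
  calc ρ (g * g' * g⁻¹ * g'⁻¹) * X.E ρ ψ η
      = ρ (g * g') * ρ (g' * g)⁻¹ * X.E ρ ψ η := by
        rw [← ρ.map_mul, mul_inv_rev, ← mul_assoc]
    _ = ρ (g * g') * X.E ρ ψ η * ρ (g' * g)⁻¹ := by
        have hc : Commute (ρ (g' * g)) (X.E ρ ψ η) := by
          rw [ρ.map_mul]; exact Commute.mul_left hcg' hcg
        have hc' : ρ (g' * g)⁻¹ * X.E ρ ψ η = X.E ρ ψ η * ρ (g' * g)⁻¹ := by
          calc ρ (g' * g)⁻¹ * X.E ρ ψ η
              = ρ (g' * g)⁻¹ * (X.E ρ ψ η * ρ (g' * g)) * ρ (g' * g)⁻¹ := by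
                simp only [mul_assoc]; rw [← ρ.map_mul, mul_inv_cancel, ρ.map_one, mul_one]
            _ = _ := by rw [← hc.eq, ← mul_assoc (ρ (g' * g)⁻¹), ← ρ.map_mul, inv_mul_cancel, ρ.map_one, one_mul]
        rw [mul_assoc, hc', ← mul_assoc]
    _ = ρ (g' * g) * X.E ρ ψ η * ρ (g' * g)⁻¹ := by rw [ρ.map_mul, ρ.map_mul, e]
    _ = _ := by
        rw [ρ.map_mul, mul_assoc (ρ g'), hcg, ← mul_assoc, hcg', mul_assoc (X.E ρ ψ η), ← ρ.map_mul,
          mul_assoc (X.E ρ ψ η), ← ρ.map_mul, mul_inv_cancel, ρ.map_one, mul_one]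

/-- The sum over the characters of the centre. -/
theorem sum_P : ∑ χ : AddChar F ℂ, X.P ρ χ = 1 := by
  rw [show (∑ χ : AddChar F ℂ, X.P ρ χ) = ∑ χ, wp (X.opZ ρ) χ from rfl, sum_wp (X.opZ_add ρ), opZ, X.z_zero,
    ρ.map_one]

theorem trace_split (T : Module.End ℂ M) :
    LinearMap.trace ℂ M T = LinearMap.trace ℂ M (T * X.P1 ρ) +
      ∑ χ ∈ (Finset.univ.erase (1 : AddChar F ℂ)), LinearMap.trace ℂ M (T * X.P ρ χ) := by
  classical
  rw [P1, Finset.add_sum_erase _ (fun χ => LinearMap.trace ℂ M (T * X.P ρ χ)) (Finset.mem_univ _), ← map_sum,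
    ← Finset.mul_sum, X.sum_P ρ, mul_one]

end Heis

end Cfsg.Agent.Small.TwE6Deg
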