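import Cfsg.Agent.Lib.Small.TwE6Deg.Orbit
import Cfsg.Agent.Lib.Small.TwE6Deg.Space

/-!
The radical of the parabolic of the highest root of ²E₆(q) as an extension of the fixed vectors by the fixed field.
-/

set_option autoImplicit false
set_option maxRecDepth 4000
set_option linter.unusedSectionVars false

namespace Cfsg.Agent.Small.TwE6Deg

open Cfsg.Lie Cfsg.Agent.Lie Finset
open Cfsg.Agent.Lie.E6 (Setup)
open scoped MatrixGroups

variable {K : Type*} [Field K] [Fintype K] {q : ℕ} (S : Setup K q)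

/-- The fixed field. -/
abbrev Fq : Subfield K := RingHom.eqLocusField S.T.fr (RingHom.id K)

theorem fq_pow (x : Fq S) : (x : K) ^ q = x := by
  have h : S.T.fr (x : K) = x := x.2
  rwa [S.hfr] at h

theorem mem_fq {x : K} (h : x ^ q = x) : x ∈ Fq S := by
  show S.T.fr x = x
  rw [S.hfr, h]

theorem card_fq [Fintype (Fq S)] : Fintype.card (Fq S) = q := by
  refine Eq.trans ?_ (card_pow_eq_self (q := q) (F := K) S.hq S.hK)
  rw [← Nat.card_eq_fintype_card]
  exact Nat.card_congr
    ⟨fun x => ⟨x.1, fq_pow S x⟩, fun x => ⟨x.1, mem_fq S x.2⟩, fun _ => rfl, fun _ => rfl⟩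

include S in
theorem sigY_add (y y' : Pos → K) : sigY q (y + y') = sigY q y + sigY q y' := by
  funext j
  simp only [sigY, Pi.add_apply, pow_q_add S, mul_add]

include S in
theorem sigY_smul {c : K} (hc : c ^ q = c) (y : Pos → K) : sigY q (c • y) = c • sigY q y := by
  funext j
  simp only [sigY, Pi.smul_apply, smul_eq_mul, mul_pow, hc]
  ring

/-- The fixed vectors. -/
def YS : AddSubgroup (Pos → K) where
  carrier := {y | sigY q y = y}
  add_mem' {a b} ha hb := by
    show sigY q (a + b) = a + b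
    rw [sigY_add S, show sigY q a = a from ha, show sigY q b = b from hb]
  zero_mem' := by
    funext j
    simp [sigY, zero_pow (show q ≠ 0 by have := S.hq; omega)]
  neg_mem' {a} ha := by
    funext j
    show (sgn (π j) : K) * (-a (π j)) ^ q = -a j
    rw [← S.hfr, map_neg, S.hfr, mul_neg]
    exact congrArg Neg.neg (congrFun (ha : sigY q a = a) j)

theorem mem_YS {y : Pos → K} : y ∈ YS S ↔ sigY q y = y := Iff.rfl

theorem YS_at (y : YS S) (i : Pos) : (y : Pos → K) (π i) = (sgn i : K) * (y : Pos → K) i ^ q := by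
  have h1 := congrFun ((mem_YS S).1 y.2) (π i)
  rw [sigY, (π_spec i).2.1] at h1
  exact h1.symm

theorem w_eq_El (y : Pos → K) : w y = El QL (coords y 0) := by
  rw [w, El, CommSys.prodOver]
  have h : QL = (List.finRange QL.length).map fun i => QL[i.val] := List.ext_getElem (by simp) (by intros; simp)
  conv_rhs => arg 1; rw [h]
  rw [List.map_map]
  congr 1

include S in
theorem w_mem {y : Pos → K} (hy : sigY q y = y) : w y ∈ twistedE6 K q := by
  rw [w_eq_El, QL_orbs]
  have hos : ∀ o ∈ ([[70], [69], [66, 68], [55, 67], [65], [54, 64], [63], [52, 62], [53], [49, 61], [51],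
      [48, 50], [47], [46]] : List (List ℕ)), o ∈ Orbs := by decide
  refine El_mem S hos fun o ho r hr => ?_
  have hrQ : r ∈ QL := by rw [QL_orbs]; exact List.mem_flatten.2 ⟨o, ho, hr⟩
  obtain ⟨i, hi, rfl⟩ := List.mem_iff_getElem.1 hrQ
  have e : (⟨i, hi⟩ : Pos).val = i := rfl
  rw [show graphE6.img QL[i] = QL[(π ⟨i, hi⟩).val] from (π_spec ⟨i, hi⟩).1, coords_Q]
  rw [show QL[i] = QL[(⟨i, hi⟩ : Pos).val] from rfl, coords_Q]
  exact YS_at S ⟨y, hy⟩ ⟨i, hi⟩

include S in
theorem Zg_mem {c : K} (hc : c ^ q = c) : Zg c ∈ twistedE6 K q := by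
  have h := El_orb S (o := [71]) (by decide) (t := fun _ => c) (fun r hr => by
    obtain rfl := List.mem_singleton.1 hr
    rw [show graphE6.sign 71 = 1 by decide +kernel, Int.cast_one, one_mul, hc])
  rwa [El_cons, El_nil, mul_one] at h

include S in
theorem sig_Zg (c : K) : S.T.sig (Zg c) = Zg (c ^ q) := by
  rw [Zg, sig_X S (by decide : (71 : ℕ) < chevE6.nroots) (by decide +kernel),
    show graphE6.img 71 = 71 by decide +kernel, show graphE6.sign 71 = 1 by decide +kernel, Int.cast_one, one_mul]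

include S in
theorem Zg_fix {c : K} (h : Zg c ∈ twistedE6 K q) : c ^ q = c := by
  have h1 : S.T.sig (Zg c) = Zg c := (S.le_fix h).2
  rw [sig_Zg S] at h1
  exact factsE6.xg_inj (by decide : (71 : ℕ) < chevE6.nroots) h1

theorem w_mem_group (y : Pos → K) : w y ∈ chevE6.group K :=
  Subgroup.list_prod_mem _ fun g hg => by
    obtain ⟨j, -, rfl⟩ := List.mem_map.1 hg
    exact factsE6.xg_mem_group _ _

include S in
/-- Coordinates of an element of the twisted group are fixed. -/
theorem fixed_of_mem {g : GL chevE6.Idx K} {y : Pos → K} {c : K} (hg : g ∈ twistedE6 K q) (h : g = w y * Zg c) :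
    sigY q y = y := by
  have h1 : S.T.sig g = g := (S.le_fix hg).2
  rw [h, S.T.sig_mul _ (w_mem_group y) _ (factsE6.xg_mem_group _ _)] at h1
  obtain ⟨a, ha⟩ := sig_w S y
  rw [ha, show S.T.sig (Zg c) = Zg (c ^ q) from sig_Zg S c, mul_assoc, ← Zg_add] at h1
  refine EqZ.w_inj ⟨c - (a + c ^ q), ?_⟩
  rw [sub_eq_add_neg, Zg_add, ← mul_assoc, ← h1, mul_assoc, ← Zg_add, add_neg_cancel, Zg_zero, mul_one]

/-- The elements over the fixed vectors. -/
noncomputable def gw (y : YS S) : ↥(twistedE6 K q) := ⟨w (y : Pos → K), w_mem S y.2⟩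

/-- The elements of the centre. -/
noncomputable def gz (f : Fq S) : ↥(twistedE6 K q) := ⟨Zg (f : K), Zg_mem S (fq_pow S f)⟩

theorem partner_π : ∀ i : Pos, partner (π i) = π (partner i) ∧ (π i = i → π (partner i) = partner i) := by
  decide +kernel

theorem conj_list_eq {a b : GL chevE6.Idx K} {c : K} (h : b = a * Zg c) (g : GL chevE6.Idx K) 
    (hg' : CZ g) : MulAut.conj b g = MulAut.conj a g := by
  subst h
  rw [map_mul, MulAut.mul_apply, MulAut.conj_apply (Zg c), ← (hg' c).eq, mul_inv_cancel_right]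

theorem gw_pair_at {y : YS S} {i : Pos} (hi : (y : Pos → K) i ≠ 0) (f : Fq S) :
    ∃ x : YS S, (∀ m, m ≠ partner i → m ≠ π (partner i) → (x : Pos → K) m = 0) ∧
      gw S x * gw S y * (gw S x)⁻¹ = gw S y * gz S f := by
  obtain ⟨z, hz, hc⟩ := partner_conj (K := K) i
  obtain ⟨z', -, hc'⟩ := partner_conj (K := K) (π i)
  set p := partner i with hp
  by_cases hii : π i = i
  · have hpp : π p = p := (partner_π i).2 hii
    have hyi : ((y : Pos → K) i) ^ q = (y : Pos → K) i := by
      have h1 := YS_at S y i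
      rw [hii] at h1
      rcases (π_spec i).2.2.1 with e | e
      · simpa [e] using h1.symm
      · exfalso
        have : ∀ j : Pos, π j = j → sgn j = 1 := by decide +kernel
        rw [this i hii] at e
        omega
    set t : K := (f : K) / ((z : K) * (y : Pos → K) i) with ht
    have htq : t ^ q = t := by rw [ht, div_pow, mul_pow, fq_pow S, hyi, pow_q_int S]
    have hs : sgn p = 1 := (show ∀ j : Pos, π j = j → sgn j = 1 by decide +kernel) p hpp
    have hx : (Pi.single p t : Pos → K) ∈ YS S := by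
      funext j
      by_cases hj : j = p
      · subst hj; simp [sigY, hpp, hs, htq]
      · rw [sigY, Pi.single_eq_of_ne hj, Pi.single_eq_of_ne, zero_pow (show q ≠ 0 by have := S.hq; omega),
          mul_zero]
        intro e
        exact hj (by rw [← (π_spec j).2.1, e, hpp])
    refine ⟨⟨_, hx⟩, fun m hm _ => Pi.single_eq_of_ne hm _, Subtype.ext ?_⟩
    show MulAut.conj (w (Pi.single p t)) (w (y : Pos → K)) = w (y : Pos → K) * Zg (f : K)
    rw [w_single, hc, ht, mul_assoc (z : K) _ _, mul_left_comm, div_mul_cancel₀ _ (mul_ne_zero (unit_ne hz) hi)]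
  · set x : K → Pos → K := fun t => Pi.single p t + Pi.single (π p) ((sgn p : K) * t ^ q) with hx
    have hpπ : π p = partner (π i) := (partner_π i).1.symm
    have hpne : π p ≠ p := by
      intro e
      apply hii
      have hinv : ∀ j : Pos, partner (partner j) = j := by decide +kernel
      rw [← hinv (π i), ← hpπ, e, hp, hinv]
    have hxY : ∀ t, x t ∈ YS S := by
      intro t
      funext j
      simp only [hx, sigY, Pi.add_apply]
      by_cases hj : j = p
      · subst hj
        simp [hpne, Ne.symm hpne, mul_pow, pow_q_int S, S.pow_sq, (π_spec p).2.2.2.1, ← mul_assoc,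
          unit_mul (π_spec p).2.2.1]
      · by_cases hj' : j = π p
        · subst hj'
          simp [(π_spec p).2.1, hpne, Ne.symm hpne]
        · have h1 : π j ≠ p := fun e => hj' (by rw [← e, (π_spec j).2.1])
          have h2 : π j ≠ π p := fun e => hj (by rw [← (π_spec j).2.1, e, (π_spec p).2.1])
          simp [hj, hj', h1, h2, zero_pow (show q ≠ 0 by have := S.hq; omega)]
    set a : K := (z : K) * (y : Pos → K) i with ha
    set b : K := (z' : K) * (sgn p : K) * (y : Pos → K) (π i) with hb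
    have key : ∀ t, MulAut.conj (w (x t)) (w (y : Pos → K)) = w (y : Pos → K) * Zg (a * t + b * t ^ q) := by
      intro t
      obtain ⟨c, hcx⟩ := (w_add (K := K) (Pi.single p t) (Pi.single (π p) ((sgn p : K) * t ^ q))).symm
      rw [conj_list_eq hcx _ (CZ_w _), w_single, w_single, map_mul, MulAut.mul_apply, hpπ,
        hc', map_mul, hc, MulAut.conj_apply (X QL[p.val] t) (Zg _), (Q_Z (List.getElem_mem p.isLt) t _).eq,
        mul_inv_cancel_right, mul_assoc, ← Zg_add, hb, ha]
      congr 2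
      ring
    have hg : ∀ t, (a * t + b * t ^ q) ^ q = a * t + b * t ^ q := by
      intro t
      refine Zg_fix S ?_
      have e : Zg (a * t + b * t ^ q) = (w (y : Pos → K))⁻¹ * MulAut.conj (w (x t)) (w (y : Pos → K)) := by
        rw [key, inv_mul_cancel_left]
      rw [e]
      exact mul_mem (inv_mem (w_mem S y.2))
        (mul_mem (mul_mem (w_mem S (hxY t)) (w_mem S y.2)) (inv_mem (w_mem S (hxY t))))
    obtain ⟨t0, ht0⟩ := exists_change (b := b) (mul_ne_zero (unit_ne hz) hi : a ≠ 0) S.hq S.hK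
    set l : K := (f : K) / (a * t0 + b * t0 ^ q) with hl
    have hlq : l ^ q = l := by rw [hl, div_pow, fq_pow S, hg]
    refine ⟨⟨_, hxY (l * t0)⟩, fun m hm hm' => ?_, Subtype.ext ?_⟩
    · simp [x, hm, hm']
    show MulAut.conj (w (x (l * t0))) (w (y : Pos → K)) = w (y : Pos → K) * Zg (f : K)
    rw [key, mul_pow, hlq]
    congr 2
    rw [show a * (l * t0) + b * (l * t0 ^ q) = l * (a * t0 + b * t0 ^ q) by ring, hl, div_mul_cancel₀ _ ht0]

theorem gw_pair {y : YS S} (hy : y ≠ 0) (f : Fq S) :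
    ∃ x, gw S x * gw S y * (gw S x)⁻¹ = gw S y * gz S f := by
  obtain ⟨i, hi⟩ : ∃ i, (y : Pos → K) i ≠ 0 := by
    by_contra h
    push Not at h
    exact hy (Subtype.ext (funext h))
  obtain ⟨x, -, h⟩ := gw_pair_at S hi f
  exact ⟨x, h⟩

/-- The radical. -/
noncomputable def heis : Heis ↥(twistedE6 K q) (Fq S) (YS S) where
  Z := gz S
  w := gw S
  z_add a b := Subtype.ext (Zg_add (a : K) (b : K))
  z_inj a b h := Subtype.ext (factsE6.xg_inj (by decide : (71 : ℕ) < chevE6.nroots) (congrArg Subtype.val h))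
  w_mul x y := by
    obtain ⟨c, hc⟩ := w_add (x : Pos → K) (y : Pos → K)
    have hmem : Zg c ∈ twistedE6 K q := by
      have e : Zg c = (w ((x + y : YS S) : Pos → K))⁻¹ * (w (x : Pos → K) * w (y : Pos → K)) := by
        rw [hc]
        exact (inv_mul_cancel_left _ _).symm
      rw [e]
      exact mul_mem (inv_mem (w_mem S (x + y).2)) (mul_mem (w_mem S x.2) (w_mem S y.2))
    exact ⟨⟨c, mem_fq S (Zg_fix S hmem)⟩, Subtype.ext hc⟩
  w_zero := Subtype.ext w_zero
  w_comm x f := Subtype.ext (CZ_w (x : Pos → K) (f : K))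
  w_uniq := fun {x y f f'} h => by
    have h' : w (x : Pos → K) * Zg (f : K) = w (y : Pos → K) * Zg (f' : K) := congrArg Subtype.val h
    refine Subtype.ext (EqZ.w_inj ⟨(f' : K) - f, ?_⟩)
    rw [sub_eq_add_neg, Zg_add, ← mul_assoc, ← h', mul_assoc, ← Zg_add, add_neg_cancel, Zg_zero, mul_one]
  pair y hy f := gw_pair S hy f

theorem heis_Z (f : Fq S) : ((heis S).Z f : GL chevE6.Idx K) = Zg (f : K) := rfl

theorem heis_w (y : YS S) : ((heis S).w y : GL chevE6.Idx K) = w (y : Pos → K) := rfl

/-- An element acting on the coordinates gives a move. -/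
theorem moves_of {g : ↥(twistedE6 K q)} (hZ : CZ (g : GL chevE6.Idx K)) {F : (Pos → K) → (Pos → K)}
    (hF : ∀ y, EqZ (MulAut.conj (g : GL chevE6.Idx K) (w y)) (w (F y))) :
    ∃ φ : YS S → YS S, (∀ y, (φ y : Pos → K) = F (y : Pos → K)) ∧ (heis S).Moves g φ := by
  have hmem : ∀ y : YS S, ∃ c, MulAut.conj (g : GL chevE6.Idx K) (w (y : Pos → K)) = w (F y) * Zg c ∧
      sigY q (F y) = F y ∧ c ^ q = c := by
    intro y
    obtain ⟨c, hc⟩ := hF y
    have hg : MulAut.conj (g : GL chevE6.Idx K) (w (y : Pos → K)) ∈ twistedE6 K q :=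
      mul_mem (mul_mem g.2 (w_mem S y.2)) (inv_mem g.2)
    have hfix := fixed_of_mem S hg hc
    refine ⟨c, hc, hfix, Zg_fix S ?_⟩
    rw [show Zg c = (w (F y))⁻¹ * MulAut.conj (g : GL chevE6.Idx K) (w (y : Pos → K)) by
      rw [hc, inv_mul_cancel_left]]
    exact mul_mem (inv_mem (w_mem S hfix)) hg
  choose c hc hfix hcq using hmem
  refine ⟨fun y => ⟨F y, hfix y⟩, fun _ => rfl, fun f => Subtype.ext (hZ f), fun x => ?_⟩
  exact ⟨⟨c x, mem_fq S (hcq x)⟩, Subtype.ext (hc x)⟩

end Cfsg.Agent.Small.TwE6Deg
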