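import Cfsg.Agent.Lib.Small.TwE6Deg.Nontrivial

/-!
The abelian subgroup acting on the vectors fixed by the radical, and its weights.
-/

set_option autoImplicit false
set_option maxRecDepth 4000
set_option linter.unusedSectionVars false

namespace Cfsg.Agent.Small.TwE6Deg

open Cfsg.Lie Cfsg.Agent.Lie Finset Module
open Cfsg.Agent.Lie.E6 (Setup)
open Cfsg.Agent.Small.MinusculeDegree (tgt)
open Cfsg.Agent.Small.D4Degree (wm wm_eq wp wp_idem trace_eq_sum op_eq_zero_apply)
open scoped MatrixGroups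

/-- The row of the lowest position. -/
def R19 : Row := cfgMain.rows[5]'(by decide)

theorem R19_mem : R19 ∈ cfgMain.rows := List.getElem_mem _

/-- The positions reached from the lowest one. -/
def P1 : List Pos := R19.adj.map Prod.fst

theorem R19_i : R19.i = 19 := rfl

/-- The checks on a root of the smaller Levi subgroup. -/
def okLev (α : ℕ) : Bool :=
  LR.contains α && decide (α < chevE6.nroots) &&
  (List.finRange QL.length).all (fun i =>
    match tgt chevE6 QL α i with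
    | some (k, _) => decide (i ≠ R19.i) && decide (k ∈ P1 ↔ i ∈ P1) && decide (i ∈ cfgH.supp0 → k ∈ cfgH.supp0)
    | none => true) &&
  R19.T.flatten.all fun s => decide (s < chevE6.nroots) && decide (s ≠ chevE6.neg α) &&
    (s == α || (chevE6.commTerms α s).all fun c => R19.T.flatten.contains c.1)

theorem okLev_all : cfgH.Lo.flatten.all okLev = true := by decide +kernel

theorem okP1 : P1.Nodup ∧ (∀ m ∈ P1, π m ∈ P1) ∧ P1.length = 9 ∧ cfgH.supp0.length = 9 ∧
    (∀ i ∈ cfgH.supp0, partner i ∈ P1 ∧ π (partner i) ∈ P1) ∧ R19.i ∉ P1 := by decide +kernel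

variable {K : Type*} [Field K] [Fintype K] {q : ℕ} (S : Setup K q)

theorem lev_spec {α : ℕ} (h : okLev α = true) : α ∈ LR ∧ α < chevE6.nroots ∧
    (∀ (i k : Pos) (z : ℤ), tgt chevE6 QL α i = some (k, z) →
      i ≠ R19.i ∧ (k ∈ P1 ↔ i ∈ P1) ∧ (i ∈ cfgH.supp0 → k ∈ cfgH.supp0)) ∧
    ∀ s ∈ R19.T.flatten, s < chevE6.nroots ∧ s ≠ chevE6.neg α ∧
      (s ≠ α → ∀ c ∈ chevE6.commTerms α s, c.1 ∈ R19.T.flatten) := by
  simp only [okLev, Bool.and_eq_true, List.contains_iff_mem, decide_eq_true_eq, List.all_eq_true, Bool.or_eq_true,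
    beq_iff_eq] at h
  obtain ⟨⟨⟨h1, h2⟩, h3⟩, h4⟩ := h
  refine ⟨h1, h2, fun i k z he => ?_, fun s hs => ?_⟩
  · have := h3 i (List.mem_finRange i)
    rw [he] at this
    simp only [Bool.and_eq_true, decide_eq_true_eq] at this
    exact ⟨this.1.1, this.1.2, this.2⟩
  · obtain ⟨⟨a1, a2⟩, a3⟩ := h4 s hs
    exact ⟨a1, a2, fun hne => a3.resolve_left hne⟩

/-- The properties of a move used on the smaller Levi subgroup. -/
def LevMap (F : (Pos → K) → (Pos → K)) : Prop :=
  (∀ c : K, F (Pi.single R19.i c) = Pi.single R19.i c) ∧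
    (∀ y y' : Pos → K, (∀ m ∈ P1, y m = y' m) → ∀ m ∈ P1, F y m = F y' m) ∧
    (∀ y : Pos → K, (∀ m, m ∉ P1 → y m = 0) → ∀ m, m ∉ P1 → F y m = 0) ∧
    ∀ y : Pos → K, (∀ m, m ∉ cfgH.supp0 → y m = 0) → ∀ m, m ∉ cfgH.supp0 → F y m = 0

theorem levMap_mv1 {α : ℕ} (h : okLev α = true) (v : K) : LevMap (mv1 chevE6 QL α v) := by
  obtain ⟨-, -, hs, -⟩ := lev_spec h
  have hsum : ∀ (y : Pos → K) (k : Pos), (∀ i k' z, tgt chevE6 QL α i = some (k', z) → k' = k → y i = 0) →
      mv1 chevE6 QL α v y k = y k := by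
    intro y k hy
    rw [mv1, Finset.sum_eq_zero, add_zero]
    intro i _
    rcases hi : tgt chevE6 QL α i with _ | ⟨k', z⟩
    · rfl
    · simp only
      split_ifs with e
      · rw [hy i k' z hi e, mul_zero]
      · rfl
  refine ⟨fun c => funext fun k => ?_, fun y y' hyy m hm => ?_, fun y hy m hm => ?_, fun y hy m hm => ?_⟩
  · exact hsum _ k fun i k' z hi _ => Pi.single_eq_of_ne (hs i k' z hi).1 _
  · simp only [mv1, hyy m hm]
    congr 1
    refine Finset.sum_congr rfl fun i _ => ?_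
    rcases hi : tgt chevE6 QL α i with _ | ⟨k', z⟩
    · rfl
    · simp only
      split_ifs with e
      · rw [hyy i ((hs i k' z hi).2.1.1 (e.symm ▸ hm))]
      · rfl
  · rw [hsum _ m fun i k' z hi e => hy i fun h' => hm (e ▸ (hs i k' z hi).2.1.2 h'), hy m hm]
  · rw [hsum _ m fun i k' z hi e => hy i fun h' => hm (e ▸ (hs i k' z hi).2.2 h'), hy m hm]

theorem levMap_mvs {l : List ℕ} (hl : ∀ α ∈ l, okLev α = true) (t : ℕ → K) : LevMap (mvs chevE6 QL l t) := by
  induction l with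
  | nil => exact ⟨fun _ => rfl, fun _ _ h => h, fun _ h => h, fun _ h => h⟩
  | cons α l ih =>
    obtain ⟨a1, a2, a3, a4⟩ := levMap_mv1 (hl α List.mem_cons_self) (t α)
    obtain ⟨b1, b2, b3, b4⟩ := ih fun β hβ => hl β (List.mem_cons_of_mem _ hβ)
    refine ⟨fun c => ?_, fun y y' h => a2 _ _ (b2 y y' h), fun y h => a3 _ (b3 y h), fun y h => a4 _ (b4 y h)⟩
    show mv1 chevE6 QL α (t α) (mvs chevE6 QL l t _) = _
    rw [b1, a1]

theorem El_add (t t' : ℕ → K) :
    El R19.T.flatten (fun r => t r + t' r) = El R19.T.flatten t * El R19.T.flatten t' :=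
  factsE6.prodOver_add (row_spec (row_ok okMain R19_mem)).2.2.2.2.2.2.2.2.2.2.2.2.2.2.2
    (row_spec (row_ok okMain R19_mem)).2.2.2.2.1 t t'

theorem El_congr {l : List ℕ} {t t' : ℕ → K} (h : ∀ r ∈ l, t r = t' r) : El l t = El l t' :=
  CommSys.prodOver_congr _ h

theorem exists_El {g : GL chevE6.Idx K} (hg : g ∈ (factsE6.tsys K).US R19.T.flatten) :
    ∃ t, g = El R19.T.flatten t := by
  classical
  have hnd := (row_spec (row_ok okMain R19_mem)).2.2.2.2.1
  have h0 : El R19.T.flatten (fun _ => (0 : K)) = 1 := by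
    refine List.prod_eq_one fun a ha => ?_
    obtain ⟨r, -, rfl⟩ := List.mem_map.1 ha
    exact factsE6.xg_zero _
  induction hg using Subgroup.closure_induction with
  | mem g hg =>
    obtain ⟨s, hs, a, rfl⟩ := hg
    refine ⟨fun r => if r = s then a else 0, ?_⟩
    suffices h : ∀ l : List ℕ, l.Nodup →
        El l (fun r => if r = s then a else (0 : K)) = if s ∈ l then X s a else 1 by
      rw [h _ hnd, if_pos hs, factsE6.tsys_x]
    intro l hl
    induction l with
    | nil => simp [El_nil]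
    | cons r l ih =>
      rw [El_cons, ih (List.nodup_cons.1 hl).2]
      by_cases hrs : r = s
      · subst hrs
        rw [if_pos rfl, if_neg (List.nodup_cons.1 hl).1, mul_one, if_pos List.mem_cons_self]
      · rw [if_neg hrs, X, factsE6.xg_zero, one_mul]
        simp [List.mem_cons, Ne.symm hrs]
  | one => exact ⟨_, h0.symm⟩
  | mul a b _ _ ha hb =>
    obtain ⟨t, rfl⟩ := ha; obtain ⟨t', rfl⟩ := hb
    exact ⟨_, (El_add t t').symm⟩
  | inv a _ ha =>
    obtain ⟨t, rfl⟩ := ha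
    refine ⟨fun r => -t r, inv_eq_of_mul_eq_one_right ?_⟩
    rw [← El_add]
    simpa using h0

theorem conj_El_T {l : List ℕ} (hl : ∀ α ∈ l, okLev α = true) (t s : ℕ → K) :
    ∃ s', MulAut.conj (El l t) (El R19.T.flatten s) = El R19.T.flatten s' := by
  refine exists_El ?_
  induction l with
  | nil => rw [El_nil, map_one, MulAut.one_apply]; exact CommSys.prodOver_mem _ _ _
  | cons α l ih =>
    rw [El_cons, map_mul, MulAut.mul_apply]
    obtain ⟨-, hlt, -, hT⟩ := lev_spec (hl α List.mem_cons_self)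
    have h := CommSys.conj_mem_US (factsE6.tsys K).toCommSys hlt hT (-(t α))
      (ih fun β hβ => hl β (List.mem_cons_of_mem _ hβ))
    rw [MulAut.conj_apply]
    have e : (factsE6.tsys K).x α (-(t α)) = (X α (t α))⁻¹ := by
      rw [factsE6.tsys_x, X]
      exact eq_inv_of_mul_eq_one_left (by rw [← factsE6.xg_add, neg_add_cancel, factsE6.xg_zero])
    rw [e, inv_inv] at h
    exact h

/-- The parameters of a vector on the second lowest level. -/
noncomputable def tr (u : Pos → K) : ℕ → K := fun α => -killT R19 (u + Pi.single R19.i 1) α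

theorem tr_eq {a : Adj} (ha : a ∈ R19.adj) {u : Pos → K} (hu : u R19.i = 0) :
    tr u a.2.1 = u a.1 / (a.2.2 : K) := by
  rw [tr, killT_eq (row_ok okMain R19_mem) _ ha, neg_neg, Pi.add_apply, Pi.add_apply, hu, Pi.single_eq_same,
    Pi.single_eq_of_ne (adj_not_i okMain R19_mem a ha), add_zero, zero_add, mul_one]

/-- The vectors on the second lowest level. -/
def YU : AddSubgroup (YS S) where
  carrier := {y | ∀ m, m ∉ P1 → (y : Pos → K) m = 0}
  add_mem' {a b} ha hb m hm := by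
    show (a : Pos → K) m + (b : Pos → K) m = 0
    rw [ha m hm, hb m hm, add_zero]
  zero_mem' _ _ := rfl
  neg_mem' {a} ha m hm := by
    show -((a : Pos → K) m) = 0
    rw [ha m hm, neg_zero]

theorem YU_i (u : YU S) : ((u : YS S) : Pos → K) R19.i = 0 := u.2 _ okP1.2.2.2.2.2

include S in
theorem fx_one : Fx q cfgMain.supp0 (Pi.single R19.i (1 : K)) :=
  fx_single S (row_long okMain R19_mem).1 (supp_main _) (one_pow q)

theorem tr_compat (u : YS S) : ∀ o ∈ R19.T, Compat q (tr (u : Pos → K)) o :=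
  compat_neg S okMain R19_mem (y := (u : Pos → K) + Pi.single R19.i 1)
    (fx_main.2 (by rw [sigY_add S, (mem_YS S).1 u.2, (fx_one S).1]))

theorem T_orbs : ∀ o ∈ R19.T, o ∈ Orbs.take 18 := fun o ho =>
  ((cfg_spec okMain).2.2.2.2.1 o (lo_T okMain R19_mem o ho)).1

/-- The elements of the subgroup. -/
noncomputable def tau (u : YU S) : ↥(twistedE6 K q) := gel S T_orbs (tr_compat S (u : YS S))

theorem tau_add (u v : YU S) : tau S (u + v) = tau S u * tau S v := by
  apply Subtype.ext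
  show El R19.T.flatten _ = El R19.T.flatten _ * El R19.T.flatten _
  rw [← El_add]
  refine El_congr fun r hr => ?_
  obtain ⟨a, ha, rfl⟩ := adj_of_root (row_ok okMain R19_mem) hr
  rw [tr_eq ha (YU_i S _), tr_eq ha (YU_i S _), tr_eq ha (YU_i S _), ← add_div]
  rfl

theorem tau_zero : tau S 0 = 1 := by
  have h := tau_add S 0 0
  rwa [add_zero, left_eq_mul] at h

variable [Fintype (Fq S)] [Fintype (YS S)] [Fintype (YU S)]
variable {M : Type*} [AddCommGroup M] [Module ℂ M] [FiniteDimensional ℂ M]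
  (ρ : ↥(twistedE6 K q) →* Module.End ℂ M) (ψ : AddChar (Fq S) ℂ)

theorem moves_zero {g : ↥(twistedE6 K q)} {φ : YS S → YS S} (h : (heis S).Moves g φ) : φ 0 = 0 := by
  have h0 := (heis S).moves_add h 0 0
  rwa [add_zero, left_eq_add] at h0

theorem E0_comm {g : ↥(twistedE6 K q)} {φ : YS S → YS S} (h : (heis S).Moves g φ) :
    Commute (ρ g) ((heis S).E ρ ψ 0) := by
  have e := (heis S).E_conj ρ ψ h 0
  rwa [moves_zero S h] at e

theorem tau_comm (u : YU S) : Commute (ρ (tau S u)) ((heis S).E ρ ψ 0) := by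
  obtain ⟨φ, -, h⟩ := moves_El S T_orbs (tr_compat S (u : YS S))
  exact E0_comm S ρ ψ h

/-- The operators on the vectors fixed by the radical. -/
noncomputable def opT (u : YU S) : Module.End ℂ M := ρ (tau S u) * (heis S).E ρ ψ 0

theorem opT_add (u v : YU S) : opT S ρ ψ (u + v) = opT S ρ ψ u * opT S ρ ψ v := by
  rw [opT, opT, opT, tau_add, ρ.map_mul, mul_assoc (ρ (tau S u)) ((heis S).E ρ ψ 0),
    ← mul_assoc ((heis S).E ρ ψ 0) (ρ (tau S v)), ← (tau_comm S ρ ψ v).eq, mul_assoc (ρ (tau S v)),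
    (heis S).E_idem, mul_assoc]

theorem opT_zero : opT S ρ ψ 0 = (heis S).E ρ ψ 0 := by
  rw [opT, tau_zero, ρ.map_one, one_mul]

/-- The character of a vector of the upper level. -/
noncomputable def chiT (η : YS S) : AddChar (YU S) ℂ := ((heis S).chi ψ η).compAddMonoidHom (YU S).subtype

/-- The weights of the subgroup. -/
noncomputable def WT (η : YS S) : ℕ := wm (opT S ρ ψ) (chiT S ψ η)

set_option maxHeartbeats 1000000 in
/-- A move normalising the subgroup keeps the weights. -/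
theorem WT_move {g : ↥(twistedE6 K q)} {φ : YS S → YS S} (h : (heis S).Moves g φ) (hZ : CZ (g : GL chevE6.Idx K))
    {F : (Pos → K) → (Pos → K)} (hφ : ∀ y, (φ y : Pos → K) = F (y : Pos → K)) (hF : LevMap F)
    (hn : ∀ s, ∃ s', MulAut.conj (g : GL chevE6.Idx K) (El R19.T.flatten s) = El R19.T.flatten s') (η : YS S) :
    WT S ρ ψ (φ η) = WT S ρ ψ η := by
  classical
  obtain ⟨h1, h2, h3, -⟩ := hF
  have hU : ∀ u : YU S, φ u ∈ YU S := fun u m hm => by rw [hφ]; exact h3 _ u.2 m hm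
  set ψU : YU S → YU S := fun u => ⟨φ u, hU u⟩ with hψU
  have hψinj : Function.Injective ψU := fun a b hab =>
    Subtype.ext ((heis S).moves_inj h (congrArg (fun x : YU S => (x : YS S)) hab))
  have hconj : ∀ u : YU S, g * tau S u * g⁻¹ = tau S (ψU u) := by
    intro u
    obtain ⟨s', hs'⟩ := hn (tr ((u : YS S) : Pos → K))
    apply Subtype.ext
    show MulAut.conj (g : GL chevE6.Idx K) (El R19.T.flatten (tr ((u : YS S) : Pos → K))) =
      El R19.T.flatten (tr ((φ u : YS S) : Pos → K))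
    rw [hs']
    set e1 : YS S := ⟨Pi.single R19.i 1, fx_main.1 (fx_one S)⟩ with he1
    obtain ⟨φt, hφt, hmt⟩ := moves_El S T_orbs (tr_compat S (u : YS S))
    have hfix : φ e1 = e1 := Subtype.ext (by rw [hφ]; exact h1 1)
    obtain ⟨c1, hc1⟩ := h.2 e1
    obtain ⟨c2, hc2⟩ := hmt.2 e1
    obtain ⟨c3, hc3⟩ := h.2 (φt e1)
    rw [hfix] at hc1
    have hA : EqZ (MulAut.conj (El R19.T.flatten s') (w (e1 : Pos → K))) (w (φ (φt e1) : Pos → K)) := by
      have hb : MulAut.conj (g : GL chevE6.Idx K)⁻¹ (w (e1 : Pos → K)) = w (e1 : Pos → K) * Zg (-(c1 : K)) := by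
        have hc1' : MulAut.conj (g : GL chevE6.Idx K) (w (e1 : Pos → K)) = w (e1 : Pos → K) * Zg (c1 : K) :=
          congrArg Subtype.val hc1
        have hzz : ∀ c : K, MulAut.conj (g : GL chevE6.Idx K) (Zg c) = Zg c := fun c => by
          rw [MulAut.conj_apply, (hZ c).eq, mul_inv_cancel_right]
        rw [map_inv]
        show (MulAut.conj (g : GL chevE6.Idx K)).symm _ = _
        rw [MulEquiv.symm_apply_eq, map_mul, hzz, hc1', mul_assoc, ← Zg_add, add_neg_cancel, Zg_zero, mul_one]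
      have hc2' : MulAut.conj (El R19.T.flatten (tr ((u : YS S) : Pos → K))) (w (e1 : Pos → K)) =
          w (φt e1 : Pos → K) * Zg (c2 : K) := congrArg Subtype.val hc2
      have hc3' : MulAut.conj (g : GL chevE6.Idx K) (w (φt e1 : Pos → K)) =
          w (φ (φt e1) : Pos → K) * Zg (c3 : K) := congrArg Subtype.val hc3
      have hzz : ∀ c : K, MulAut.conj (g : GL chevE6.Idx K) (Zg c) = Zg c := fun c => by
        rw [MulAut.conj_apply, (hZ c).eq, mul_inv_cancel_right]
      have hzt : ∀ c : K, MulAut.conj (El R19.T.flatten (tr ((u : YS S) : Pos → K))) (Zg c) = Zg c := fun c => by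
        rw [MulAut.conj_apply, (CZ_El (lev_LR T_orbs) _ c).eq, mul_inv_cancel_right]
      refine ⟨(c3 : K) + ((c2 : K) + -(c1 : K)), ?_⟩
      rw [← hs', MulAut.conj_apply (g : GL chevE6.Idx K), map_mul, map_mul, MulAut.mul_apply, MulAut.mul_apply, hb,
        map_mul, hzt, hc2', map_mul, map_mul, hzz, hzz, hc3', Zg_add, Zg_add]
      simp only [mul_assoc]
    have hB : mvs chevE6 QL R19.T.flatten s' (e1 : Pos → K) = (φ (φt e1) : Pos → K) :=
      EqZ.w_inj ((conj_El (lev_LR T_orbs) s' _).symm.trans hA)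
    refine El_congr fun r hr => ?_
    obtain ⟨a, ha, rfl⟩ := adj_of_root (row_ok okMain R19_mem) hr
    rw [tr_eq ha (hU u _ okP1.2.2.2.2.2)]
    have haP : a.1 ∈ P1 := List.mem_map_of_mem ha
    have hz := unit_ne (K := K) ((row_spec (row_ok okMain R19_mem)).2.2.2.2.2.2.2.2.1 a ha).1
    have h4 := congrFun hB a.1
    rw [he1] at h4
    simp only at h4
    rw [(trans_at (row_ok okMain R19_mem) s' 1).2 a ha, mul_one, hφ] at h4
    have h5 : F (φt e1 : Pos → K) a.1 = F ((u : YS S) : Pos → K) a.1 := by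
      refine h2 _ _ (fun m hm => ?_) _ haP
      obtain ⟨b, hb, rfl⟩ := List.mem_map.1 hm
      rw [hφt]
      show mvs chevE6 QL R19.T.flatten _ (Pi.single R19.i (1 : K)) b.1 = _
      rw [(trans_at (row_ok okMain R19_mem) _ 1).2 b hb, tr_eq hb (YU_i S u), mul_one, mul_div_cancel₀ _
        (unit_ne ((row_spec (row_ok okMain R19_mem)).2.2.2.2.2.2.2.2.1 b hb).1)]
    rw [h5, ← hφ] at h4
    rw [← h4]
    field_simp
  apply Nat.cast_injective (R := ℂ)
  rw [WT, WT, wm_eq (opT_add S ρ ψ), wm_eq (opT_add S ρ ψ)]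
  congr 1
  refine (Fintype.sum_equiv (Equiv.ofBijective ψU (Finite.injective_iff_bijective.1 hψinj)) _ _ fun u => ?_).symm
  rw [Equiv.ofBijective_apply]
  congr 1
  · show ψ ((heis S).B η ((-u : YU S) : YS S)) = ψ ((heis S).B (φ η) ((-(ψU u) : YU S) : YS S))
    rw [show ((-(ψU u) : YU S) : YS S) = φ ((-u : YU S) : YS S) from ?_, (heis S).moves_B h]
    show -φ (u : YS S) = φ (-(u : YS S))
    have e := (heis S).moves_add h (u : YS S) (-(u : YS S))
    rw [add_neg_cancel, moves_zero S h] at e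
    exact neg_eq_of_add_eq_zero_right e.symm
  · have hc : ρ g⁻¹ * (heis S).E ρ ψ 0 = (heis S).E ρ ψ 0 * ρ g⁻¹ := by
      have e := (E0_comm S ρ ψ h).eq
      calc ρ g⁻¹ * (heis S).E ρ ψ 0 = ρ g⁻¹ * ((heis S).E ρ ψ 0 * ρ g) * ρ g⁻¹ := by
            simp only [mul_assoc, ← ρ.map_mul, mul_inv_cancel, ρ.map_one, mul_one]
        _ = _ := by rw [← e, ← mul_assoc (ρ g⁻¹), ← ρ.map_mul, inv_mul_cancel, ρ.map_one, one_mul]
    rw [opT, opT, ← hconj, ρ.map_mul, ρ.map_mul, mul_assoc (ρ g * ρ (tau S u)), hc, ← mul_assoc,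
      LinearMap.trace_mul_comm ℂ (ρ g * ρ (tau S u) * (heis S).E ρ ψ 0) (ρ g⁻¹), ← mul_assoc, ← mul_assoc,
      ← ρ.map_mul, inv_mul_cancel, ρ.map_one, one_mul]

end Cfsg.Agent.Small.TwE6Deg
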