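import Cfsg.Agent.Lib.Small.TwE6Deg.Step

/-!
A lower bound for the dimension of the vectors fixed by the radical.
-/

set_option autoImplicit false
set_option maxRecDepth 4000
set_option linter.unusedSectionVars false

namespace Cfsg.Agent.Small.TwE6Deg

open Cfsg.Lie Cfsg.Agent.Lie Finset Module
open Cfsg.Agent.Lie.E6 (Setup)
open Cfsg.Agent.Small.D4Degree (wm trace_eq_sum op_eq_zero_apply)
open scoped MatrixGroups

variable {K : Type*} [Field K] [Fintype K] {q : ℕ} (S : Setup K q)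

/-- The vectors on the upper level. -/
def YH : AddSubgroup (YS S) where
  carrier := {y | ∀ m, m ∉ cfgH.supp0 → (y : Pos → K) m = 0}
  add_mem' {a b} ha hb m hm := by
    show (a : Pos → K) m + (b : Pos → K) m = 0
    rw [ha m hm, hb m hm, add_zero]
  zero_mem' _ _ := rfl
  neg_mem' {a} ha m hm := by
    show -((a : Pos → K) m) = 0
    rw [ha m hm, neg_zero]

theorem card_sub (Y' : AddSubgroup (YS S)) [Fintype Y'] (P : List Pos) (hnd : P.Nodup) (hst : ∀ m ∈ P, π m ∈ P)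
    (hY : ∀ y : YS S, y ∈ Y' ↔ ∀ m, m ∉ P → (y : Pos → K) m = 0) : Fintype.card Y' = q ^ P.length := by
  classical
  obtain ⟨V, hV, hVm⟩ := card_fx S (K := K) P hnd hst
  rw [← hV, ← Finset.card_univ]
  refine Finset.card_bij (fun y _ => ((y : YS S) : Pos → K))
    (fun y _ => (hVm _).2 ⟨(y : YS S).2, (hY _).1 y.2⟩)
    (fun a _ b _ h => Subtype.ext (Subtype.ext h)) (fun v hv => ?_)
  exact ⟨⟨⟨v, ((hVm v).1 hv).1⟩, (hY _).2 ((hVm v).1 hv).2⟩, Finset.mem_univ _, rfl⟩

variable [Fintype (Fq S)] [Fintype (YS S)] [Fintype (YU S)] [Fintype (YH S)]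
variable {M : Type*} [AddCommGroup M] [Module ℂ M] [FiniteDimensional ℂ M]
  (ρ : ↥(twistedE6 K q) →* Module.End ℂ M) (ψ : AddChar (Fq S) ℂ)

set_option maxHeartbeats 400000 in
theorem chiT_bijective (hψ : ψ ≠ 1) : Function.Bijective fun η : YH S => chiT S ψ (η : YS S) := by
  classical
  refine (Fintype.bijective_iff_injective_and_card _).2 ⟨fun a b hab => ?_, ?_⟩
  · by_contra hne
    obtain ⟨i, hi⟩ : ∃ i, (((a : YS S) - (b : YS S) : YS S) : Pos → K) i ≠ 0 := by
      by_contra h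
      push Not at h
      exact hne (Subtype.ext (sub_eq_zero.1 (Subtype.ext (funext h))))
    have him : i ∈ cfgH.supp0 := by_contra fun h => hi ((sub_mem a.2 b.2 : _ ∈ YH S) i h)
    obtain ⟨f0, hf0⟩ := AddChar.ne_one_iff.1 hψ
    obtain ⟨x, hxs, hx⟩ := gw_pair_at S hi f0
    have hxU : x ∈ YU S := fun m hm =>
      hxs m (fun e => hm (e ▸ (okP1.2.2.2.2.1 i him).1)) (fun e => hm (e ▸ (okP1.2.2.2.2.1 i him).2))
    have h0 : (heis S).B x ((a : YS S) - (b : YS S)) = f0 := by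
      have hx' : (heis S).w x * (heis S).w ((a : YS S) - (b : YS S)) * ((heis S).w x)⁻¹ =
          (heis S).w ((a : YS S) - (b : YS S)) * (heis S).Z f0 := hx
      exact (heis S).B_eq hx'
    have h1 : (heis S).B (a : YS S) x = (heis S).B (b : YS S) x + (heis S).B ((a : YS S) - (b : YS S)) x := by
      rw [← (heis S).B_add_left, add_sub_cancel]
    have h2 : ψ ((heis S).B (a : YS S) x) = ψ ((heis S).B (b : YS S) x) := by
      have hab' : chiT S ψ (a : YS S) = chiT S ψ (b : YS S) := hab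
      have e := DFunLike.congr_fun hab' ⟨x, hxU⟩
      simp only [chiT, AddChar.compAddMonoidHom_apply, Heis.chi_apply] at e
      exact e
    rw [h1, AddChar.map_add_eq_mul, (heis S).B_antisymm x ((a : YS S) - (b : YS S)), h0] at h2
    have h3 : ψ (-f0) = 1 := mul_left_cancel₀ (Heis.chi_ne_zero ψ ((heis S).B (b : YS S) x)) (by rw [h2, mul_one])
    refine hf0 ?_
    have h4 := AddChar.map_add_eq_mul ψ f0 (-f0)
    rwa [add_neg_cancel, AddChar.map_zero_eq_one, h3, mul_one, eq_comm] at h4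
  · rw [AddChar.card_eq, card_sub S (YU S) P1 okP1.1 okP1.2.1 (fun _ => Iff.rfl),
      card_sub S (YH S) cfgH.supp0 (cfg_spec okH).2.2.2.1 (cfg_spec okH).2.2.2.2.2.1 (fun _ => Iff.rfl),
      okP1.2.2.1, okP1.2.2.2.1]

/-- The weights of the subgroup on the coordinates. -/
noncomputable def WH (y : Pos → K) : ℕ :=
  letI := Classical.propDecidable
  if h : sigY q y = y then WT S ρ ψ ⟨y, h⟩ else 0

theorem WH_coe (y : YS S) : WH S ρ ψ (y : Pos → K) = WT S ρ ψ y := by
  classical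
  rw [WH, dif_pos ((mem_YS S).1 y.2)]

theorem WH_move {g : ↥(twistedE6 K q)} {φ : YS S → YS S} (h : (heis S).Moves g φ) (hZ : CZ (g : GL chevE6.Idx K))
    {F : (Pos → K) → (Pos → K)} (hφ : ∀ y, (φ y : Pos → K) = F (y : Pos → K)) (hF : LevMap F)
    (hn : ∀ s, ∃ s', MulAut.conj (g : GL chevE6.Idx K) (El R19.T.flatten s) = El R19.T.flatten s')
    {y : Pos → K} (hy : Fx q cfgH.supp0 y) : Fx q cfgH.supp0 (F y) ∧ WH S ρ ψ (F y) = WH S ρ ψ y := by
  obtain ⟨η, rfl⟩ : ∃ η : YS S, (η : Pos → K) = y := ⟨⟨y, hy.1⟩, rfl⟩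
  rw [← hφ η, WH_coe, WH_coe, WT_move S ρ ψ h hZ hφ hF hn η]
  exact ⟨⟨(φ η).2, fun m hm => by rw [hφ]; exact hF.2.2.2 _ hy.2 m hm⟩, rfl⟩

theorem cart_h : cart 69 = [0, 0, 1, -1, 1, 0] ∧ cart 65 = [1, 0, -1, 1, -1, 1] ∧ cart 53 = [-1, 0, 0, 1, 0, -1] ∧
    cart 71 = [0, 1, 0, 0, 0, 0] ∧ cart QL[R19.i.val] = [0, 2, 0, -1, 0, 0] := by decide +kernel

/-- The weights of the subgroup are invariant. -/
theorem inv_h : Inv q cfgH.supp0 cfgH.Lo (WH S ρ ψ) where
  move := by
    intro os hos t ht y hy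
    have hos' : ∀ o ∈ os, o ∈ Orbs.take 18 := fun o ho => ((cfg_spec okH).2.2.2.2.1 o (hos o ho)).1
    have hl : ∀ α ∈ os.flatten, okLev α = true := fun α hα => by
      obtain ⟨o, ho, hαo⟩ := List.mem_flatten.1 hα
      exact List.all_eq_true.1 okLev_all α (List.mem_flatten.2 ⟨o, hos o ho, hαo⟩)
    obtain ⟨φ, hφ, hm⟩ := moves_El S hos' ht
    exact WH_move S ρ ψ hm (CZ_El (lev_LR hos') t) hφ (levMap_mvs hl t) (conj_El_T hl t) hy
  scale := by
    intro i c hc hcq hi him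
    obtain ⟨v, hv, hvc⟩ := exists_unit_pow S hc hcq
    obtain ⟨t, u, hval⟩ : ∃ t u : Kˣ, torChar chevE6 (S.crd t u 1 1) QL[i.val] = v := by
      have hcases : ∀ m : Pos, π m = m → m ∈ cfgH.supp0 → QL[m.val] = 69 ∨ QL[m.val] = 65 ∨ QL[m.val] = 53 := by
        decide +kernel
      have hpow : ∀ x : Kˣ, x ^ (q + 1) = x * x ^ q := fun x => by rw [pow_succ, mul_comm]
      rcases hcases i hi him with e | e | e
      · obtain ⟨u, hu⟩ := norm_surj S hv
        refine ⟨1, u, ?_⟩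
        rw [e, torChar_crd S cart_h.1, ← hu, hpow]
        simp
      · obtain ⟨u, hu⟩ := norm_surj S (u := v⁻¹) (by rw [inv_pow, hv])
        refine ⟨1, u, ?_⟩
        rw [e, torChar_crd S cart_h.2.1, ← inv_inv v, ← hu, hpow]
        simp [mul_comm]
      · obtain ⟨t, ht⟩ := norm_surj S (u := v⁻¹) (by rw [inv_pow, hv])
        refine ⟨t, 1, ?_⟩
        rw [e, torChar_crd S cart_h.2.2.1, ← inv_inv v, ← ht, hpow]
        simp [mul_comm]
    have h71 : torChar chevE6 (S.crd t u 1 1) 71 = 1 := by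
      rw [torChar_crd S cart_h.2.2.2.1]; simp
    have hbot : torChar chevE6 (S.crd t u 1 1) QL[R19.i.val] = 1 := by
      rw [torChar_crd S cart_h.2.2.2.2]; simp
    obtain ⟨φ, hφ, hm⟩ := moves_torus S (t := t) (u := u) (one_pow q) (one_pow q) h71
    refine ⟨fun m => (torChar chevE6 (S.crd t u 1 1) QL[m.val] : K), fun m => Units.ne_zero _, ?_, fun y hy => ?_⟩
    · show ((torChar chevE6 (S.crd t u 1 1) QL[i.val] : Kˣ) : K) = c
      rw [hval, hvc]
    · refine WH_move S ρ ψ hm (CZ_torus h71)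
        (F := fun y m => (torChar chevE6 (S.crd t u 1 1) QL[m.val] : K) * y m) hφ
        ⟨fun a => funext fun k => ?_, fun y y' h m hm => by simp only [h m hm],
          fun y h m hm => by simp only [h m hm, mul_zero], fun y h m hm => by simp only [h m hm, mul_zero]⟩
        (fun s => ?_) hy
      · by_cases hk : k = R19.i
        · subst hk; simp only [Pi.single_eq_same, hbot, Units.val_one, one_mul]
        · simp only [Pi.single_eq_of_ne hk, mul_zero]
      · exact ⟨_, factsE6.torus_conj_prodOver (S.crd t u 1 1)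
          (fun r hr => act_lt (lev_LR T_orbs r hr)) s⟩

include S in
/-- The block elements of the smaller Levi subgroup. -/
theorem levi_word : ∃ (g : ↥(twistedE6 K q)),
    (∃ c : K, c ≠ 0 ∧ ∀ a : K, MulAut.conj (g : GL chevE6.Idx K) (X 60 a) = X 11 (c * a)) ∧
    Commute (ρ g) ((heis S).E ρ ψ 0) := by
  have h1 : (-1 : K) ^ q = -1 := by rw [← S.hfr, map_neg, map_one]
  have hblock : ∀ b ∈ ([[5, 0], [4, 2], [3]] : List (List (Fin 6))), ∃ g : ↥(twistedE6 K q),
      (g : GL chevE6.Idx K) = (b.map fun i => factsE6.ng (chevE6.simple i.val) (1 : K)).prod ∧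
        Commute (ρ g) ((heis S).E ρ ψ 0) := by
    have hmk : ∀ (o o' : List ℕ), o ∈ ([[36, 56], [15, 35], [37, 42], [29, 34], [39], [32]] : List (List ℕ)) →
        o' ∈ ([[36, 56], [15, 35], [37, 42], [29, 34], [39], [32]] : List (List ℕ)) → (∀ r ∈ o, r ∉ o') →
        ∃ g : ↥(twistedE6 K q), (g : GL chevE6.Idx K) =
          El [o, o', o].flatten (fun r => if r ∈ o then (1 : K) else -1) ∧
            Commute (ρ g) ((heis S).E ρ ψ 0) := by
      intro o o' ho ho' hdis
      have hmem : ∀ x ∈ ([[36, 56], [15, 35], [37, 42], [29, 34], [39], [32]] : List (List ℕ)),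
          x ∈ Orbs.take 18 ∧ ∀ r ∈ x, graphE6.sign r = 1 ∧ graphE6.img r ∈ x := by decide +kernel
      have hos : ∀ x ∈ [o, o', o], x ∈ Orbs.take 18 := by
        intro x hx
        simp only [List.mem_cons, List.not_mem_nil, or_false] at hx
        rcases hx with rfl | rfl | rfl
        exacts [(hmem _ ho).1, (hmem _ ho').1, (hmem _ ho).1]
      have ht : ∀ x ∈ [o, o', o], Compat q (fun r => if r ∈ o then (1 : K) else -1) x := by
        intro x hx r hr
        simp only [List.mem_cons, List.not_mem_nil, or_false] at hx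
        rcases hx with rfl | rfl | rfl
        · obtain ⟨e, hi⟩ := (hmem _ ho).2 r hr
          simp [hr, hi, e]
        · obtain ⟨e, hi⟩ := (hmem _ ho').2 r hr
          simp [show r ∉ o from fun h => hdis r h hr, show graphE6.img r ∉ o from fun h => hdis _ h hi, e, h1]
        · obtain ⟨e, hi⟩ := (hmem _ ho).2 r hr
          simp [hr, hi, e]
      obtain ⟨φ, -, hm⟩ := moves_El S hos ht
      exact ⟨gel S hos ht, rfl, E0_comm S ρ ψ hm⟩
    intro b hb
    have hc : ∀ L ∈ ([[36, 56], [37, 42]] : List (List ℕ)), okComm2 chevE6 L = true ∧ L.Nodup := by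
      decide +kernel
    have hc' : ∀ L ∈ ([[35, 15], [34, 29]] : List (List ℕ)), okComm chevE6 L = true := by decide +kernel
    simp only [List.mem_cons, List.not_mem_nil, or_false] at hb
    rcases hb with rfl | rfl | rfl
    · obtain ⟨g, hg, hgc⟩ := hmk [36, 56] [15, 35] (by simp) (by simp) (by decide)
      obtain ⟨hc1, hc2⟩ := hc [36, 56] (by simp)
      refine ⟨g, hg.trans ?_, hgc⟩
      have hp := factsE6.prod_ng (F := K) hc2 hc1 (fun _ => 1)
      simp only [List.map_cons, List.map_nil, show chevE6.simple ((5 : Fin 6) : ℕ) = 36 by decide +kernel,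
        show chevE6.simple ((0 : Fin 6) : ℕ) = 56 by decide +kernel] at hp ⊢
      rw [hp]
      simp [El_cons, El_nil, CommSys.prodOver, Facts.sys_x, show chevE6.neg 56 = 15 from rfl,
        show chevE6.neg 36 = 35 from rfl, mul_assoc]
      rw [← mul_assoc (X 15 (-1 : K)), (factsE6.xg_commute (hc' [35, 15] (by simp)) (r := 15) (s := 35) (by simp)
        (by simp) (-1 : K) (-1 : K)).eq, mul_assoc]
    · obtain ⟨g, hg, hgc⟩ := hmk [37, 42] [29, 34] (by simp) (by simp) (by decide)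
      obtain ⟨hc1, hc2⟩ := hc [37, 42] (by simp)
      refine ⟨g, hg.trans ?_, hgc⟩
      have hp := factsE6.prod_ng (F := K) hc2 hc1 (fun _ => 1)
      simp only [List.map_cons, List.map_nil, show chevE6.simple ((4 : Fin 6) : ℕ) = 37 by decide +kernel,
        show chevE6.simple ((2 : Fin 6) : ℕ) = 42 by decide +kernel] at hp ⊢
      rw [hp]
      simp [El_cons, El_nil, CommSys.prodOver, Facts.sys_x, show chevE6.neg 42 = 29 from rfl,
        show chevE6.neg 37 = 34 from rfl, mul_assoc]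
      rw [← mul_assoc (X 29 (-1 : K)), (factsE6.xg_commute (hc' [34, 29] (by simp)) (r := 29) (s := 34) (by simp)
        (by simp) (-1 : K) (-1 : K)).eq, mul_assoc]
    · obtain ⟨g, hg, hgc⟩ := hmk [39] [32] (by simp) (by simp) (by decide)
      refine ⟨g, hg.trans ?_, hgc⟩
      simp [El_cons, El_nil, show chevE6.simple 3 = 39 by decide +kernel, factsE6.ng_eq,
        show chevE6.neg 39 = 32 from rfl, mul_assoc]
  have hall : ∀ ω : List (List (Fin 6)), (∀ b ∈ ω, b ∈ ([[5, 0], [4, 2], [3]] : List (List (Fin 6)))) →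
      ∃ g : ↥(twistedE6 K q),
        (g : GL chevE6.Idx K) = (ω.flatten.map fun i => factsE6.ng (chevE6.simple i.val) (1 : K)).prod ∧
          Commute (ρ g) ((heis S).E ρ ψ 0) := by
    intro ω hω
    induction ω with
    | nil => exact ⟨1, by simp, by rw [ρ.map_one]; exact Commute.one_left _⟩
    | cons b ω ih =>
      obtain ⟨g, hg, hgc⟩ := hblock b (hω b List.mem_cons_self)
      obtain ⟨g', hg', hgc'⟩ := ih fun x hx => hω x (List.mem_cons_of_mem _ hx)
      refine ⟨g * g', ?_, by rw [ρ.map_mul]; exact hgc.mul_left hgc'⟩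
      rw [Subgroup.coe_mul, hg, hg', List.flatten_cons, List.map_append, List.prod_append]
  obtain ⟨g, hg, hgc⟩ := hall [[5, 0], [4, 2], [3], [4, 2], [5, 0]] (by decide)
  obtain ⟨-, c, hc, hconj⟩ := conj_word (K := K) ([[5, 0], [4, 2], [3], [4, 2], [5, 0]] : List (List (Fin 6))).flatten
    (show 60 < chevE6.nroots by decide)
  rw [show ([[5, 0], [4, 2], [3], [4, 2], [5, 0]] : List (List (Fin 6))).flatten.foldr
    (fun i r => chevE6.reflectRoot i.val r) 60 = 11 by decide +kernel, ← hg] at hconj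
  exact ⟨g, ⟨c, hc, hconj⟩, hgc⟩

/-- Some nontrivial weight of the subgroup occurs. -/
theorem exists_WT (hψ : ψ ≠ 1) (hs : ρ (gs S) * (heis S).E ρ ψ 0 ≠ (heis S).E ρ ψ 0) :
    ∃ η : YH S, η ≠ 0 ∧ WT S ρ ψ (η : YS S) ≠ 0 := by
  classical
  by_contra h
  push Not at h
  apply hs
  obtain ⟨g, ⟨c, hc, hconj⟩, hgc⟩ := levi_word S ρ ψ
  have h60 : MulAut.conj (g : GL chevE6.Idx K) (X 60 c⁻¹) = (gs S : GL chevE6.Idx K) := by
    rw [hconj, mul_inv_cancel₀ hc, gs_val]
  have hmem : X 60 c⁻¹ ∈ twistedE6 K q := by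
    have e : X 60 c⁻¹ = ((g⁻¹ * gs S * g : ↥(twistedE6 K q)) : GL chevE6.Idx K) := by
      rw [Subgroup.coe_mul, Subgroup.coe_mul, Subgroup.coe_inv, ← h60, MulAut.conj_apply]
      group
    rw [e]; exact SetLike.coe_mem _
  have hcq : c⁻¹ ^ q = c⁻¹ := by
    have h1 : S.T.sig (X 60 c⁻¹) = X 60 c⁻¹ := (S.le_fix hmem).2
    rw [sig_X S (by decide : (60 : ℕ) < chevE6.nroots) (by decide +kernel),
      show graphE6.img 60 = 60 by decide +kernel, show graphE6.sign 60 = 1 by decide +kernel, Int.cast_one,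
      one_mul] at h1
    exact factsE6.xg_inj (by decide : (60 : ℕ) < chevE6.nroots) h1
  obtain ⟨a, ha, ha60, hai⟩ : ∃ a ∈ R19.adj, a.2.1 = 60 ∧ π a.1 = a.1 := by decide +kernel
  obtain ⟨hz, -⟩ := (row_spec (row_ok okMain R19_mem)).2.2.2.2.2.2.2.2.1 a ha
  set u : YU S := ⟨⟨Pi.single a.1 ((a.2.2 : K) * c⁻¹), fx_main.1 (fx_single S hai (supp_main _)
    (by rw [mul_pow, hcq, pow_q_int S]))⟩, fun m hm => Pi.single_eq_of_ne
      (fun e : m = a.1 => hm (e ▸ (List.mem_map_of_mem ha : a.1 ∈ P1))) _⟩ with hu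
  have htau : (tau S u : GL chevE6.Idx K) = X 60 c⁻¹ := by
    show El R19.T.flatten (tr ((u : YS S) : Pos → K)) = _
    rw [El_congr (t' := fun r => if r = 60 then c⁻¹ else 0) fun r hr => ?_]
    · rw [show R19.T.flatten = [39, 40, 43, 41, 58, 44, 45, 59, 60] by decide +kernel]
      simp [El_cons, El_nil, factsE6.xg_zero]
    · obtain ⟨b, hb, rfl⟩ := adj_of_root (row_ok okMain R19_mem) hr
      rw [tr_eq hb (YU_i S u)]
      show (Pi.single a.1 ((a.2.2 : K) * c⁻¹) : Pos → K) b.1 / _ = _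
      by_cases hba : b = a
      · subst hba
        rw [Pi.single_eq_same, if_pos ha60, mul_div_cancel_left₀ _ (unit_ne hz)]
      · rw [Pi.single_eq_of_ne (fun e => hba (List.inj_on_of_nodup_map okP1.1 hb ha e)), zero_div,
          if_neg (fun e => hba (adj_unique (row_ok okMain R19_mem) hb ha (e.trans ha60.symm)))]
  have hgs : gs S = g * tau S u * g⁻¹ := Subtype.ext (by rw [← h60, ← htau]; rfl)
  have htriv : ρ (tau S u) * (heis S).E ρ ψ 0 = (heis S).E ρ ψ 0 := by
    have hop : opT S ρ ψ u = opT S ρ ψ 0 := op_eq_zero_apply (opT_add S ρ ψ) fun χ hχ => by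
      obtain ⟨η, rfl⟩ := (chiT_bijective S ψ hψ).2 χ
      refine h η fun h0 => hχ ?_
      subst h0
      show ψ ((heis S).B 0 _) = 1
      have hB : ∀ y, (heis S).B 0 y = 0 := fun y => by
        have e := (heis S).B_add_left 0 0 y
        rwa [add_zero, left_eq_add] at e
      rw [hB, AddChar.map_zero_eq_one]
    rw [opT_zero] at hop
    exact hop
  have hg' : Commute (ρ g⁻¹) ((heis S).E ρ ψ 0) := by
    show _ = _
    calc ρ g⁻¹ * (heis S).E ρ ψ 0 = ρ g⁻¹ * ((heis S).E ρ ψ 0 * ρ g) * ρ g⁻¹ := by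
          simp only [mul_assoc, ← ρ.map_mul, mul_inv_cancel, ρ.map_one, mul_one]
      _ = _ := by rw [← hgc.eq, ← mul_assoc (ρ g⁻¹), ← ρ.map_mul, inv_mul_cancel, ρ.map_one, one_mul]
  rw [hgs, ρ.map_mul, ρ.map_mul, mul_assoc, hg'.eq, ← mul_assoc, mul_assoc (ρ g), htriv, hgc.eq, mul_assoc,
    ← ρ.map_mul, mul_inv_cancel, ρ.map_one, mul_one]

/-- The lower bound. -/
theorem step_bound (hψ : ψ ≠ 1) (hs : ρ (gs S) * (heis S).E ρ ψ 0 ≠ (heis S).E ρ ψ 0) :
    (q - 1) * (q ^ 4 + q ^ 2 + 1) ≤ (heis S).W ρ ψ 0 := by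
  classical
  obtain ⟨η, hη, hW⟩ := exists_WT S ρ ψ hψ hs
  have hsum : ∑ v ∈ Dom q cfgH.supp0, WH S ρ ψ v ≤ (heis S).W ρ ψ 0 := by
    have htot : ((∑ η : YH S, WT S ρ ψ (η : YS S) : ℕ) : ℂ) = (heis S).W ρ ψ 0 := by
      rw [← (heis S).trace_E, ← opT_zero S ρ ψ, trace_eq_sum (opT_add S ρ ψ), Nat.cast_sum]
      exact Fintype.sum_bijective _ (chiT_bijective S ψ hψ) _ _ fun η => by
        rw [AddChar.map_zero_eq_one, one_mul]; rfl
    rw [← Nat.cast_inj.1 htot, ← Finset.sum_erase_add _ _ (Finset.mem_univ (0 : YH S))]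
    refine le_trans (le_of_eq ?_) (Nat.le_add_right _ _)
    refine (Finset.sum_bij' (fun (η : YH S) _ => ((η : YS S) : Pos → K))
      (fun v hv => (⟨⟨v, (mem_Dom.1 hv).1.1⟩, (mem_Dom.1 hv).1.2⟩ : YH S))
      (fun η hη => ?_) (fun v hv => ?_) (fun η _ => rfl) (fun v _ => rfl)
      (fun η _ => (WH_coe S ρ ψ (η : YS S)).symm)).symm
    · exact mem_Dom.2 ⟨⟨(η : YS S).2, η.2⟩, fun h => (Finset.mem_erase.1 hη).1 (Subtype.ext (Subtype.ext h))⟩
    · exact Finset.mem_erase.2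
        ⟨fun h => (mem_Dom.1 hv).2 (congrArg (fun x : YH S => ((x : YS S) : Pos → K)) h), Finset.mem_univ _⟩
  refine le_trans ?_ hsum
  have hfx : Fx q cfgH.supp0 ((η : YS S) : Pos → K) := ⟨(η : YS S).2, η.2⟩
  have hne : ((η : YS S) : Pos → K) ≠ 0 := fun h => hη (Subtype.ext (Subtype.ext h))
  have hq := S.hq
  have hb := orbit_bound S okH (inv_h S ρ ψ) hfx hne (by rwa [WH_coe])
  rcases hb with ⟨R, hR, hle⟩ | ⟨-, w, hw, -, -, hle⟩
  · refine le_trans ?_ hle
    have hlen : ∀ R ∈ cfgH.rows, (R.adj.map Prod.fst).length = 4 := by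
      simp [cfgH]
    rw [hlen R hR, ← mul_assoc, mul_comm 2, mul_assoc]
    refine Nat.mul_le_mul_left _ ?_
    have h1 : q ^ 2 * 2 ^ 2 ≤ q ^ 4 := by
      calc q ^ 2 * 2 ^ 2 ≤ q ^ 2 * q ^ 2 := Nat.mul_le_mul_left _ (Nat.pow_le_pow_left hq 2)
        _ = q ^ 4 := by ring
    have h2 : 1 ≤ q ^ 2 := Nat.one_le_pow _ _ (by omega)
    omega
  · refine le_trans ?_ hle
    refine le_trans (le_of_eq ?_) (Nat.le_mul_of_pos_left _ (Nat.pos_of_ne_zero hw))
    have hl : cfgH.rows.map lowExp = [4, 2, 0] := by decide +kernel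
    rw [show (cfgH.rows.map fun R => (q - 1) * q ^ lowExp R) = (cfgH.rows.map lowExp).map fun e => (q - 1) * q ^ e by
      rw [List.map_map]; rfl, hl]
    simp [mul_add, add_assoc]

end Cfsg.Agent.Small.TwE6Deg
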