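import Cfsg.Agent.Lib.Small.TwE6Deg.Invariant

/-!
A long root element of the Levi subgroup is not trivial on the vectors fixed by the radical.
-/

set_option autoImplicit false
set_option maxRecDepth 4000
set_option linter.unusedSectionVars false

namespace Cfsg.Agent.Small.TwE6Deg

open Cfsg.Lie Cfsg.Agent.Lie Finset Module
open Cfsg.Agent.Lie.E6 (Setup)
open Cfsg.Agent.Small.D4Degree (wm)
open scoped MatrixGroups

variable {K : Type*} [Field K] [Fintype K] {q : ℕ} (S : Setup K q)

/-- All positions. -/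
def allPos : List Pos := cfgMain.supp0

/-- The positions moved by the root 11. -/
def srcs : List Pos := [0, 1, 2, 3, 6, 9]

theorem okSrcs : srcs.all (fun i => (List.finRange QL.length).any fun k => ([1, -1] : List ℤ).any fun z =>
    okPaths chevE6 QL [11] allPos k [idPath k, onePath i k 11 z]) = true := by decide +kernel

/-- The rows fixed by the root 11. -/
def okFixRows : Bool :=
  cfgMain.rows.all fun R => srcs.contains R.i || (okComm chevE6 (11 :: R.low.flatten) &&
    (List.finRange QL.length).all fun k =>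
      ([[11], [12, 26], [15, 35]] : List (List ℕ)).all fun o =>
        okPaths chevE6 QL o [R.i] k (if k = R.i then [idPath k] else []))

theorem okFixRows_eq : okFixRows = true := by decide +kernel

theorem commTerms_11 : chevE6.commTerms 35 12 = [(11, -1, 1, 1)] ∧ chevE6.commTerms 15 26 = [(11, 1, 1, 1)] ∧
    chevE6.commTerms 15 12 = [] ∧ chevE6.commTerms 35 26 = [] ∧ chevE6.commTerms 11 26 = [] ∧
    chevE6.commTerms 11 35 = [] ∧ chevE6.commTerms 11 15 = [] ∧ chevE6.commTerms 11 12 = [] := by decide +kernel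

include S in
/-- The root element 11 is a commutator of two orbit elements. -/
theorem gs_comm : ∃ (o o' : List ℕ) (t t' : ℕ → K) (ho : ∀ x ∈ [o], x ∈ Orbs.take 18) (ho' : ∀ x ∈ [o'], x ∈ Orbs.take 18)
    (ht : ∀ x ∈ [o], Compat q t x) (ht' : ∀ x ∈ [o'], Compat q t' x), o = [12, 26] ∧ o' = [15, 35] ∧
      gs S = gel S ho ht * gel S ho' ht' * (gel S ho ht)⁻¹ * (gel S ho' ht')⁻¹ := by
  have hfacts : graphE6.img 12 = 26 ∧ graphE6.img 26 = 12 ∧ graphE6.img 15 = 35 ∧ graphE6.img 35 = 15 ∧
      graphE6.sign 12 = graphE6.sign 26 ∧ graphE6.sign 15 = graphE6.sign 35 ∧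
      (graphE6.sign 12 = 1 ∨ graphE6.sign 12 = -1) ∧ (graphE6.sign 15 = 1 ∨ graphE6.sign 15 = -1) := by
    decide +kernel
  obtain ⟨i12, i26, i15, i35, e1, e2, u1, u2⟩ := hfacts
  obtain ⟨c1, c2, c3, c4, c5, c6, c7, c8⟩ := commTerms_11
  have ho : ∀ x ∈ ([[12, 26]] : List (List ℕ)), x ∈ Orbs.take 18 := by decide
  have ho' : ∀ x ∈ ([[15, 35]] : List (List ℕ)), x ∈ Orbs.take 18 := by decide
  let t : ℕ → K := fun r => if r = 12 then 1 else (graphE6.sign 12 : K)
  have ht : ∀ x ∈ ([[12, 26]] : List (List ℕ)), Compat q t x := by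
    intro x hx r hr
    obtain rfl := List.mem_singleton.1 hx
    simp only [List.mem_cons, List.not_mem_nil, or_false] at hr
    rcases hr with rfl | rfl
    · simp [t, i12]
    · simp [t, i26, ← e1, pow_q_int S, unit_mul u1]
  let t' : K → ℕ → K := fun c r => if r = 15 then c else (graphE6.sign 15 : K) * c ^ q
  have ht' : ∀ c, ∀ x ∈ ([[15, 35]] : List (List ℕ)), Compat q (t' c) x := by
    intro c x hx r hr
    obtain rfl := List.mem_singleton.1 hx
    simp only [List.mem_cons, List.not_mem_nil, or_false] at hr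
    rcases hr with rfl | rfl
    · simp [t', i15]
    · simp [t', i35, ← e2, mul_pow, pow_q_int S, S.pow_sq, ← mul_assoc, unit_mul u2]
  set v : K → K := fun c => (-(graphE6.sign 12 : K)) * c + (graphE6.sign 15 : K) * c ^ q with hv
  have key : ∀ c, ((gel S ho ht * gel S ho' (ht' c) * (gel S ho ht)⁻¹ * (gel S ho' (ht' c))⁻¹ :
      ↥(twistedE6 K q)) : GL chevE6.Idx K) = X 11 (v c) := by
    intro c
    show El [12, 26] t * El [15, 35] (t' c) * (El [12, 26] t)⁻¹ * (El [15, 35] (t' c))⁻¹ = X 11 (v c)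
    simp only [El_cons, El_nil, mul_one]
    set A := X 12 (t 12) with hA
    set B := X 26 (t 26) with hB
    set C := X 15 (t' c 15) with hC
    set D := X 35 (t' c 35) with hD
    have hlt : ∀ r ∈ ([11, 12, 15, 26, 35] : List ℕ), r < chevE6.nroots := by decide
    have hne : ∀ p ∈ ([(35, 12), (15, 26), (15, 12), (35, 26), (11, 26), (11, 35), (11, 15), (11, 12)] :
        List (ℕ × ℕ)), p.2 ≠ p.1 ∧ p.2 ≠ chevE6.neg p.1 := by decide +kernel
    have hc : ∀ (r s : ℕ) (x y : K), r < chevE6.nroots → s < chevE6.nroots → s ≠ r ∧ s ≠ chevE6.neg r →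
        chevE6.commTerms r s = [] → Commute (X s y) (X r x) := by
      intro r s x y h1 h2 h3 h4
      have := X_comm (K := K) h1 h2 h3.1 h3.2 x y
      rwa [h4, List.map_nil, List.prod_nil, mul_one] at this
    have hAC : Commute A C := hc 15 12 _ _ (hlt _ (by simp)) (hlt _ (by simp)) (hne (15, 12) (by simp)) c3
    have hBD : Commute B D := hc 35 26 _ _ (hlt _ (by simp)) (hlt _ (by simp)) (hne (35, 26) (by simp)) c4
    have hP : ∀ x, Commute B (X 11 x) := fun x =>
      hc 11 26 _ _ (hlt _ (by simp)) (hlt _ (by simp)) (hne (11, 26) (by simp)) c5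
    have hPD : ∀ x, Commute D (X 11 x) := fun x =>
      hc 11 35 _ _ (hlt _ (by simp)) (hlt _ (by simp)) (hne (11, 35) (by simp)) c6
    have hPC : ∀ x, Commute C (X 11 x) := fun x =>
      hc 11 15 _ _ (hlt _ (by simp)) (hlt _ (by simp)) (hne (11, 15) (by simp)) c7
    have hPA : ∀ x, Commute A (X 11 x) := fun x =>
      hc 11 12 _ _ (hlt _ (by simp)) (hlt _ (by simp)) (hne (11, 12) (by simp)) c8
    obtain ⟨p, hp, hAD⟩ : ∃ p, p = t' c 35 * t 12 ∧ A * D = D * A * X 11 p := by
      refine ⟨_, rfl, ?_⟩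
      have := X_comm (K := K) (hlt 35 (by simp)) (hlt 12 (by simp)) (hne (35, 12) (by simp)).1
        (hne (35, 12) (by simp)).2 (t' c 35) (t 12)
      rw [c1] at this
      simp only [List.map_cons, List.map_nil, List.prod_cons, List.prod_nil, mul_one, pow_one, Int.cast_neg,
        Int.cast_one] at this
      rw [hA, hD, this]
      congr 2
      ring
    obtain ⟨p', hp', hBC⟩ : ∃ p', p' = -(t' c 15 * t 26) ∧ B * C = C * B * X 11 p' := by
      refine ⟨_, rfl, ?_⟩
      have := X_comm (K := K) (hlt 15 (by simp)) (hlt 26 (by simp)) (hne (15, 26) (by simp)).1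
        (hne (15, 26) (by simp)).2 (t' c 15) (t 26)
      rw [c2] at this
      simp only [List.map_cons, List.map_nil, List.prod_cons, List.prod_nil, mul_one, pow_one, Int.cast_one,
        one_mul] at this
      rw [hB, hC, this]
      congr 2
      ring
    have hvc : X 11 (v c) = X 11 (p + p') := by
      congr 1
      simp only [hv, hp, hp', t, t']
      norm_num
      ring
    rw [hvc]
    have h1 : A * B * (C * D) = C * D * (A * B) * X 11 (p + p') := by
      calc A * B * (C * D) = A * (B * C) * D := by simp only [mul_assoc]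
        _ = A * C * B * (X 11 p' * D) := by rw [hBC]; simp only [mul_assoc]
        _ = C * (A * (B * D)) * X 11 p' := by rw [← (hPD p').eq, hAC.eq]; simp only [mul_assoc]
        _ = C * (A * D) * B * X 11 p' := by rw [hBD.eq]; simp only [mul_assoc]
        _ = C * D * A * (X 11 p * B) * X 11 p' := by rw [hAD]; simp only [mul_assoc]
        _ = C * D * (A * B) * (X 11 p * X 11 p') := by rw [← (hP p).eq]; simp only [mul_assoc]
        _ = _ := by rw [X, X, X, ← factsE6.xg_add]
    have hcomm : Commute (C * D * (A * B)) (X 11 (p + p')) :=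
      (((hPC _).mul_left (hPD _)).mul_left ((hPA _).mul_left (hP _)))
    rw [h1, hcomm.eq]
    group
  obtain ⟨c0, hc0⟩ := exists_change (b := (graphE6.sign 15 : K))
    (neg_ne_zero.2 (unit_ne u1) : (-(graphE6.sign 12 : K)) ≠ 0) S.hq S.hK
  have hvq : v c0 ^ q = v c0 := by
    have hmem : X 11 (v c0) ∈ twistedE6 K q := by
      have h := (gel S ho ht * gel S ho' (ht' c0) * (gel S ho ht)⁻¹ * (gel S ho' (ht' c0))⁻¹).2
      rwa [key] at h
    have h1 : S.T.sig (X 11 (v c0)) = X 11 (v c0) := (S.le_fix hmem).2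
    rw [sig_X S (by decide : (11 : ℕ) < chevE6.nroots) (by decide +kernel),
      show graphE6.img 11 = 11 by decide +kernel, show graphE6.sign 11 = 1 by decide +kernel, Int.cast_one,
      one_mul] at h1
    exact factsE6.xg_inj (by decide : (11 : ℕ) < chevE6.nroots) h1
  set l : K := (v c0)⁻¹ with hl
  have hlq : l ^ q = l := by rw [hl, inv_pow, hvq]
  have hv1 : v (l * c0) = 1 := by
    have : v (l * c0) = l * v c0 := by
      simp only [hv, mul_pow, hlq]; ring
    rw [this, hl, inv_mul_cancel₀ hc0]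
  refine ⟨_, _, _, _, ho, ho', ht, ht' (l * c0), rfl, rfl, ?_⟩
  apply Subtype.ext
  rw [key, gs_val, hv1]

end Cfsg.Agent.Small.TwE6Deg
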