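import Cfsg.Agent.Lib.Small.TwE6Deg.Elements

/-!
The weights of a representation on the vectors fixed by the centre of the radical.
-/

set_option autoImplicit false
set_option maxRecDepth 4000
set_option linter.unusedSectionVars false

namespace Cfsg.Agent.Small.TwE6Deg

open Cfsg.Lie Cfsg.Agent.Lie Finset
open Cfsg.Agent.Lie.E6 (Setup)
open scoped MatrixGroups

variable {K : Type*} [Field K] [Fintype K] {q : ℕ} (S : Setup K q)

/-- The roots left when the translated coordinates in a set vanish. -/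
def lTof (R : Row) (Z : List Pos) : List ℕ :=
  R.T.flatten.filter fun α => !(R.adj.any fun a => decide (a.2.1 = α) && Z.contains a.1)

/-- A neighbour whose parameter vanishes with the coordinates in a set. -/
def okZero (R : Row) (Z : List Pos) (a : Adj) : Bool :=
  Z.contains a.1 || Z.any fun m =>
    match pathsTo chevE6 QL (lTof R Z) [R.i] m with
    | [(_, _, z, rs)] => decide (z = 1 ∨ z = -1) &&
        rs.all fun r => decide (r = a.2.1) || (decide (r = graphE6.img a.2.1) && decide (graphE6.img r = a.2.1))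
    | _ => false

/-- In the cells only the later orbits occur. -/
def okKills : Bool :=
  cfgMain.rows.all fun R => R.adj.all fun a =>
    R.low.flatten.contains a.2.1 || okZero R (cfgMain.longs.filter fun m => decide (m < R.i)) a

/-- The extremal positions not reached by an orbit from the others. -/
def zeros (o : List ℕ) : List Pos :=
  cfgMain.longs.filter fun m => okPaths chevE6 QL o cfgMain.others m []

/-- A change of a short coordinate leads to a translate which cannot have it. -/
def okShort : Bool :=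
  cfgMain.shorts.all fun e => okPaths chevE6 QL e.2.2 cfgMain.others e.1 [idPath e.1] &&
    cfgMain.rows.any fun R => decide (R.i = e.2.1) &&
      R.adj.any fun a => decide (a.1 = e.1) && okZero R (zeros e.2.2) a

theorem okKills_eq : okKills = true := by decide +kernel

theorem okShort_eq : okShort = true := by decide +kernel

include S in
theorem inv_fx {W : (Pos → K) → ℕ} {R : Row} (hR : R ∈ cfgMain.rows) (hW : Inv q cfgMain.supp0 cfgMain.Lo W)
    {y : Pos → K} (hy : Fx q cfgMain.supp0 y) (hyi : y R.i ≠ 0) (h0 : RestZero R y) {Z : List Pos}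
    (hZ : ∀ m ∈ Z, y m = 0) {a : Adj} (ha : a ∈ R.adj) (hok : okZero R Z a = true) : y a.1 = 0 := by
  have hC := okMain
  have hrow := row_ok hC hR
  simp only [okZero, Bool.or_eq_true, List.contains_iff_mem, List.any_eq_true] at hok
  rcases hok with h | ⟨m, hm, hmatch⟩
  · exact hZ _ h
  set t : ℕ → K := fun α => -killT R y α with ht
  have e := eq_trans S hC hR hW hy hyi h0
  have hfilt : mvs chevE6 QL R.T.flatten t (Pi.single R.i (y R.i)) =
      mvs chevE6 QL (lTof R Z) t (Pi.single R.i (y R.i)) := by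
    refine mvs_filter _ _ _ (fun α hα hno => ?_) _
    simp only [Bool.not_eq_false', List.any_eq_true, Bool.and_eq_true, decide_eq_true_eq,
      List.contains_iff_mem] at hno
    obtain ⟨b, hb, rfl, hbZ⟩ := hno
    simp [ht, killT_eq hrow y hb, hZ _ hbZ]
  have hval : y m = mvs chevE6 QL (lTof R Z) t (Pi.single R.i (y R.i)) m := by
    rw [← hfilt]; exact congrFun e m
  rcases hp : pathsTo chevE6 QL (lTof R Z) [R.i] m with _ | ⟨⟨x, x', z, rs⟩, _ | ⟨p, ps⟩⟩
  · rw [hp] at hmatch; simp at hmatch
  · rw [hp] at hmatch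
    simp only [Bool.and_eq_true, decide_eq_true_eq, List.all_eq_true, Bool.or_eq_true] at hmatch
    obtain ⟨hz, hrs⟩ := hmatch
    have hx : y m = (z : K) * (rs.map t).prod * (Pi.single R.i (y R.i) : Pos → K) x := by
      rw [hval, mvs_eq_psum _ _ (List.nodup_singleton _) _ (single_supp _ _), psum,
        show ((paths chevE6 QL (lTof R Z) [R.i]).filter fun p => decide (p.2.1 = m)) = _ from hp]
      simp [pval]
    have hxi : x = R.i := by
      have hmem : (x, x', z, rs) ∈ paths chevE6 QL (lTof R Z) [R.i] := by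
        have h1 : (x, x', z, rs) ∈ pathsTo chevE6 QL (lTof R Z) [R.i] m := by rw [hp]; exact List.mem_singleton_self _
        exact (List.mem_filter.1 h1).1
      have hsrc : ∀ (l : List ℕ) (p : Path QL), p ∈ paths chevE6 QL l [R.i] → p.1 = R.i := by
        intro l
        induction l with
        | nil => intro p hp'; simp [paths] at hp'; rw [hp']
        | cons α l ih =>
          intro p hp'
          rcases List.mem_append.1 hp' with h | h
          · exact ih p h
          · obtain ⟨p0, hp0, hstep⟩ := List.mem_filterMap.1 h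
            simp only [step, Option.map_eq_some_iff] at hstep
            obtain ⟨g, -, rfl⟩ := hstep
            exact ih p0 hp0
      exact hsrc _ _ hmem
    rw [hxi, Pi.single_eq_same, hZ m hm] at hx
    have hprod : (rs.map t).prod = 0 := by
      rcases mul_eq_zero.1 hx.symm with h | h
      · exact (mul_eq_zero.1 h).resolve_left (unit_ne hz)
      · exact absurd h hyi
    obtain ⟨r, hr, hr0⟩ := List.mem_map.1 (List.prod_eq_zero_iff.1 hprod)
    have hk : killT R y a.2.1 = 0 := by
      rcases hrs r hr with rfl | ⟨hre, hre'⟩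
      · simpa [ht] using hr0
      · obtain ⟨o, ho, hao⟩ := List.mem_flatten.1
          ((row_spec hrow).2.2.2.1 ▸ List.mem_map_of_mem (f := fun a : Adj => a.2.1) ha)
        have hro : r ∈ o := by
          have himg : ∀ o ∈ Orbs, ∀ r ∈ o, graphE6.img r ∈ o := by decide +kernel
          rw [hre]
          exact himg o ((row_spec hrow).2.2.1 o ho).2 _ hao
        have hc := compat_kill S hC hR hy o ho r hro
        rw [hre'] at hc
        have hr0' : killT R y r = 0 := by simpa [ht] using hr0
        rw [hc, hr0', zero_pow_q S, mul_zero]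
    rw [killT_eq hrow y ha, neg_eq_zero, div_eq_zero_iff] at hk
    exact hk.resolve_right (mul_ne_zero (unit_ne ((row_spec hrow).2.2.2.2.2.2.2.2.1 a ha).1) hyi)
  · rw [hp] at hmatch; simp at hmatch

variable {W : (Pos → K) → ℕ}

include S in
/-- Every weight has a nonzero extremal coordinate. -/
theorem long_ne (hW : Inv q cfgMain.supp0 cfgMain.Lo W) (hflat : Flat q cfgMain W) {y : Pos → K}
    (hy : Fx q cfgMain.supp0 y) (hne : y ≠ 0) (hWy : W y ≠ 0) : ∃ i ∈ cfgMain.longs, y i ≠ 0 := by
  by_contra hlong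
  push Not at hlong
  obtain ⟨-, -, -, hnd, hLo, -, -, -, -, hothers, hshorts⟩ := cfg_spec okMain
  have hys : ∀ m, m ∉ cfgMain.others → y m = 0 := by
    intro m hm
    by_cases hms : m ∈ cfgMain.supp0
    · exact hlong m (by_contra fun h => hm (List.mem_filter.2 ⟨hms, by simpa using h⟩))
    · exact hy.2 m hms
  obtain ⟨j, hj⟩ : ∃ j, y j ≠ 0 := by
    by_contra h
    push Not at h
    exact hne (funext h)
  obtain ⟨e, he, rfl⟩ := hothers j (by_contra fun h => hj (hys j h))
  obtain ⟨hoLo, hk, hch, hid⟩ := hshorts e he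
  have hs := List.all_eq_true.1 okShort_eq e he
  simp only [Bool.and_eq_true, List.any_eq_true, decide_eq_true_eq] at hs
  obtain ⟨hjj, R, hR, hRi, a, ha, haj, hz⟩ := hs
  obtain ⟨t, ht, hne'⟩ := change S hch (List.mem_of_mem_take (hLo _ hoLo).1) (hnd.filter _) hys hj
  obtain ⟨hfx, hWeq⟩ := hW.move [e.2.2] (by simpa using hoLo) t (by simpa using ht) y hy
  rw [List.flatten_singleton] at hfx hWeq
  rw [hid, List.map_nil, List.sum_nil, sub_zero, ← hRi] at hne'
  set y' := mvs chevE6 QL e.2.2 t y with hy'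
  have hWy' : W y' ≠ 0 := by rw [hy', hWeq]; exact hWy
  have hdom : y' ∈ Dom q cfgMain.supp0 := mem_Dom.2 ⟨hfx, fun h => hne' (by rw [h]; rfl)⟩
  have h0 := inv_fx S hR hW hfx hne' (hflat R hR y' hdom hWy' hne') (Z := zeros e.2.2) (fun m hm => ?_) ha hz
  · rw [haj, hy', mvs_at hjj t (hnd.filter _) y hys] at h0
    exact hj (by simpa [pval, idPath] using h0)
  · obtain ⟨-, hm2⟩ := List.mem_filter.1 hm
    rw [hy', mvs_at hm2 t (hnd.filter _) y hys]
    rfl

include S in
/-- A weight lies in the cell of its first extremal coordinate and is a translate by the later orbits. -/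
theorem in_cell (hW : Inv q cfgMain.supp0 cfgMain.Lo W) (hflat : Flat q cfgMain W) {y : Pos → K}
    (hy : y ∈ Dom q cfgMain.supp0) (hWy : W y ≠ 0) :
    ∃ R ∈ cfgMain.rows, y ∈ cell q cfgMain R ∧ (∀ a ∈ R.adj, a.2.1 ∉ R.low.flatten → y a.1 = 0) ∧
      y = mvs chevE6 QL R.low.flatten (fun α => -killT R y α) (Pi.single R.i (y R.i)) := by
  classical
  obtain ⟨hfx, hne⟩ := mem_Dom.1 hy
  obtain ⟨i0, hi0, hy0⟩ := long_ne S hW hflat hfx hne hWy
  set A := cfgMain.longs.toFinset.filter fun m => y m ≠ 0 with hA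
  have hAne : A.Nonempty := ⟨i0, by simp [hA, hi0, hy0]⟩
  obtain ⟨hiA, hmin⟩ : A.min' hAne ∈ A ∧ ∀ m ∈ A, A.min' hAne ≤ m := ⟨A.min'_mem hAne, A.min'_le⟩
  simp only [hA, Finset.mem_filter, List.mem_toFinset] at hiA
  obtain ⟨-, hmap, -⟩ := cfg_spec okMain
  obtain ⟨R, hR, hRi⟩ := List.mem_map.1 (hmap.symm ▸ hiA.1 : A.min' hAne ∈ cfgMain.rows.map Row.i)
  have hyi : y R.i ≠ 0 := hRi ▸ hiA.2
  have hbefore : ∀ m ∈ cfgMain.longs, m < R.i → y m = 0 := fun m hm hlt => by_contra fun h =>
    absurd (hmin m (by simp [hA, hm, h])) (not_le.2 (hRi ▸ hlt))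
  have h0 := hflat R hR y hy hWy hyi
  have hzero : ∀ a ∈ R.adj, a.2.1 ∉ R.low.flatten → y a.1 = 0 := by
    intro a ha hal
    have hk := List.all_eq_true.1 (List.all_eq_true.1 okKills_eq R hR) a ha
    simp only [Bool.or_eq_true, List.contains_iff_mem] at hk
    refine inv_fx S hR hW hfx hyi h0 (fun m hm => ?_) ha (hk.resolve_left hal)
    obtain ⟨hm1, hm2⟩ := List.mem_filter.1 hm
    exact hbefore m hm1 (by simpa using hm2)
  refine ⟨R, hR, mem_cell.2 ⟨hy, hyi, hbefore⟩, hzero, ?_⟩
  have hrow := row_ok okMain hR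
  have hlow := (row_spec hrow).2.2.2.2.2.2.2.2.2.2.2.2.1
  conv_lhs => rw [eq_trans S okMain hR hW hfx hyi h0]
  rw [mvs_filter _ _ (fun α => R.low.flatten.contains α) (fun α hα hno => ?_), ← hlow]
  obtain ⟨a, ha, rfl⟩ := adj_of_root hrow hα
  have hal : a.2.1 ∉ R.low.flatten := by
    intro h
    rw [List.contains_iff_mem.2 h] at hno
    exact Bool.noConfusion hno
  simp [killT_eq hrow y ha, hzero a ha hal]

include S in
/-- The number of weights of multiplicity one without remainders. -/
theorem card_weights (hW : Inv q cfgMain.supp0 cfgMain.Lo W) (hflat : Flat q cfgMain W)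
    [DecidablePred fun v => W v ≠ 0] :
    ((Dom q cfgMain.supp0).filter fun v => W v ≠ 0).card ≤
      (cfgMain.rows.map fun R => (q - 1) * q ^ lowExp R).sum := by
  classical
  have hndr : cfgMain.rows.Nodup := List.Nodup.of_map Row.i (by
    rw [(cfg_spec okMain).2.1]; exact (cfg_spec okMain).2.2.1)
  set SR : Row → Finset (Pos → K) := fun R => (Dom q cfgMain.supp0).filter fun v =>
    W v ≠ 0 ∧ v R.i ≠ 0 ∧ (∀ a ∈ R.adj, a.2.1 ∉ R.low.flatten → v a.1 = 0) ∧
      v = mvs chevE6 QL R.low.flatten (fun α => -killT R v α) (Pi.single R.i (v R.i)) with hSR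
  have hsub : ((Dom q cfgMain.supp0).filter fun v => W v ≠ 0) ⊆ cfgMain.rows.toFinset.biUnion SR := by
    intro v hv
    obtain ⟨hv1, hv2⟩ := Finset.mem_filter.1 hv
    obtain ⟨R, hR, hc, h1, h2⟩ := in_cell S hW hflat hv1 hv2
    exact Finset.mem_biUnion.2 ⟨R, List.mem_toFinset.2 hR,
      Finset.mem_filter.2 ⟨hv1, hv2, (mem_cell.1 hc).2.1, h1, h2⟩⟩
  refine (Finset.card_le_card hsub).trans (Finset.card_biUnion_le.trans ?_)
  rw [← List.sum_toFinset _ hndr]
  refine Finset.sum_le_sum fun R hR => ?_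
  rw [List.mem_toFinset] at hR
  have hrow := row_ok okMain hR
  obtain ⟨hi, -⟩ := row_long okMain hR
  obtain ⟨-, -, -, -, -, hndadj, -, -, hadj, -⟩ := row_spec hrow
  set P := (R.adj.filter fun a => R.low.flatten.contains a.2.1).map Prod.fst with hP
  have hPst : ∀ m ∈ P, π m ∈ P := fun m hm => by
    obtain ⟨a, ha, rfl⟩ := List.mem_map.1 hm
    exact low_stable S okMain hR hW a ha
  obtain ⟨Vs, hVs, hVmem⟩ := card_fx S (K := K) P ((List.filter_sublist.map _).nodup hndadj) hPst
  set U := (FqSet K q).erase (0 : K) with hU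
  have hUcard : U.card = q - 1 := by
    rw [hU, Finset.card_erase_of_mem (by simp [FqSet, zero_pow_q S]), card_FqSet S]
  let Φ : (Pos → K) → K × (Pos → K) := fun v => (v R.i, fun m => if m ∈ P then v m else 0)
  have hcard : (U ×ˢ Vs).card = (q - 1) * q ^ lowExp R := by
    rw [Finset.card_product, hUcard, hVs, hP]; rfl
  rw [← hcard]
  refine Finset.card_le_card_of_injOn Φ (fun v hv => ?_) fun v hv v' hv' h => ?_
  · simp only [hSR, Finset.mem_coe, Finset.mem_filter] at hv
    obtain ⟨hvD, -, hvi, -, -⟩ := hv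
    have hfx := (mem_Dom.1 hvD).1
    simp only [Finset.coe_product, Set.mem_prod, Finset.mem_coe, hU, Finset.mem_erase]
    refine ⟨⟨hvi, hfx.mem_Fq S hi⟩, (hVmem _).2 (fx_of S _ _ (fun m => ?_) fun m hm => if_neg hm)⟩
    by_cases hm : m ∈ P
    · simp only [Φ, if_pos hm, if_pos (hPst m hm), hfx.at m]
    · have : π m ∉ P := fun h => hm (by simpa [(π_spec m).2.1] using hPst _ h)
      simp only [Φ, if_neg hm, if_neg this, zero_pow_q S, mul_zero]
  · simp only [hSR, Finset.mem_coe, Finset.mem_filter] at hv hv'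
    obtain ⟨-, -, -, -, hve⟩ := hv
    obtain ⟨-, -, -, -, hve'⟩ := hv'
    simp only [Φ, Prod.mk.injEq] at h
    obtain ⟨h1, h2⟩ := h
    rw [hve, hve', ← h1]
    refine mvs_congr _ (fun α hα => ?_) _
    obtain ⟨o, ho, hαo⟩ := List.mem_flatten.1 hα
    obtain ⟨a, ha, rfl⟩ := adj_of_root hrow
      (List.mem_flatten.2 ⟨o, (row_spec hrow).2.2.2.2.2.2.2.2.2.2.2.2.2.1 o ho, hαo⟩)
    have haP : a.1 ∈ P := List.mem_map_of_mem (List.mem_filter.2 ⟨ha, List.contains_iff_mem.2 hα⟩)
    have h3 := congrFun h2 a.1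
    simp only [if_pos haP] at h3
    show -killT R v a.2.1 = -killT R v' a.2.1
    rw [killT_eq hrow v ha, killT_eq hrow v' ha, h3, h1]

end Cfsg.Agent.Small.TwE6Deg
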